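import Cfsg.Agent.Lib.Fus.MetacyclicTwoAut
import Cfsg.Agent.Lib.Grp.Frattini

/-!
Products of two cyclic groups and metacyclic `2`-groups: Itô's theorem, the criterion of Blackburn
(`X` is metacyclic as soon as `X / rSub X` is), and the quotient by fourth powers.
-/

set_option autoImplicit false
set_option linter.style.haveILetI false
set_option linter.unusedSectionVars false

open scoped commutatorElement

namespace Cfsg.Agent.Fus.Bicyclic

open Subgroup

universe u

variable {X : Type u} [Group X]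

/-- `X` is a product of two cyclic subgroups. -/
def IsBic (x y : X) : Prop := ∀ g : X, ∃ i j : ℤ, g = x ^ i * y ^ j

/-- A group with commuting generators modulo a normal subgroup has its derived subgroup there. -/
theorem commutator_le_of_gens {N : Subgroup X} [N.Normal] {s : Set X} (hs : Subgroup.closure s = ⊤)
    (h : ∀ a ∈ s, ∀ b ∈ s, ⁅a, b⁆ ∈ N) : commutator X ≤ N := by
  have h1 : ∀ a b : X, QuotientGroup.mk' N a * QuotientGroup.mk' N b =
      QuotientGroup.mk' N b * QuotientGroup.mk' N a := by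
    have hc : ∀ a ∈ s, ∀ b : X, Commute (QuotientGroup.mk' N a) (QuotientGroup.mk' N b) := by
      intro a ha b
      have hb : b ∈ Subgroup.closure s := hs ▸ Subgroup.mem_top b
      induction hb using Subgroup.closure_induction with
      | mem u hu =>
        have := h a ha u hu
        rw [commutatorElement_def] at this
        refine commutatorElement_eq_one_iff_commute.1 ?_
        rw [commutatorElement_def, ← map_inv, ← map_inv, ← map_mul, ← map_mul, ← map_mul]
        exact (QuotientGroup.eq_one_iff _).2 this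
      | one => rw [map_one]; exact Commute.one_right _
      | mul u w _ _ hu hw => rw [map_mul]; exact hu.mul_right hw
      | inv u _ hu => rw [map_inv]; exact hu.inv_right
    intro a b
    have ha : a ∈ Subgroup.closure s := hs ▸ Subgroup.mem_top a
    induction ha using Subgroup.closure_induction with
    | mem u hu => exact hc u hu b
    | one => simp
    | mul u w _ _ hu hw => rw [map_mul, mul_assoc, hw, ← mul_assoc, hu, mul_assoc]
    | inv u _ hu =>
      rw [map_inv]
      exact ((show Commute _ _ from hu).inv_left).eq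
  rw [commutator_def]
  refine Subgroup.commutator_le.2 fun a _ b _ => (QuotientGroup.eq_one_iff _).1 ?_
  show QuotientGroup.mk' N ⁅a, b⁆ = 1
  rw [map_commutatorElement]
  exact commutatorElement_eq_one_iff_commute.2 (h1 a b)

/-! ### Itô's theorem -/

/-- The derived subgroup of a product of two cyclic groups is abelian. -/
theorem IsBic.derived_comm {x y : X} (h : IsBic x y) :
    ∀ s ∈ commutator X, ∀ t ∈ commutator X, s * t = t * s := by
  let A : Subgroup X := zpowers x
  let B : Subgroup X := zpowers y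
  have hAB : ∀ g, ∃ a ∈ A, ∃ b ∈ B, g = a * b := fun g => by
    obtain ⟨i, j, e⟩ := h g
    exact ⟨_, zpow_mem (mem_zpowers x) i, _, zpow_mem (mem_zpowers y) j, e⟩
  have hBA : ∀ g, ∃ b ∈ B, ∃ a ∈ A, g = b * a := fun g => by
    obtain ⟨a, ha, b, hb, e⟩ := hAB g⁻¹
    exact ⟨b⁻¹, inv_mem hb, a⁻¹, inv_mem ha, by rw [← _root_.mul_inv_rev, ← e, inv_inv]⟩
  have cA : ∀ a ∈ A, ∀ a' ∈ A, Commute a a' := by
    rintro a ⟨i, rfl⟩ a' ⟨j, rfl⟩
    exact Commute.zpow_zpow (Commute.refl x) i j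
  have cB : ∀ b ∈ B, ∀ b' ∈ B, Commute b b' := by
    rintro b ⟨i, rfl⟩ b' ⟨j, rfl⟩
    exact Commute.zpow_zpow (Commute.refl y) i j
  let T : Set X := {g | ∃ a ∈ A, ∃ b ∈ B, g = ⁅a, b⁆}
  have hT : commutator X ≤ closure T := by
    haveI : (closure T).Normal := by
      have key : ∀ g, ∀ t ∈ T, g * t * g⁻¹ ∈ closure T := by
        rintro g _ ⟨a, ha, b, hb, rfl⟩
        obtain ⟨a', ha', b', hb', rfl⟩ := hAB g
        have e1 : b' * ⁅a, b⁆ * b'⁻¹ = ⁅a, b'⁆⁻¹ * ⁅a, b' * b⁆ := by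
          simp only [commutatorElement_def]; group
        have e2 : ∀ u w : X, u ∈ A → w ∈ B → a' * ⁅u, w⁆ * a'⁻¹ ∈ closure T := by
          intro u w hu hw
          have e : a' * ⁅u, w⁆ * a'⁻¹ = ⁅a' * u, w⁆ * ⁅a', w⁆⁻¹ := by
            simp only [commutatorElement_def]; group
          rw [e]
          exact mul_mem (subset_closure ⟨_, mul_mem ha' hu, w, hw, rfl⟩)
            (inv_mem (subset_closure ⟨_, ha', w, hw, rfl⟩))
        have e3 : a' * b' * ⁅a, b⁆ * (a' * b')⁻¹ =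
            (a' * ⁅a, b'⁆ * a'⁻¹)⁻¹ * (a' * ⁅a, b' * b⁆ * a'⁻¹) := by
          simp only [commutatorElement_def]; group
        rw [e3]
        exact mul_mem (inv_mem (e2 _ _ ha hb')) (e2 _ _ ha (mul_mem hb' hb))
      refine ⟨fun t ht g => ?_⟩
      induction ht using closure_induction with
      | mem u hu => exact key g u hu
      | one => simp
      | mul u w _ _ hu hw =>
        rw [show g * (u * w) * g⁻¹ = (g * u * g⁻¹) * (g * w * g⁻¹) by group]
        exact mul_mem hu hw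
      | inv u _ hu =>
        rw [show g * u⁻¹ * g⁻¹ = (g * u * g⁻¹)⁻¹ by group]
        exact inv_mem hu
    refine commutator_le_of_gens (s := (A : Set X) ∪ B) ?_ ?_
    · refine eq_top_iff.2 fun g _ => ?_
      obtain ⟨a, ha, b, hb, rfl⟩ := hAB g
      exact mul_mem (subset_closure (Or.inl ha)) (subset_closure (Or.inr hb))
    · rintro a (ha | ha) b (hb | hb)
      · rw [commutatorElement_eq_one_iff_commute.2 (cA a ha b hb)]; exact one_mem _
      · exact subset_closure ⟨a, ha, b, hb, rfl⟩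
      · rw [← commutatorElement_inv]; exact inv_mem (subset_closure ⟨b, hb, a, ha, rfl⟩)
      · rw [commutatorElement_eq_one_iff_commute.2 (cB a ha b hb)]; exact one_mem _
  -- the generators commute
  have hgen : ∀ s ∈ T, ∀ t ∈ T, s * t = t * s := by
    rintro _ ⟨a, ha, b, hb, rfl⟩ _ ⟨c₀, hc₀, d₀, hd₀, rfl⟩
    obtain ⟨c, hc, rfl⟩ : ∃ c ∈ A, c₀ = c⁻¹ := ⟨c₀⁻¹, inv_mem hc₀, (inv_inv _).symm⟩
    obtain ⟨d, hd, rfl⟩ : ∃ d ∈ B, d₀ = d⁻¹ := ⟨d₀⁻¹, inv_mem hd₀, (inv_inv _).symm⟩
    obtain ⟨b3, hb3, a3, ha3, e3⟩ := hBA (c * b * c⁻¹)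
    obtain ⟨a4, ha4, b4, hb4, e4⟩ := hAB (d * a * d⁻¹)
    have hr : ∀ u ∈ A, ⁅u, b3 * a3⁆ = ⁅u, b3⁆ := fun u hu => by
      rw [show ⁅u, b3 * a3⁆ = ⁅u, b3⁆ * (b3 * ⁅u, a3⁆ * b3⁻¹) by
        simp only [commutatorElement_def]; group,
        commutatorElement_eq_one_iff_commute.2 (cA u hu a3 ha3)]
      simp
    have hl : ∀ w ∈ B, ⁅a4 * b4, w⁆ = ⁅a4, w⁆ := fun w hw => by
      rw [show ⁅a4 * b4, w⁆ = (a4 * ⁅b4, w⁆ * a4⁻¹) * ⁅a4, w⁆ by
        simp only [commutatorElement_def]; group,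
        commutatorElement_eq_one_iff_commute.2 (cB b4 hb4 w hw)]
      simp
    have hconj : ∀ g u w : X, g * ⁅u, w⁆ * g⁻¹ = ⁅g * u * g⁻¹, g * w * g⁻¹⁆ := fun g u w => by
      simp only [commutatorElement_def]; group
    have hfixA : ∀ u ∈ A, c * u * c⁻¹ = u := fun u hu => by
      rw [(cA c hc u hu).eq, mul_inv_cancel_right]
    have hfixB : ∀ w ∈ B, d * w * d⁻¹ = w := fun w hw => by
      rw [(cB d hd w hw).eq, mul_inv_cancel_right]
    have L : d * (c * ⁅a, b⁆ * c⁻¹) * d⁻¹ = ⁅a4, b3⁆ := by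
      rw [hconj, hfixA a ha, e3, hr a ha, hconj, hfixB b3 hb3, e4, hl b3 hb3]
    have R : c * (d * ⁅a, b⁆ * d⁻¹) * c⁻¹ = ⁅a4, b3⁆ := by
      rw [hconj, hfixB b hb, e4, hl b hb, hconj, hfixA a4 ha4, e3, hr a4 ha4]
    have E := L.trans R.symm
    show ⁅a, b⁆ * ⁅c⁻¹, d⁻¹⁆ = ⁅c⁻¹, d⁻¹⁆ * ⁅a, b⁆
    simp only [commutatorElement_def c⁻¹ d⁻¹, inv_inv]
    calc ⁅a, b⁆ * (c⁻¹ * d⁻¹ * c * d)
        = c⁻¹ * d⁻¹ * (d * (c * ⁅a, b⁆ * c⁻¹) * d⁻¹) * c * d := by group
      _ = c⁻¹ * d⁻¹ * (c * (d * ⁅a, b⁆ * d⁻¹) * c⁻¹) * c * d := by rw [E]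
      _ = _ := by group
  intro s hs t ht
  have := Subgroup.closure_le (K := Subgroup.centralizer (closure T : Set X)) (k := T) |>.2 ?_
  · exact ((mem_centralizer_iff.1 (this (hT hs))) t (hT ht)).symm
  · intro u hu
    rw [SetLike.mem_coe, mem_centralizer_iff]
    intro v hv
    induction hv using closure_induction with
    | mem w hw => exact hgen w hw u hu
    | one => simp
    | mul w w' _ _ h1 h2 => rw [mul_assoc, h2, ← mul_assoc, h1, mul_assoc]
    | inv w _ h1 => exact ((show Commute _ _ from h1).inv_left).eq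

theorem IsBic.closure_eq_top {x y : X} (h : IsBic x y) : Subgroup.closure ({x, y} : Set X) = ⊤ := by
  refine eq_top_iff.2 fun g _ => ?_
  obtain ⟨i, j, rfl⟩ := h g
  exact mul_mem (zpow_mem (subset_closure (by simp)) i) (zpow_mem (subset_closure (by simp)) j)

/-! ### The subgroups `rSub` and `ySub` -/

/-- `Φ(X') [X', X]` for a `2`-group with abelian derived subgroup. -/
def rSub (X : Type u) [Group X] : Subgroup X :=
  ⁅commutator X, (⊤ : Subgroup X)⁆ ⊔ closure ((fun d => d ^ 2) '' (commutator X : Set X))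

/-- `rSub X` together with all fourth powers. -/
def ySub (X : Type u) [Group X] : Subgroup X :=
  rSub X ⊔ closure (Set.range fun g : X => g ^ 4)

theorem map_rSub {Y : Type*} [Group Y] (f : X →* Y) (hf : Function.Surjective f) :
    (rSub X).map f = rSub Y := by
  have hc : (commutator X).map f = commutator Y := by
    rw [commutator_def, commutator_def, Subgroup.map_commutator,
      Subgroup.map_top_of_surjective f hf]
  unfold rSub
  rw [Subgroup.map_sup, Subgroup.map_commutator, hc, Subgroup.map_top_of_surjective f hf,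
    MonoidHom.map_closure, Set.image_image, ← hc, Subgroup.coe_map, Set.image_image]
  simp only [map_pow]

theorem map_ySub {Y : Type*} [Group Y] (f : X →* Y) (hf : Function.Surjective f) :
    (ySub X).map f = ySub Y := by
  unfold ySub
  rw [Subgroup.map_sup, map_rSub f hf, MonoidHom.map_closure, ← Set.range_comp]
  congr 2
  rw [← hf.range_comp (fun g : Y => g ^ 4)]
  congr 1
  funext g
  simp [Function.comp, map_pow]

instance rSub_characteristic : (rSub X).Characteristic :=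
  Subgroup.characteristic_iff_map_eq.2 fun α => map_rSub α.toMonoidHom α.surjective

instance ySub_characteristic : (ySub X).Characteristic :=
  Subgroup.characteristic_iff_map_eq.2 fun α => map_ySub α.toMonoidHom α.surjective

theorem rSub_le_commutator : rSub X ≤ commutator X := by
  refine sup_le (Subgroup.commutator_le_left _ _) ((closure_le _).2 ?_)
  rintro _ ⟨d, hd, rfl⟩
  exact pow_mem hd 2

theorem rSub_le_ySub : rSub X ≤ ySub X := le_sup_left

theorem pow_four_mem (g : X) : g ^ 4 ∈ ySub X := mem_sup_right (subset_closure ⟨g, rfl⟩)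

theorem sq_commutator_mem {d : X} (hd : d ∈ commutator X) : d ^ 2 ∈ rSub X :=
  mem_sup_right (subset_closure ⟨d, hd, rfl⟩)

theorem commutator_commutator_mem {d : X} (hd : d ∈ commutator X) (g : X) : ⁅d, g⁆ ∈ rSub X :=
  mem_sup_left (commutator_mem_commutator hd (mem_top g))

theorem mk_ne_zero_commutator {N : Subgroup X} [N.Normal] (hN : rSub X ≤ N) {d : X}
    (hd : d ∈ commutator X) :
    (∀ q : X ⧸ N, (d : X ⧸ N) * q = q * d) ∧ (d : X ⧸ N) ^ 2 = 1 := by
  constructor
  · intro q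
    obtain ⟨g, rfl⟩ := QuotientGroup.mk_surjective q
    refine commutatorElement_eq_one_iff_commute.1 ?_
    show ⁅QuotientGroup.mk' N d, QuotientGroup.mk' N g⁆ = 1
    rw [← map_commutatorElement]
    exact (QuotientGroup.eq_one_iff _).2 (hN (commutator_commutator_mem hd g))
  · rw [← QuotientGroup.mk_pow]
    exact (QuotientGroup.eq_one_iff _).2 (hN (sq_commutator_mem hd))

/-! ### Two generators with central commutator of order two -/

section TwoGen

variable {a b : X}

/-- The hypotheses: two generators whose commutator is central and squares to one. -/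
structure Pair (a b : X) : Prop where
  gen : closure ({a, b} : Set X) = ⊤
  central : ∀ g : X, ⁅a, b⁆ * g = g * ⁅a, b⁆
  sq : ⁅a, b⁆ ^ 2 = 1

theorem conj_sq_eq (h : Pair a b) : b * a ^ 2 * b⁻¹ = a ^ 2 := by
  have e : b * a * b⁻¹ = ⁅a, b⁆⁻¹ * a := by simp only [commutatorElement_def]; group
  have hi : Commute ⁅a, b⁆⁻¹ a := (show Commute _ _ from h.central a).inv_left
  calc b * a ^ 2 * b⁻¹ = (b * a * b⁻¹) ^ 2 := by rw [conj_pow]
    _ = _ := by rw [e, hi.mul_pow, inv_pow, h.sq, inv_one, one_mul]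

theorem Pair.commute_sq_left (h : Pair a b) : ∀ g, Commute (a ^ 2) g := by
  intro g
  have hg : g ∈ closure ({a, b} : Set X) := h.gen ▸ mem_top g
  induction hg using closure_induction with
  | mem u hu =>
    rcases hu with rfl | rfl
    · exact (Commute.refl u).pow_left 2
    · exact (mul_inv_eq_iff_eq_mul.1 (conj_sq_eq h)).symm
  | one => exact Commute.one_right _
  | mul u w _ _ hu hw => exact hu.mul_right hw
  | inv u _ hu => exact hu.inv_right

theorem Pair.symm (h : Pair a b) : Pair b a := by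
  refine ⟨by rw [Set.pair_comm]; exact h.gen, fun g => ?_, ?_⟩
  · rw [← commutatorElement_inv]
    exact ((show Commute _ _ from h.central g).inv_left).eq
  · rw [← commutatorElement_inv, inv_pow, h.sq, inv_one]

theorem Pair.commute_sq_right (h : Pair a b) : ∀ g, Commute (b ^ 2) g :=
  h.symm.commute_sq_left

theorem Pair.mul_sq (h : Pair a b) : (a * b) ^ 2 = a ^ 2 * b ^ 2 * ⁅a, b⁆ := by
  have e : (a * b) ^ 2 = a * a * (⁅a⁻¹, b⁆ * b) * b := by
    simp only [commutatorElement_def, pow_two]; group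
  have h1 : ⁅a⁻¹, b⁆ = ⁅a, b⁆ := by
    have e1 : ⁅a⁻¹, b⁆ = a⁻¹ * ⁅a, b⁆⁻¹ * a := by simp only [commutatorElement_def]; group
    rw [e1, inv_eq_of_mul_eq_one_right (show ⁅a, b⁆ * ⁅a, b⁆ = 1 from (pow_two _).symm.trans h.sq),
      mul_assoc, h.central, ← mul_assoc, inv_mul_cancel, one_mul]
  rw [e, h1, mul_assoc (a * a), mul_assoc ⁅a, b⁆, h.central, ← mul_assoc, pow_two, pow_two]

theorem Pair.mul_zpow_sq (h : Pair a b) (i j : ℤ) :
    (a ^ i * b ^ j) ^ 2 = a ^ (2 * i) * b ^ (2 * j) * ⁅a, b⁆ ^ (i * j) := by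
  have hc : ∀ g, Commute ⁅a, b⁆ g := h.central
  have e1 : a * b ^ j * a⁻¹ = ⁅a, b⁆ ^ j * b ^ j := by
    rw [← conj_zpow, ← (hc b).mul_zpow]
    congr 1
    simp only [commutatorElement_def]; group
  have e2 : b ^ j * a * (b ^ j)⁻¹ = ⁅a, b⁆ ^ (-j) * a := by
    have e3 : b ^ j * a = ⁅a, b⁆ ^ (-j) * (a * b ^ j * a⁻¹) * a := by
      rw [e1, ← mul_assoc (⁅a, b⁆ ^ (-j)), ← zpow_add, neg_add_cancel, zpow_zero, one_mul]
    rw [e3]; group
  have e4 : b ^ j * a ^ i * (b ^ j)⁻¹ = ⁅a, b⁆ ^ (-(j * i)) * a ^ i := by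
    rw [← conj_zpow, e2, ((hc a).zpow_left (-j)).mul_zpow, ← zpow_mul, neg_mul]
  have hneg : ⁅a, b⁆ ^ (-(j * i)) = ⁅a, b⁆ ^ (i * j) := by
    rw [zpow_neg, ← inv_zpow, mul_comm j i,
      inv_eq_of_mul_eq_one_right (show ⁅a, b⁆ * ⁅a, b⁆ = 1 from (pow_two _).symm.trans h.sq)]
  calc (a ^ i * b ^ j) ^ 2 = a ^ i * (b ^ j * a ^ i * (b ^ j)⁻¹) * b ^ j * b ^ j := by
        rw [pow_two]; group
    _ = (⁅a, b⁆ ^ (i * j) * (a ^ i * a ^ i)) * (b ^ j * b ^ j) := by
      rw [e4, hneg, ← mul_assoc (a ^ i), ← ((hc (a ^ i)).zpow_left _).eq]; group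
    _ = _ := by
      rw [← zpow_add, ← zpow_add, ← two_mul, ← two_mul, mul_assoc,
        ((hc (a ^ (2 * i) * b ^ (2 * j))).zpow_left _).eq]

/-- A generator of a finite `2`-group is in the cyclic group of each of its odd powers. -/
theorem mem_zpowers_zpow_odd [Finite X] (hX : IsPGroup 2 X) (g : X) {i : ℤ} (hi : Odd i) :
    g ∈ zpowers (g ^ i) := by
  obtain ⟨k, hk⟩ := hX g
  have hcop : IsCoprime i ((2 : ℤ) ^ k) := by
    refine IsCoprime.pow_right ?_
    rw [Int.isCoprime_iff_nat_coprime]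
    simpa using (Nat.coprime_two_right.2 (Int.natAbs_odd.2 hi))
  obtain ⟨s, t, hst⟩ := hcop
  refine mem_zpowers_iff.2 ⟨s, ?_⟩
  rw [← zpow_mul]
  have h2 : g ^ ((2 : ℤ) ^ k) = 1 := by
    rw [show ((2 : ℤ) ^ k) = ((2 ^ k : ℕ) : ℤ) by push_cast; ring, zpow_natCast, hk]
  calc g ^ (i * s) = g ^ (i * s) * (g ^ ((2 : ℤ) ^ k)) ^ t := by rw [h2, one_zpow, mul_one]
    _ = g ^ (i * s + (2 : ℤ) ^ k * t) := by rw [zpow_add, zpow_mul g ((2 : ℤ) ^ k)]
    _ = g := by rw [show i * s + (2 : ℤ) ^ k * t = s * i + t * (2 : ℤ) ^ k by ring, hst, zpow_one]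

theorem Pair.metacyclic_of_cyclic_cover [Finite X] (h : Pair a b) {g g' : X}
    (hgen : closure ({g, g'} : Set X) = ⊤) (hc : ⁅a, b⁆ ∈ zpowers g) : IsMetacyclic X := by
  have hcom : commutator X ≤ zpowers g := by
    haveI : (zpowers ⁅a, b⁆).Normal := ⟨fun n hn q => by
      obtain ⟨i, rfl⟩ := hn
      show q * ⁅a, b⁆ ^ i * q⁻¹ ∈ _
      rw [((show Commute _ _ from (h.central q)).zpow_left i).symm.eq, mul_inv_cancel_right]
      exact zpow_mem (mem_zpowers _) i⟩
    refine le_trans (commutator_le_of_gens (N := zpowers ⁅a, b⁆) h.gen ?_) (by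
      rw [zpowers_le]; exact hc)
    rintro u (rfl | rfl) w (rfl | rfl)
    · rw [commutatorElement_self]; exact one_mem _
    · exact mem_zpowers _
    · rw [← zpowers_inv, commutatorElement_inv]; exact mem_zpowers _
    · rw [commutatorElement_self]; exact one_mem _
  have hn : (zpowers g).Normal := Subgroup.Normal.of_commutator_le X hcom
  refine MetaTwo.isMetacyclic_of_gens hn (x := g') fun q => ?_
  haveI := hn
  have hq : q ∈ closure ({g, g'} : Set X) := hgen ▸ mem_top q
  have : ∃ i : ℤ, (q : X ⧸ zpowers g) = (g' : X ⧸ zpowers g) ^ i := by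
    induction hq using closure_induction with
    | mem u hu =>
      rcases hu with rfl | rfl
      · exact ⟨0, by rw [zpow_zero]; exact (QuotientGroup.eq_one_iff _).2 (mem_zpowers _)⟩
      · exact ⟨1, (zpow_one _).symm⟩
    | one => exact ⟨0, by rw [zpow_zero, QuotientGroup.mk_one]⟩
    | mul u w _ _ hu hw =>
      obtain ⟨i, hi⟩ := hu
      obtain ⟨j, hj⟩ := hw
      exact ⟨i + j, by rw [QuotientGroup.mk_mul, hi, hj, zpow_add]⟩
    | inv u _ hu =>
      obtain ⟨i, hi⟩ := hu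
      exact ⟨-i, by rw [QuotientGroup.mk_inv, hi, zpow_neg]⟩
  obtain ⟨i, hi⟩ := this
  refine ⟨i, QuotientGroup.eq.1 ?_⟩
  rw [QuotientGroup.mk_zpow, hi]

/-- If the commutator is a product of suitable powers of the generators, `X` is metacyclic. -/
theorem Pair.metacyclic_aux [Finite X] (hX : IsPGroup 2 X) (h : Pair a b) : ∀ (d k : ℕ) (i j : ℤ),
    i.natAbs + j.natAbs ≤ d → 1 ≤ k → (2 ≤ k ∨ 2 ∣ i * j) →
      ⁅a, b⁆ = a ^ ((2 : ℤ) ^ k * i) * b ^ ((2 : ℤ) ^ k * j) → IsMetacyclic X := by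
  intro d
  induction d using Nat.strong_induction_on with
  | _ d ih =>
  intro k i j hd hk hpar he
  by_cases h0 : i = 0 ∧ j = 0
  · obtain ⟨rfl, rfl⟩ := h0
    refine h.metacyclic_of_cyclic_cover h.gen ?_
    rw [he]; simp
  by_cases heven : 2 ∣ i ∧ 2 ∣ j
  · obtain ⟨⟨i', rfl⟩, ⟨j', rfl⟩⟩ := heven
    have hlt : i'.natAbs + j'.natAbs < (2 * i').natAbs + (2 * j').natAbs := by
      rw [not_and_or] at h0
      omega
    refine ih _ (lt_of_lt_of_le hlt hd) (k + 1) i' j' le_rfl (by omega) (Or.inl (by omega)) ?_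
    rw [he, pow_succ, mul_assoc, mul_assoc]
  -- the cyclic normal subgroup
  set g := a ^ i * b ^ j with hg
  have hij : 2 ≤ k ∨ ⁅a, b⁆ ^ (i * j) = 1 := by
    rcases hpar with h' | ⟨m, hm⟩
    · exact Or.inl h'
    · right
      rw [hm, zpow_mul, show (2 : ℤ) = ((2 : ℕ) : ℤ) from rfl, zpow_natCast, h.sq, one_zpow]
  have hpow : ∀ l : ℕ, g ^ (2 ^ (l + 1)) =
      a ^ ((2 : ℤ) ^ (l + 1) * i) * b ^ ((2 : ℤ) ^ (l + 1) * j) * (⁅a, b⁆ ^ (i * j)) ^ (2 ^ l) := by
    intro l
    have hA : Commute (a ^ (2 * i)) (b ^ (2 * j)) := by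
      rw [zpow_mul, show a ^ (2 : ℤ) = a ^ (2 : ℕ) from zpow_natCast a 2]
      exact (h.commute_sq_left _).zpow_left i
    have hC : Commute (a ^ (2 * i) * b ^ (2 * j)) (⁅a, b⁆ ^ (i * j)) :=
      ((show Commute _ _ from h.central _).zpow_left _).symm
    rw [pow_succ', pow_mul, hg, h.mul_zpow_sq, hC.mul_pow, hA.mul_pow, ← zpow_natCast, ← zpow_mul,
      ← zpow_natCast (b ^ (2 * j)), ← zpow_mul]
    push_cast
    congr 2 <;> (congr 1; ring)
  have hcg : ⁅a, b⁆ ∈ zpowers g := by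
    obtain ⟨l, rfl⟩ : ∃ l, k = l + 1 := ⟨k - 1, by omega⟩
    have e := hpow l
    have hone : (⁅a, b⁆ ^ (i * j)) ^ (2 ^ l) = 1 := by
      rcases hij with h' | h'
      · obtain ⟨m, rfl⟩ : ∃ m, l = m + 1 := ⟨l - 1, by omega⟩
        rw [← zpow_natCast, ← zpow_mul, mul_comm, zpow_mul, zpow_natCast, pow_succ', pow_mul, h.sq,
          one_pow, one_zpow]
      · rw [h', one_pow]
    rw [hone, mul_one, ← he] at e
    rw [← e]
    exact pow_mem (mem_zpowers g) _
  rcases not_and_or.1 heven with hi | hj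
  · refine h.metacyclic_of_cyclic_cover (g' := b) ?_ hcg
    have ha : a ∈ closure ({g, b} : Set X) := by
      refine (zpowers_le.2 ?_) (mem_zpowers_zpow_odd hX a (Int.not_even_iff_odd.1
        (fun he => hi (even_iff_two_dvd.1 he))))
      have : a ^ i = g * (b ^ j)⁻¹ := by rw [hg, mul_inv_cancel_right]
      rw [this]
      exact mul_mem (subset_closure (by simp)) (inv_mem (zpow_mem (subset_closure (by simp)) j))
    rw [eq_top_iff, ← h.gen, closure_le]
    rintro u (rfl | rfl)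
    · exact ha
    · exact subset_closure (by simp)
  · refine h.metacyclic_of_cyclic_cover (g' := a) ?_ hcg
    have hb : b ∈ closure ({g, a} : Set X) := by
      refine (zpowers_le.2 ?_) (mem_zpowers_zpow_odd hX b (Int.not_even_iff_odd.1
        (fun he => hj (even_iff_two_dvd.1 he))))
      have : b ^ j = (a ^ i)⁻¹ * g := by rw [hg, inv_mul_cancel_left]
      rw [this]
      exact mul_mem (inv_mem (zpow_mem (subset_closure (by simp)) i)) (subset_closure (by simp))
    rw [eq_top_iff, ← h.gen, closure_le]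
    rintro u (rfl | rfl)
    · exact subset_closure (by simp)
    · exact hb

end TwoGen

/-! ### Blackburn's criterion -/

/-- If a central subgroup of order two inside `rSub X` has metacyclic quotient, `X` is metacyclic. -/
theorem metacyclic_step [Finite X] (hX : IsPGroup 2 X) {z : X} (hzc : z ∈ center X) (hz2 : z ^ 2 = 1)
    (hzR : z ∈ rSub X) [(zpowers z).Normal] (hm : IsMetacyclic (X ⧸ zpowers z)) : IsMetacyclic X := by
  haveI : Fact (Nat.Prime 2) := ⟨Nat.prime_two⟩
  obtain ⟨n₀, x₀, hn, hx⟩ := MetaTwo.exists_gens hm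
  obtain ⟨g, rfl⟩ := QuotientGroup.mk_surjective n₀
  obtain ⟨h, rfl⟩ := QuotientGroup.mk_surjective x₀
  have hzc' : ∀ q, z * q = q * z := fun q => (mem_center_iff.1 hzc q).symm
  set N : Subgroup X := (zpowers (g : X ⧸ zpowers z)).comap (QuotientGroup.mk' (zpowers z)) with hNdef
  haveI hNn : N.Normal := Normal.comap hn _
  have hform : ∀ q ∈ N, ∃ i j : ℤ, q = g ^ i * z ^ j := by
    intro q hq
    obtain ⟨i, hi⟩ := mem_zpowers_iff.1 (mem_comap.1 hq)
    have : (g ^ i)⁻¹ * q ∈ zpowers z := by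
      refine QuotientGroup.eq.1 ?_
      rw [QuotientGroup.mk_zpow]; exact hi
    obtain ⟨j, hj⟩ := mem_zpowers_iff.1 this
    exact ⟨i, j, by rw [hj, mul_inv_cancel_left]⟩
  have hgN : g ∈ N := mem_comap.2 (mem_zpowers _)
  have hall : ∀ q : X, ∃ i : ℤ, (h ^ i)⁻¹ * q ∈ N := fun q => by
    obtain ⟨i, hi⟩ := hx (q : X ⧸ zpowers z)
    refine ⟨i, mem_comap.2 ?_⟩
    rw [QuotientGroup.mk'_apply, QuotientGroup.mk_mul, QuotientGroup.mk_inv, QuotientGroup.mk_zpow]
    exact hi
  by_cases hzg : z ∈ zpowers g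
  · have hNg : N = zpowers g := le_antisymm (fun q hq => by
      obtain ⟨i, j, rfl⟩ := hform q hq
      exact mul_mem (zpow_mem (mem_zpowers g) i) (zpow_mem hzg j)) (zpowers_le.2 hgN)
    exact MetaTwo.isMetacyclic_of_gens (hNg ▸ hNn) (x := h) (fun q => hNg ▸ hall q)
  exfalso
  have hNcomm : ∀ u ∈ N, ∀ w ∈ N, Commute u w := by
    intro u hu w hw
    obtain ⟨i, j, rfl⟩ := hform u hu
    obtain ⟨i', j', rfl⟩ := hform w hw
    have c1 : ∀ q, Commute z q := hzc'
    exact ((Commute.zpow_zpow (Commute.refl g) i i').mul_right ((c1 g).symm.zpow_zpow i j')).mul_left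
      ((c1 _).zpow_left j)
  obtain ⟨d, hd⟩ : ∃ d, d = ⁅h, g⁆ := ⟨_, rfl⟩
  have hdN : d ∈ N := by
    rw [hd, commutatorElement_def]
    exact mul_mem (hNn.conj_mem g hgN h) (inv_mem hgN)
  obtain ⟨k, e, hke⟩ := hform d hdN
  have hconj : h * d * h⁻¹ = d ^ (k + 1) := by
    have e1 : h * g * h⁻¹ = d * g := by rw [hd, commutatorElement_def]; group
    calc h * d * h⁻¹ = (h * g * h⁻¹) ^ k * z ^ e := by
          have hz' : h * z ^ e * h⁻¹ = z ^ e := by
            rw [← ((show Commute z h from hzc' h).zpow_left e).eq, mul_inv_cancel_right]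
          rw [hke, show h * (g ^ k * z ^ e) * h⁻¹ = (h * g ^ k * h⁻¹) * (h * z ^ e * h⁻¹) by group,
            hz', conj_zpow]
      _ = d ^ k * (g ^ k * z ^ e) := by rw [e1, (hNcomm d hdN g hgN).mul_zpow, mul_assoc]
      _ = _ := by rw [← hke, zpow_add, zpow_one]
  haveI hDn : (zpowers d).Normal := ⟨fun u hu q => by
    obtain ⟨l, rfl⟩ := hu
    show q * d ^ l * q⁻¹ ∈ zpowers d
    have hkey : ∀ i : ℤ, h ^ i * d * (h ^ i)⁻¹ ∈ zpowers d := by
      have h1 : (zpowers d).map (MulAut.conj h).toMonoidHom = zpowers d := by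
        refine eq_of_le_of_card_ge ?_ ?_
        · rw [MonoidHom.map_zpowers, zpowers_le]
          show h * d * h⁻¹ ∈ _
          rw [hconj]; exact zpow_mem (mem_zpowers d) _
        · rw [card_map_of_injective (MulAut.conj h).injective]
      have hh : h ∈ normalizer (zpowers d : Set X) := by
        rw [mem_normalizer_iff]
        intro u
        constructor
        · intro hu'; rw [← h1]; exact ⟨u, hu', rfl⟩
        · intro hu'
          rw [← h1] at hu'
          obtain ⟨w, hw, hwe⟩ := hu'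
          rwa [← (MulAut.conj h).injective (show (MulAut.conj h) w = (MulAut.conj h) u from hwe)]
      intro i
      exact ((mem_normalizer_iff.1 (zpow_mem hh i)) d).1 (mem_zpowers d)
    obtain ⟨i, hi⟩ := hall q
    rw [← conj_zpow]
    refine zpow_mem ?_ l
    have : q * d * q⁻¹ = h ^ i * d * (h ^ i)⁻¹ := by
      rw [show q * d * q⁻¹ = h ^ i * ((((h ^ i)⁻¹ * q)) * d * ((h ^ i)⁻¹ * q)⁻¹) * (h ^ i)⁻¹ by group,
        (hNcomm _ hi d hdN).eq, mul_inv_cancel_right]
    rw [this]; exact hkey i⟩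
  have hgenX : closure ({g, h, z} : Set X) = ⊤ := by
    refine eq_top_iff.2 fun q _ => ?_
    obtain ⟨i, hi⟩ := hall q
    obtain ⟨l, m, hlm⟩ := hform _ hi
    rw [← mul_inv_cancel_left (h ^ i) q, hlm]
    exact mul_mem (zpow_mem (subset_closure (by simp)) i)
      (mul_mem (zpow_mem (subset_closure (by simp)) l) (zpow_mem (subset_closure (by simp)) m))
  have hcom : commutator X ≤ zpowers d := by
    refine commutator_le_of_gens hgenX ?_
    have hz1 : ∀ q, ⁅z, q⁆ ∈ zpowers d := fun q => by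
      rw [commutatorElement_eq_one_iff_commute.2 (hzc' q)]; exact one_mem _
    rintro u (rfl | rfl | rfl) w (rfl | rfl | rfl) <;>
      first
      | exact hz1 _
      | (rw [commutatorElement_self]; exact one_mem _)
      | (rw [← commutatorElement_inv]; exact inv_mem (hz1 _))
      | (rw [← hd]; exact mem_zpowers _)
      | (rw [← commutatorElement_inv, ← hd]; exact inv_mem (mem_zpowers _))
  by_cases hd1 : d = 1
  · have : z ∈ zpowers d := hcom (rSub_le_commutator hzR)
    rw [hd1, zpowers_one_eq_bot, mem_bot] at this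
    exact hzg (this ▸ one_mem _)
  have hkeven : Even k := by
    by_contra hodd
    obtain ⟨m, hm'⟩ := (Int.not_even_iff_odd.1 hodd).add_odd (odd_one : Odd (1 : ℤ))
    have hgen' : d ∈ zpowers (d ^ (k + 1)) := by
      obtain ⟨l, hl⟩ := (hDn.conj_mem d (mem_zpowers d) h⁻¹)
      refine mem_zpowers_iff.2 ⟨l, ?_⟩
      rw [← hconj, conj_zpow]
      show h * d ^ l * h⁻¹ = d
      rw [show d ^ l = h⁻¹ * d * h⁻¹⁻¹ from hl]; group
    obtain ⟨l, hl⟩ := mem_zpowers_iff.1 hgen'
    rw [← zpow_mul, hm'] at hl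
    have h1 : d ^ ((m + m) * l - 1) = 1 := by rw [zpow_sub, hl, zpow_one, mul_inv_cancel]
    have hd2 : 2 ∣ orderOf d := by
      obtain ⟨t, ht⟩ := (IsPGroup.iff_orderOf.1 hX) d
      rcases t with _ | t
      · rw [pow_zero, orderOf_eq_one_iff] at ht; exact absurd ht hd1
      · rw [ht]; exact dvd_pow_self 2 (by omega)
    have h2 : ((orderOf d : ℕ) : ℤ) ∣ (m + m) * l - 1 := orderOf_dvd_iff_zpow_eq_one.2 h1
    have h3 : (2 : ℤ) ∣ (m + m) * l - 1 := dvd_trans (by exact_mod_cast hd2) h2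
    have : (2 : ℤ) ∣ (m + m) * l := ⟨m * l, by ring⟩
    omega
  have hRle : rSub X ≤ zpowers (d ^ 2) := by
    haveI hsqn : (zpowers (d ^ 2)).Normal := ⟨fun u hu q => by
      obtain ⟨l, rfl⟩ := hu
      obtain ⟨l', hl'⟩ := hDn.conj_mem d (mem_zpowers d) q
      show q * (d ^ 2) ^ l * q⁻¹ ∈ _
      rw [← conj_zpow, ← conj_pow, ← hl']
      refine zpow_mem (mem_zpowers_iff.2 ⟨l', ?_⟩) l
      show (d ^ 2) ^ l' = (d ^ l') ^ 2
      rw [← zpow_natCast, ← zpow_natCast, ← zpow_mul, ← zpow_mul, mul_comm]⟩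
    have hsqmem : ∀ u ∈ zpowers d, u ^ 2 ∈ zpowers (d ^ 2) := by
      rintro _ ⟨l, rfl⟩
      refine mem_zpowers_iff.2 ⟨l, ?_⟩
      show (d ^ 2) ^ l = (d ^ l) ^ 2
      rw [← zpow_natCast, ← zpow_natCast, ← zpow_mul, ← zpow_mul, mul_comm]
    refine sup_le ?_ ((closure_le _).2 ?_)
    · refine commutator_le.2 fun u hu q _ => ?_
      obtain ⟨l, rfl⟩ := hcom hu
      obtain ⟨i, hi⟩ := hall q
      have hq : Commute (QuotientGroup.mk' (zpowers (d ^ 2)) d) (QuotientGroup.mk' _ q) := by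
        have hh : Commute (QuotientGroup.mk' (zpowers (d ^ 2)) d) (QuotientGroup.mk' _ h) := by
          refine (commutatorElement_eq_one_iff_commute.1 ?_).symm
          rw [← map_commutatorElement]
          refine (QuotientGroup.eq_one_iff _).2 ?_
          rw [commutatorElement_def, hconj, zpow_add, zpow_one, mul_inv_cancel_right]
          obtain ⟨k', rfl⟩ := hkeven
          rw [show k' + k' = ((2 : ℕ) : ℤ) * k' by push_cast; ring, zpow_mul, zpow_natCast]
          exact zpow_mem (mem_zpowers _) _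
        have : QuotientGroup.mk' (zpowers (d ^ 2)) q =
            (QuotientGroup.mk' _ h) ^ i * QuotientGroup.mk' _ ((h ^ i)⁻¹ * q) := by
          rw [← map_zpow, ← map_mul, mul_inv_cancel_left]
        rw [this]
        exact (hh.zpow_right i).mul_right ((hNcomm d hdN _ hi).map _)
      refine (QuotientGroup.eq_one_iff _).1 ?_
      show QuotientGroup.mk' (zpowers (d ^ 2)) ⁅d ^ l, q⁆ = 1
      rw [map_commutatorElement, map_zpow]
      exact commutatorElement_eq_one_iff_commute.2 (hq.zpow_left l)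
    · rintro _ ⟨u, hu, rfl⟩
      exact hsqmem u (hcom hu)
  obtain ⟨m, hm'⟩ := mem_zpowers_iff.1 (hRle hzR)
  refine hzg ?_
  have hd2 : d ^ 2 = g ^ (2 * k) := by
    rw [hke, (hNcomm _ (zpow_mem hgN k) _ (zpow_mem (mem_comap.2 (by
      rw [QuotientGroup.mk'_apply, (QuotientGroup.eq_one_iff z).2 (mem_zpowers z)]
      exact one_mem _)) e)).mul_pow, ← zpow_natCast, ← zpow_natCast, ← zpow_mul, ← zpow_mul,
      mul_comm e, zpow_mul z, zpow_natCast, hz2, one_zpow, mul_one, mul_comm k]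
    rfl
  rw [← hm', hd2]
  exact zpow_mem (zpow_mem (mem_zpowers g) _) m

/-- Blackburn's criterion. -/
theorem metacyclic_of_quotient : ∀ (m : ℕ) {X : Type u} [Group X] [Finite X], Nat.card X = m →
    IsPGroup 2 X → IsMetacyclic (X ⧸ rSub X) → IsMetacyclic X := by
  intro m
  induction m using Nat.strong_induction_on with
  | _ m ih =>
  intro X _ _ hcard hX hm
  haveI : Fact (Nat.Prime 2) := ⟨Nat.prime_two⟩
  by_cases hR : rSub X = ⊥
  · have hm' := hm
    obtain ⟨n₀, x₀, hn, hx⟩ := MetaTwo.exists_gens hm'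
    let f := ((QuotientGroup.quotientMulEquivOfEq hR).trans QuotientGroup.quotientBot)
    refine MetaTwo.isMetacyclic_of_gens (n := f n₀) (x := f x₀) ?_ fun q => ?_
    · have := hn.map f.toMonoidHom f.surjective
      rwa [MonoidHom.map_zpowers] at this
    · obtain ⟨i, hi⟩ := hx (f.symm q)
      refine ⟨i, ?_⟩
      obtain ⟨j, hj⟩ := mem_zpowers_iff.1 hi
      exact mem_zpowers_iff.2 ⟨j, by
        rw [← map_zpow, ← map_zpow, hj, map_mul, map_inv, map_zpow, f.apply_symm_apply]⟩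
  haveI : Group.IsNilpotent X := hX.isNilpotent
  have hne := Grp.inf_center_ne_bot (rSub X) hR
  obtain ⟨z, hz⟩ : ∃ z : ↥(rSub X ⊓ center X), orderOf z = 2 := by
    refine exists_prime_orderOf_dvd_card' 2 ?_
    obtain ⟨t, ht⟩ := IsPGroup.iff_card.1 (hX.to_subgroup (rSub X ⊓ center X))
    rcases t with _ | t
    · rw [pow_zero] at ht
      exact absurd (eq_bot_of_card_eq _ ht) hne
    · rw [ht]; exact dvd_pow_self 2 (by omega)
  have hz' : orderOf (z : X) = 2 := by rw [orderOf_coe]; exact hz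
  haveI : (zpowers (z : X)).Normal := ⟨fun u hu q => by
    obtain ⟨i, rfl⟩ := hu
    show q * (z : X) ^ i * q⁻¹ ∈ _
    rw [((show Commute q (z : X) from mem_center_iff.1 z.2.2 q).zpow_right i).eq,
      mul_inv_cancel_right]
    exact zpow_mem (mem_zpowers _) i⟩
  have hcardQ : Nat.card (X ⧸ zpowers (z : X)) < m := by
    have h1 := card_eq_card_quotient_mul_card_subgroup (zpowers (z : X))
    rw [Nat.card_zpowers, hz', hcard] at h1
    have : 0 < Nat.card (X ⧸ zpowers (z : X)) := Nat.card_pos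
    omega
  refine metacyclic_step hX z.2.2 (by rw [← hz', pow_orderOf_eq_one]) z.2.1
    (ih _ hcardQ rfl (hX.to_quotient _) ?_)
  let Z := zpowers (z : X)
  have hmap := map_rSub (QuotientGroup.mk' Z) (QuotientGroup.mk'_surjective Z)
  have hZR : Z ≤ rSub X := zpowers_le.2 z.2.1
  let e : X ⧸ rSub X ≃* (X ⧸ Z) ⧸ rSub (X ⧸ Z) :=
    (QuotientGroup.quotientQuotientEquivQuotient Z (rSub X) hZR).symm.trans
      (QuotientGroup.quotientMulEquivOfEq hmap)
  obtain ⟨n₀, x₀, hn, hx⟩ := MetaTwo.exists_gens hm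
  refine MetaTwo.isMetacyclic_of_gens (n := e n₀) (x := e x₀) ?_ fun q => ?_
  · have := hn.map e.toMonoidHom e.surjective
    rwa [MonoidHom.map_zpowers] at this
  · obtain ⟨i, hi⟩ := hx (e.symm q)
    refine ⟨i, ?_⟩
    obtain ⟨j, hj⟩ := mem_zpowers_iff.1 hi
    exact mem_zpowers_iff.2 ⟨j, by
      rw [← map_zpow, ← map_zpow, hj, map_mul, map_inv, map_zpow, e.apply_symm_apply]⟩

end Cfsg.Agent.Fus.Bicyclic
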