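import Cfsg.Agent.Lib.Fus.Bicyclic.Seven
import Cfsg.Agent.Lib.Grp.SqClass.PermBound

/-!
A bicyclic non-metacyclic `2`-group with noncyclic derived subgroup has no essential subgroup:
the group of automorphisms reduces to the symmetric group of degree three, hence to a `Frame`.
-/

set_option autoImplicit false
set_option linter.style.haveILetI false
set_option linter.unusedSectionVars false
set_option maxHeartbeats 1000000

open scoped commutatorElement

namespace Cfsg.Agent.Fus.Bicyclic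

open Subgroup

universe u v

/-- The data of an essential subgroup. -/
structure EssDatum (X : Type u) [Group X] where
  E : Subgroup X
  ne_top : E ≠ ⊤
  centric : ∀ g : X, (∀ e ∈ E, g * e = e * g) → g ∈ E
  H : Subgroup (MulAut ↥E)
  conj_mem : ∀ (g : X) (hg : g ∈ normalizer (E : Set X)), conjAut E g hg ∈ H
  ker : ∀ a ∈ H, (∀ e : ↥E, e⁻¹ * a e ∈ frattini ↥E) → a ∈ MulAut.conj.range
  rad : ∀ K ≤ H, (∀ h ∈ H, ∀ k ∈ K, h * k * h⁻¹ ∈ K) → IsPGroup 2 K → K ≤ MulAut.conj.range
  syl : ¬ 2 ∣ (E.normalizerMonoidHom).range.relIndex H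

/-- A finite group of order dividing `24`, even, without nontrivial normal `2`-subgroups, has order six. -/
theorem six_of {G : Type v} [Group G] [Finite G] (hd : Nat.card G ∣ 24) (h2 : 2 ∣ Nat.card G)
    (hO : ∀ N : Subgroup G, N.Normal → IsPGroup 2 N → N = ⊥) : Nat.card G = 6 := by
  haveI : Fact (Nat.Prime 2) := ⟨Nat.prime_two⟩
  obtain ⟨P⟩ : Nonempty (Sylow 2 G) := inferInstance
  have hcore : (P : Subgroup G).normalCore = ⊥ :=
    hO _ inferInstance (P.isPGroup'.to_le (normalCore_le _))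
  have hinj : Function.Injective (MulAction.toPermHom G (G ⧸ (P : Subgroup G))) :=
    (MonoidHom.ker_eq_bot_iff _).1 (by rw [← normalCore_eq_ker, hcore])
  have h1 := Subgroup.card_dvd_of_injective _ hinj
  rw [Nat.card_perm] at h1
  have hodd : ¬ 2 ∣ (P : Subgroup G).index := P.not_dvd_index
  have h24 : (P : Subgroup G).index ∣ 24 := (index_dvd_card _).trans hd
  have h3 : (P : Subgroup G).index ≤ 3 := by
    have : (P : Subgroup G).index ∣ 3 :=
      (((Nat.Prime.coprime_iff_not_dvd Nat.prime_two).2 hodd).symm.pow_right 3).dvd_of_dvd_mul_left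
        (n := 3) (by simpa using h24)
    exact Nat.le_of_dvd (by norm_num) this
  have hpos : 0 < (P : Subgroup G).index := Nat.pos_of_ne_zero Subgroup.index_ne_zero_of_finite
  change Nat.card G ∣ ((P : Subgroup G).index).factorial at h1
  have hG := (P : Subgroup G).index_mul_card
  generalize (P : Subgroup G).index = i at h1 hodd h3 hpos hG
  have hi : i = 1 ∨ i = 3 := by omega
  rcases hi with rfl | rfl
  · have := Nat.le_of_dvd (by norm_num) h1
    have := Nat.card_pos (α := G)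
    simp at *
    omega
  · simp only [Nat.factorial] at h1
    have := Nat.le_of_dvd (by norm_num) h1
    obtain ⟨k, hk⟩ := h2
    have h3' : 3 ∣ Nat.card G := ⟨_, hG.symm⟩
    have := Nat.card_pos (α := G)
    omega

theorem le_range_of_comp {A B C : Type*} [Group A] [Group B] [Group C] (f : B →* C) (g : A →* B) :
    (f.comp g).range ≤ f.range := by
  rintro _ ⟨x, rfl⟩
  exact ⟨g x, rfl⟩

/-- An element with image of prime order `q`, whose `q`-th power lies in a `2`-group, can be replaced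
by one of order `q`. -/
theorem exists_lift {A B : Type*} [Group A] [Group B] (f : A →* B) {a : A} {q : ℕ}
    (hq : q.Prime) (hq2 : q ≠ 2) (ha : orderOf (f a) = q) {N : Subgroup A} (hN : IsPGroup 2 N)
    (haN : a ^ q ∈ N) : ∃ s : ℕ, (a ^ 2 ^ s) ^ q = 1 ∧ f (a ^ 2 ^ s) ≠ 1 := by
  obtain ⟨s, hs⟩ := hN ⟨a ^ q, haN⟩
  refine ⟨s, ?_, fun h => ?_⟩
  · rw [← pow_mul, mul_comm, pow_mul]
    exact congrArg Subtype.val hs
  · rw [map_pow] at h
    exact hq2 ((Nat.prime_dvd_prime_iff_eq hq Nat.prime_two).1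
      (hq.dvd_of_dvd_pow (ha ▸ orderOf_dvd_of_pow_eq_one h)))

variable {X : Type u} [Group X] [Finite X]

namespace EssDatum

variable (D : EssDatum X)

/-- Action on the Frattini quotient. -/
noncomputable def π : ↥D.H →* MulAut (↥D.E ⧸ frattini ↥D.E) :=
  (autQ (frattini ↥D.E)).comp D.H.subtype

/-- The image of the normalizer. -/
noncomputable def ψ : ↥(normalizer (D.E : Set X)) →* ↥D.H :=
  D.E.normalizerMonoidHom.codRestrict D.H fun g => D.conj_mem g g.2

theorem π_def (a : ↥D.H) : D.π a = autQ (frattini ↥D.E) (a : MulAut ↥D.E) := rfl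

theorem π_apply (a : ↥D.H) (e : ↥D.E) :
    D.π a (e : ↥D.E ⧸ frattini ↥D.E) = ((a : MulAut ↥D.E) e : ↥D.E ⧸ frattini ↥D.E) := rfl

theorem conj_eq (e : ↥D.E) : conjAut D.E e (le_normalizer e.2) = MulAut.conj e :=
  MulEquiv.ext fun x => Subtype.ext rfl

theorem inn_le : MulAut.conj.range ≤ D.H := by
  rintro _ ⟨e, rfl⟩
  rw [← D.conj_eq e]
  exact D.conj_mem _ _

theorem inn_isPGroup (St : Setup X) : IsPGroup 2 (MulAut.conj (G := ↥D.E)).range :=
  (St.isP.to_subgroup D.E).of_surjective _ MulAut.conj.rangeRestrict_surjective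

theorem π_inn {a : ↥D.H} (St : Setup X) (ha : (a : MulAut ↥D.E) ∈ MulAut.conj.range) : D.π a = 1 := by
  haveI : Fact (Nat.Prime 2) := ⟨Nat.prime_two⟩
  obtain ⟨i, hi⟩ := ha
  refine MulEquiv.ext fun q => QuotientGroup.induction_on q fun e => ?_
  rw [π_apply, MulAut.one_apply, ← hi, MulAut.conj_apply]
  refine QuotientGroup.eq.2 ?_
  have h1 := inv_mem (Grp.pGroup_commutator_le_frattini (St.isP.to_subgroup D.E)
    (commutator_mem_commutator_top e⁻¹ i))
  rw [show (i * e * i⁻¹)⁻¹ * e = i * e⁻¹ * i⁻¹ * e by group]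
  rwa [commutatorElement_def, show (e⁻¹ * i * e⁻¹⁻¹ * i⁻¹)⁻¹ = i * e⁻¹ * i⁻¹ * e by group] at h1

theorem inn_of_π {a : ↥D.H} (ha : D.π a = 1) : (a : MulAut ↥D.E) ∈ MulAut.conj.range :=
  D.ker _ a.2 fun e => by
    have h := congrArg (fun f : MulAut _ => f (e : ↥D.E ⧸ frattini ↥D.E)) ha
    simp only [π_apply, MulAut.one_apply] at h
    exact QuotientGroup.eq.1 h.symm

theorem ψ_coe (g : ↥(normalizer (D.E : Set X))) : (D.ψ g : MulAut ↥D.E) = conjAut D.E g g.2 := rfl

theorem mem_of_π_ψ {g : ↥(normalizer (D.E : Set X))} (h : D.π (D.ψ g) = 1) : (g : X) ∈ D.E := by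
  obtain ⟨e, he⟩ := D.inn_of_π h
  rw [ψ_coe, ← D.conj_eq e] at he
  have h1 : (e : X)⁻¹ * g ∈ D.E := D.centric _ fun x hx => by
    have h2 := congrArg Subtype.val (DFunLike.congr_fun he ⟨x, hx⟩)
    rw [conjAut_coe, conjAut_coe] at h2
    calc (e : X)⁻¹ * g * x = (e : X)⁻¹ * ((g : X) * x * (g : X)⁻¹) * g := by group
      _ = x * ((e : X)⁻¹ * g) := by rw [← h2]; group
  rw [← mul_inv_cancel_left (e : X) g]
  exact mul_mem e.2 h1

/-- Elements of the normalizer outside `E` exist. -/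
theorem exists_outer (St : Setup X) : ∃ t : ↥(normalizer (D.E : Set X)), (t : X) ∉ D.E := by
  haveI : Fact (Nat.Prime 2) := ⟨Nat.prime_two⟩
  haveI : Group.IsNilpotent X := St.isP.isNilpotent
  obtain ⟨g, hg, hgE⟩ := SetLike.exists_of_lt
    (Group.normalizerCondition_of_isNilpotent D.E (lt_top_iff_ne_top.2 D.ne_top))
  exact ⟨⟨g, hg⟩, hgE⟩

theorem range_two (St : Setup X) : IsPGroup 2 (D.π.comp D.ψ).range :=
  (St.isP.to_subgroup _).of_surjective _ (D.π.comp D.ψ).rangeRestrict_surjective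

theorem two_dvd (St : Setup X) : 2 ∣ Nat.card D.π.range := by
  haveI : Fact (Nat.Prime 2) := ⟨Nat.prime_two⟩
  obtain ⟨t, ht⟩ := D.exists_outer St
  obtain ⟨k, hk⟩ := IsPGroup.iff_card.1 (D.range_two St)
  refine Dvd.dvd.trans ?_ (card_dvd_of_le (le_range_of_comp D.π D.ψ))
  rw [hk]
  refine dvd_pow_self 2 fun h0 => ht (D.mem_of_π_ψ ?_)
  rw [h0, pow_zero] at hk
  haveI := (Nat.card_eq_one_iff_unique.1 hk).1
  exact congrArg Subtype.val (Subsingleton.elim
    (⟨D.π (D.ψ t), t, rfl⟩ : (D.π.comp D.ψ).range) 1)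

theorem no_normal_two (St : Setup X) (N : Subgroup D.π.range) (hn : N.Normal) (hN : IsPGroup 2 N) :
    N = ⊥ := by
  haveI : Fact (Nat.Prime 2) := ⟨Nat.prime_two⟩
  haveI := hn
  let f : ↥D.H →* ↥D.π.range := D.π.rangeRestrict
  set K : Subgroup (MulAut ↥D.E) := (N.comap f).map D.H.subtype
  have hKp : IsPGroup 2 K := by
    have hker : IsPGroup 2 ↥f.ker := by
      intro a
      have h1 : D.π (a : ↥D.H) = 1 := congrArg Subtype.val (MonoidHom.mem_ker.1 a.2)
      obtain ⟨k, hk⟩ := D.inn_isPGroup St ⟨_, D.inn_of_π h1⟩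
      exact ⟨k, Subtype.ext (Subtype.ext (congrArg Subtype.val hk :))⟩
    exact (hN.comap_of_ker_isPGroup f hker).map _
  have hle : K ≤ MulAut.conj.range := by
    refine D.rad K (map_subtype_le _) ?_ hKp
    rintro h hh _ ⟨k, hk, rfl⟩
    refine ⟨⟨h, hh⟩ * k * ⟨h, hh⟩⁻¹, mem_comap.2 ?_, ?_⟩
    · rw [map_mul, map_mul, map_inv]
      exact hn.conj_mem (f k) (mem_comap.1 hk) (f ⟨h, hh⟩)
    rw [map_mul, map_mul, map_inv, Subgroup.coe_subtype]
  refine eq_bot_iff.2 fun x hx => ?_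
  obtain ⟨a, rfl⟩ := D.π.rangeRestrict_surjective x
  exact mem_bot.2 (Subtype.ext (D.π_inn St (hle ⟨a, hx, rfl⟩)))

theorem not_eight (h4 : Nat.card (D.π.comp D.ψ).range ≤ 4) (St : Setup X) :
    ¬ 8 ∣ Nat.card D.π.range := by
  intro h8
  haveI : Fact (Nat.Prime 2) := ⟨Nat.prime_two⟩
  set R : Subgroup D.π.range := D.ψ.range.map D.π.rangeRestrict with hR
  have hcard : Nat.card R = Nat.card (D.π.comp D.ψ).range := by
    rw [← card_map_of_injective (K := R) D.π.range.subtype_injective, hR, map_map, ← MonoidHom.range_comp]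
    rfl
  have hodd : ¬ 2 ∣ R.index := fun h => D.syl (by
    refine h.trans ((index_map_dvd _ D.π.rangeRestrict_surjective).trans ?_)
    rw [show D.ψ.range = (D.E.normalizerMonoidHom).range.subgroupOf D.H by
      ext a
      constructor
      · rintro ⟨g, rfl⟩; exact mem_subgroupOf.2 ⟨g, rfl⟩
      · intro h
        obtain ⟨g, hg⟩ := mem_subgroupOf.1 h
        exact ⟨g, Subtype.ext hg⟩]
    exact dvd_rfl)
  rw [← R.index_mul_card, hcard] at h8
  have hco : Nat.Coprime 8 R.index := by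
    rw [show (8 : ℕ) = 2 ^ 3 by norm_num]
    exact ((Nat.Prime.coprime_iff_not_dvd Nat.prime_two).2 hodd).pow_left 3
  have := Nat.le_of_dvd Nat.card_pos (hco.dvd_of_dvd_mul_left h8)
  omega

theorem quot_sq (St : Setup X) (q : ↥D.E ⧸ frattini ↥D.E) : q * q = 1 := by
  haveI : Fact (Nat.Prime 2) := ⟨Nat.prime_two⟩
  refine QuotientGroup.induction_on q fun e => ?_
  rw [← QuotientGroup.mk_mul, ← pow_two]
  exact (QuotientGroup.eq_one_iff _).2 (Grp.pGroup_pow_mem_frattini (St.isP.to_subgroup D.E) e)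

theorem card_dvd (St : Setup X) :
    Nat.card D.π.range ∣ 168 ∧
      (7 ∣ Nat.card D.π.range → Nat.card (↥D.E ⧸ frattini ↥D.E) = 8) := by
  haveI : Fact (Nat.Prime 2) := ⟨Nat.prime_two⟩
  set V := ↥D.E ⧸ frattini ↥D.E
  have hinv : ∀ q : V, q⁻¹ = q := fun q => inv_eq_of_mul_eq_one_right (D.quot_sq St q)
  obtain ⟨k, hk, hA⟩ := Cfsg.Agent.SqClass.card_mulAut_elem (M := V) (r := 2)
    (fun a b => by
      calc a * b = (a * b)⁻¹ := (hinv _).symm
        _ = b⁻¹ * a⁻¹ := mul_inv_rev a b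
        _ = b * a := by rw [hinv, hinv])
    (fun a => by rw [pow_two]; exact D.quot_sq St a)
  have hd : Nat.card D.π.range ∣ Nat.card (MulAut V) := Subgroup.card_subgroup_dvd_card _
  have h8 : 2 ^ k ≤ 2 ^ 3 := hk ▸ St.frattini_index_le D.ne_top
  have hk3 : k ≤ 3 := (Nat.pow_le_pow_iff_right (by norm_num)).1 h8
  rw [hA] at hd
  generalize Nat.card D.π.range = n at hd ⊢
  interval_cases k <;> simp [Fin.prod_univ_three, Fin.prod_univ_two] at hd hk
  · exact ⟨by rw [hd]; norm_num, fun h => by rw [hd] at h; omega⟩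
  · exact ⟨by rw [hd]; norm_num, fun h => by rw [hd] at h; omega⟩
  · exact ⟨hd.trans (by norm_num), fun h => by have := h.trans hd; omega⟩
  · exact ⟨hd, fun _ => hk⟩

/-- The elementary group of order eight has small normalizer. -/
theorem normalizer_small (St : Setup X) (hΦ : frattini ↥D.E = ⊥)
    (h8 : Nat.card (↥D.E ⧸ frattini ↥D.E) = 8) : Nat.card (D.π.comp D.ψ).range ≤ 4 := by
  haveI : Fact (Nat.Prime 2) := ⟨Nat.prime_two⟩
  have hsq : ∀ e ∈ D.E, e * e = 1 := fun e he => by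
    have h := Grp.pGroup_pow_mem_frattini (St.isP.to_subgroup D.E) ⟨e, he⟩
    rw [hΦ, mem_bot, pow_two] at h
    exact congrArg Subtype.val h
  have hcard : Nat.card ↥D.E = 8 := by
    rw [← h8]
    show _ = (frattini ↥D.E).index
    rw [hΦ, index_bot]
  obtain ⟨x, hx, hxΦ⟩ : ∃ x ∈ D.E, x ∉ frattini X := by
    by_contra h
    push Not at h
    have := St.card_le_four D.E h hsq
    omega
  have hxW : x * x ∈ St.W := by rw [hsq x hx]; exact one_mem _
  have hmemW : ∀ e ∈ D.E, e ∈ frattini X → e ∈ St.W := fun e he h => ⟨h, hsq e he⟩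
  -- an element commuting with `x` centralises `E`
  have hC : ∀ h : X, h * x = x * h → h ∈ D.E := fun h hh => by
    have hW : ∀ w ∈ St.W, h * w = w * h := fun w hw => by
      rcases St.outer_centralizer hxΦ hxW hh with h1 | h1
      · exact St.commute_W hw h1
      · have e1 := St.commute_W hw h1
        have e2 := St.outer_commute_W hxΦ hxW hw
        calc h * w = x * (x⁻¹ * h * w) := by group
          _ = x * w * (x⁻¹ * h) := by rw [e1]; group
          _ = w * h := by rw [e2]; group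
    refine D.centric h fun e he => ?_
    by_cases heΦ : e ∈ frattini X
    · exact hW e (hmemW e he heΦ)
    · have h1 := St.inv_mul_mem D.ne_top hx hxΦ he heΦ
      have h2 := hW _ (hmemW _ (mul_mem (inv_mem hx) he) h1)
      calc h * e = h * x * (x⁻¹ * e) := by group
        _ = x * (h * (x⁻¹ * e)) := by rw [hh, mul_assoc]
        _ = e * h := by rw [h2]; group
  have hconj : ∀ g : ↥(normalizer (D.E : Set X)), x⁻¹ * ((g : X) * x * (g : X)⁻¹) ∈ St.W := fun g => by
    have hE : (g : X) * x * (g : X)⁻¹ ∈ D.E := (mem_normalizer_iff.1 g.2 x).1 hx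
    refine hmemW _ (mul_mem (inv_mem hx) hE) (St.inv_mul_mem D.ne_top hx hxΦ hE fun h => hxΦ ?_)
    have := Normal.conj_mem inferInstance _ h (g : X)⁻¹
    rwa [show (g : X)⁻¹ * ((g : X) * x * (g : X)⁻¹) * (g : X)⁻¹⁻¹ = x by group] at this
  choose rep hrep using fun r : (D.π.comp D.ψ).range => r.2
  rw [← St.card_W]
  refine Nat.card_le_card_of_injective
    (fun r => (⟨_, hconj (rep r)⟩ : St.W)) fun a b e => ?_
  have e1 : (rep a : X) * x * (rep a : X)⁻¹ = (rep b : X) * x * (rep b : X)⁻¹ :=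
    mul_left_cancel (congrArg Subtype.val e)
  have h1 : ((rep b : X))⁻¹ * rep a ∈ D.E := hC _ (by
    calc (rep b : X)⁻¹ * rep a * x = (rep b : X)⁻¹ * ((rep a : X) * x * (rep a : X)⁻¹) * rep a := by group
      _ = x * ((rep b : X)⁻¹ * rep a) := by rw [e1]; group)
  refine Subtype.ext ?_
  rw [← hrep a, ← hrep b]
  have h2 : D.π.comp D.ψ ((rep b)⁻¹ * rep a) = 1 := by
    refine D.π_inn St ⟨⟨_, h1⟩, ?_⟩
    rw [ψ_coe, ← D.conj_eq]
    rfl
  rw [map_mul, map_inv, inv_mul_eq_one] at h2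
  exact h2.symm

/-- No group of order six either. -/
theorem six_false (St : Setup X) (h6 : Nat.card D.π.range = 6) : False := by
  haveI : Fact (Nat.Prime 2) := ⟨Nat.prime_two⟩
  haveI : Fact (Nat.Prime 3) := ⟨Nat.prime_three⟩
  obtain ⟨γ, hγ⟩ := exists_prime_orderOf_dvd_card' (G := D.π.range) 3 (by rw [h6]; norm_num)
  obtain ⟨a, ha⟩ := D.π.rangeRestrict_surjective γ
  have hN : IsPGroup 2 ↥((MulAut.conj (G := ↥D.E)).range.subgroupOf D.H) :=
    (D.inn_isPGroup St).comap_subtype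
  have hoa : orderOf (D.π a) = 3 := by
    rw [show D.π a = (γ : MulAut _) from congrArg Subtype.val ha, Subgroup.orderOf_coe, hγ]
  obtain ⟨m, hb3, hb1⟩ := exists_lift D.π Nat.prime_three (by norm_num) hoa hN
    (mem_subgroupOf.2 (D.inn_of_π (by rw [map_pow, ← hoa, pow_orderOf_eq_one])))
  set b : ↥D.H := a ^ 2 ^ m with hb
  have hob : orderOf b = 3 := orderOf_eq_prime hb3 fun h => hb1 (by rw [h, map_one])
  have hoc : orderOf (D.π b) = 3 := orderOf_eq_prime (by rw [← map_pow, hb3, map_one]) hb1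
  obtain ⟨t₀, ht₀⟩ := D.exists_outer St
  -- the image of the normalizer has order two
  have hR2 : ∀ g h : ↥(normalizer (D.E : Set X)), (g : X) ∉ D.E → (h : X) ∉ D.E →
      D.π (D.ψ g) = D.π (D.ψ h) := by
    intro g h hg hh
    have hcard : Nat.card (D.π.comp D.ψ).range ≤ 2 := by
      obtain ⟨k, hk⟩ := IsPGroup.iff_card.1 (D.range_two St)
      have h2 : Nat.card (D.π.comp D.ψ).range ∣ 6 :=
        h6 ▸ card_dvd_of_le (le_range_of_comp _ _)
      rw [hk] at h2 ⊢
      rcases Nat.lt_or_ge k 2 with h3 | h3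
      · interval_cases k <;> norm_num
      · exact absurd ((pow_dvd_pow 2 h3).trans h2) (by norm_num)
    by_contra hne
    classical
    haveI := Fintype.ofFinite (D.π.comp D.ψ).range
    rw [Nat.card_eq_fintype_card] at hcard
    have hne' : ∀ k : ↥(normalizer (D.E : Set X)), (k : X) ∉ D.E →
        (1 : (D.π.comp D.ψ).range) ≠ ⟨_, k, rfl⟩ := fun k hk e =>
      hk (D.mem_of_π_ψ (congrArg Subtype.val e).symm)
    have := Finset.card_le_univ
      ({1, ⟨_, g, rfl⟩, ⟨_, h, rfl⟩} : Finset (D.π.comp D.ψ).range)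
    rw [Finset.card_eq_three.2 ⟨_, _, _, hne' g hg, hne' h hh,
      fun e => hne (congrArg Subtype.val e :), rfl⟩] at this
    omega
  -- the conjugate of `b`
  set c : MulAut (↥D.E ⧸ frattini ↥D.E) := D.π b with hc
  set σ : MulAut (↥D.E ⧸ frattini ↥D.E) := D.π (D.ψ t₀) with hσ
  have hinv : σ * c * σ⁻¹ = c ^ 2 := by
    let c' : D.π.range := ⟨c, b, rfl⟩
    let σ' : D.π.range := ⟨σ, _, rfl⟩
    have hc'o : orderOf c' = 3 := by rw [← hoc, ← Subgroup.orderOf_coe c']
    have hidx : (zpowers c').index = 2 := by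
      have := (zpowers c').index_mul_card
      rw [Nat.card_zpowers, hc'o, h6] at this
      omega
    haveI := normal_of_index_eq_two hidx
    obtain ⟨k, hk⟩ := mem_powers_iff_mem_zpowers.2
      ((inferInstance : (zpowers c').Normal).conj_mem c' (mem_zpowers c') σ')
    have hk' : c' ^ k = σ' * c' * σ'⁻¹ := hk
    rw [← pow_mod_orderOf, hc'o] at hk'
    have hlt : k % 3 < 3 := Nat.mod_lt _ (by norm_num)
    generalize k % 3 = r at hk' hlt
    interval_cases r
    · rw [pow_zero, eq_comm, conj_eq_one_iff] at hk'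
      rw [hk', orderOf_one] at hc'o
      omega
    · exfalso
      rw [pow_one] at hk'
      have hcomm : σ' * c' = c' * σ' := mul_inv_eq_iff_eq_mul.1 hk'.symm
      have hσ1 : σ' ≠ 1 := fun h => ht₀ (D.mem_of_π_ψ (congrArg Subtype.val h))
      have hσ2 : IsPGroup 2 ↥(zpowers σ') := by
        refine IsPGroup.of_injective (D.range_two St)
          ((D.π.range.subtype.comp (zpowers σ').subtype).codRestrict _ fun x => ?_)
          fun x y e => Subtype.ext (Subtype.ext (congrArg Subtype.val e :))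
        obtain ⟨i, hi⟩ := mem_zpowers_iff.1 x.2
        exact ⟨t₀ ^ i, by
          rw [map_zpow]
          show σ ^ i = ((x : D.π.range) : MulAut (↥D.E ⧸ frattini ↥D.E))
          rw [← hi]; rfl⟩
      have htop : centralizer ({σ'} : Set D.π.range) = ⊤ := by
        refine eq_top_of_card_eq _ (Nat.le_antisymm
          (Nat.card_le_card_of_injective _ (subtype_injective _)) ?_)
        have h3 : 3 ∣ Nat.card (centralizer ({σ'} : Set D.π.range)) := by
          rw [← hc'o, ← Subgroup.orderOf_mk c' (mem_centralizer_singleton_iff.2 hcomm.symm)]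
          exact orderOf_dvd_natCard _
        have h2 : 2 ∣ Nat.card (centralizer ({σ'} : Set D.π.range)) := by
          obtain ⟨j, hj⟩ := IsPGroup.iff_card.1 hσ2
          refine Dvd.dvd.trans ?_ (card_dvd_of_le
            (show zpowers σ' ≤ centralizer ({σ'} : Set D.π.range) from
              zpowers_le.2 (mem_centralizer_singleton_iff.2 rfl)))
          rw [hj]
          refine dvd_pow_self 2 fun h0 => hσ1 ?_
          rw [h0, pow_zero, Nat.card_zpowers] at hj
          exact orderOf_eq_one_iff.1 hj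
        rw [h6]
        exact Nat.le_of_dvd Nat.card_pos (Nat.Coprime.mul_dvd_of_dvd_of_dvd (by norm_num) h2 h3)
      have hn : (zpowers σ').Normal := ⟨fun x hx g => by
        obtain ⟨i, rfl⟩ := mem_zpowers_iff.1 hx
        have hg : g * σ' = σ' * g :=
          (mem_centralizer_singleton_iff.1 (htop.ge (mem_top g)))
        rw [(Commute.zpow_right hg i).eq, mul_inv_cancel_right]
        exact hx⟩
      exact hσ1 (mem_bot.1 (D.no_normal_two St _ hn hσ2 ▸ mem_zpowers σ'))
    · exact (congrArg Subtype.val hk').symm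
  -- conjugating into `⟨b⟩`
  set M : Subgroup ↥D.H := (zpowers c).comap D.π
  let d : ↥D.H := D.ψ t₀ * b * (D.ψ t₀)⁻¹
  have hπd : D.π d = c ^ 2 := by
    show D.π (_ * _ * _) = _
    rw [map_mul, map_mul, map_inv, hinv]
  have hbM : b ∈ M := mem_comap.2 (mem_zpowers c)
  have hdM : d ∈ M := mem_comap.2 (by rw [hπd]; exact pow_mem (mem_zpowers c) 2)
  let φ : ↥M →* ↥(zpowers c) := (D.π.comp M.subtype).codRestrict _ fun x => x.2
  have h9 : ¬ 3 ^ 2 ∣ Nat.card ↥M := by
    have hkerp : IsPGroup 2 φ.ker := by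
      refine IsPGroup.of_injective hN ((M.subtype.comp φ.ker.subtype).codRestrict _ fun x =>
        mem_subgroupOf.2 (D.inn_of_π (congrArg Subtype.val (MonoidHom.mem_ker.1 x.2) :)))
        fun x y e => Subtype.ext (Subtype.ext (congrArg Subtype.val e :))
    obtain ⟨k, hk⟩ := IsPGroup.iff_card.1 hkerp
    intro h
    rw [← φ.ker.index_mul_card, hk] at h
    have h1 : φ.ker.index ∣ 3 := by
      rw [index_ker, ← hoc, ← Nat.card_zpowers]
      exact Subgroup.card_subgroup_dvd_card _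
    have := (h.trans (mul_dvd_mul_right h1 _))
    rw [pow_two] at this
    have h3 := Nat.dvd_of_mul_dvd_mul_left (by norm_num : 0 < 3) this
    exact absurd (Nat.prime_three.dvd_of_dvd_pow h3) (by norm_num)
  have hsylow : ∀ x : ↥M, orderOf x = 3 → ∃ P : Sylow 3 ↥M, (P : Subgroup ↥M) = zpowers x := by
    intro x hx
    obtain ⟨P, hP⟩ := (IsPGroup.of_card (p := 3) (n := 1)
      (by rw [Nat.card_zpowers, hx, pow_one]) : IsPGroup 3 ↥(zpowers x)).exists_le_sylow
    refine ⟨P, (eq_of_le_of_card_ge hP ?_).symm⟩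
    obtain ⟨k, hk⟩ := IsPGroup.iff_card.1 P.isPGroup'
    rw [hk, Nat.card_zpowers, hx]
    calc 3 ^ k ≤ 3 ^ 1 := Nat.pow_le_pow_right (by norm_num) (by
          by_contra h
          push Not at h
          exact h9 ((pow_dvd_pow 3 h).trans (hk ▸ Subgroup.card_subgroup_dvd_card _)))
      _ = 3 := pow_one 3
  obtain ⟨P, hP⟩ := hsylow ⟨d, hdM⟩ (by
    rw [Subgroup.orderOf_mk, ← hob]
    exact (orderOf_injective (MulAut.conj (D.ψ t₀)).toMonoidHom (MulAut.conj (D.ψ t₀)).injective b :))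
  obtain ⟨Q, hQ⟩ := hsylow ⟨b, hbM⟩ (by rw [Subgroup.orderOf_mk, hob])
  obtain ⟨n, hn⟩ := MulAction.exists_smul_eq ↥M P Q
  have hmem : n * ⟨d, hdM⟩ * n⁻¹ ∈ zpowers (⟨b, hbM⟩ : ↥M) := by
    rw [← hQ, ← hn]
    show _ ∈ ((n • P : Sylow 3 ↥M) : Subgroup ↥M)
    rw [Sylow.coe_subgroup_smul, hP]
    exact ⟨⟨d, hdM⟩, mem_zpowers _, rfl⟩
  obtain ⟨j, hj⟩ := mem_zpowers_iff.1 hmem
  have hj' : b ^ j = (n : ↥D.H) * d * (n : ↥D.H)⁻¹ := congrArg Subtype.val hj
  obtain ⟨l, hl⟩ := mem_zpowers_iff.1 (mem_comap.1 n.2)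
  have hnd : D.π ((n : ↥D.H) * d * (n : ↥D.H)⁻¹) = c ^ 2 := by
    rw [map_mul, map_mul, map_inv, hπd, ← hl, ← zpow_natCast c 2, ← zpow_add, ← zpow_neg, ← zpow_add]
    congr 1; ring
  have hj2 : b ^ j = b ^ 2 := by
    have h1 : c ^ j = c ^ (2 : ℤ) := by
      rw [hc, ← map_zpow, hj', hnd, hc, ← zpow_natCast]; rfl
    rw [zpow_eq_zpow_iff_modEq, hoc] at h1
    rw [← zpow_natCast b 2, zpow_eq_zpow_iff_modEq, hob]
    exact h1
  set i₀ : ↥D.H := b ^ (-l) * (n : ↥D.H) with hi₀
  have hi : D.π i₀ = 1 := by rw [map_mul, map_zpow, ← hl, zpow_neg, inv_mul_cancel]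
  obtain ⟨e₀, he₀⟩ := D.inn_of_π hi
  have hrel : i₀ * d * i₀⁻¹ = b ^ 2 := by
    rw [show i₀ * d * i₀⁻¹ = b ^ (-l) * ((n : ↥D.H) * d * (n : ↥D.H)⁻¹) * (b ^ (-l))⁻¹ by
      rw [hi₀]; group, ← hj', hj2]
    group
  -- the frame
  let t : ↥(normalizer (D.E : Set X)) := ⟨(e₀ : X), le_normalizer e₀.2⟩ * t₀
  have htψ : D.ψ t = i₀ * D.ψ t₀ := by
    show D.ψ (_ * t₀) = _
    rw [map_mul]
    congr 1
    refine Subtype.ext ?_
    rw [← he₀, ψ_coe, ← D.conj_eq]
  have ht : (t : X) ∉ D.E := fun h => ht₀ (by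
    have : (e₀ : X)⁻¹ * ((e₀ : X) * t₀) ∈ D.E := mul_mem (inv_mem e₀.2) h
    rwa [inv_mul_cancel_left] at this)
  have hrel' : D.ψ t * b = b ^ 2 * D.ψ t := by
    rw [← hrel, htψ]
    show _ = i₀ * (D.ψ t₀ * b * (D.ψ t₀)⁻¹) * i₀⁻¹ * (i₀ * D.ψ t₀)
    group
  refine Frame.no_frame
    { E := D.E
      ne_top := D.ne_top
      centric := D.centric
      β := (b : MulAut ↥D.E)
      t := (t : X)
      cube := by rw [← SubgroupClass.coe_pow, hb3]; rfl
      moves := by
        by_contra h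
        push Not at h
        exact hb1 (D.π_inn St (D.ker _ b.2 h))
      t_norm := t.2
      t_not := ht
      norm := fun g hg => by
        by_cases hgE : g ∈ D.E
        · exact Or.inl hgE
        · refine Or.inr (D.mem_of_π_ψ (g := t⁻¹ * ⟨g, hg⟩) ?_)
          rw [map_mul, map_inv, map_mul, map_inv, inv_mul_eq_one]
          exact hR2 _ _ ht hgE
      inv := fun e => by
        have := congrArg (fun f : ↥D.H => (f : MulAut ↥D.E) e) hrel'
        simpa [pow_two, ψ_coe] using this } St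

include D in
/-- There is no essential subgroup. -/
theorem no_datum (St : Setup X) : False := by
  haveI : Fact (Nat.Prime 2) := ⟨Nat.prime_two⟩
  obtain ⟨hd, h8⟩ := D.card_dvd St
  by_cases h7 : 7 ∣ Nat.card D.π.range
  · by_cases hΦ : frattini ↥D.E = ⊥
    · exact seven_eight (by rw [h8 h7]) (D.quot_sq St) _ hd h7 (D.two_dvd St)
        (D.not_eight (D.normalizer_small St hΦ (h8 h7)) St)
    · haveI : Fact (Nat.Prime 7) := ⟨by norm_num⟩
      obtain ⟨γ, hγ⟩ := exists_prime_orderOf_dvd_card' (G := D.π.range) 7 h7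
      obtain ⟨a, ha⟩ := D.π.rangeRestrict_surjective γ
      have hoa : orderOf (D.π a) = 7 := by
        rw [show D.π a = (γ : MulAut _) from congrArg Subtype.val ha, Subgroup.orderOf_coe, hγ]
      obtain ⟨m, hb7, hb1⟩ := exists_lift D.π (by norm_num : (7 : ℕ).Prime) (by norm_num) hoa
        ((D.inn_isPGroup St).comap_subtype (K := D.H))
        (mem_subgroupOf.2 (D.inn_of_π (by rw [map_pow, ← hoa, pow_orderOf_eq_one])))
      rw [π_def] at hb1
      exact St.seven_false ((a ^ 2 ^ m : ↥D.H) : MulAut ↥D.E)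
        (by rw [← SubgroupClass.coe_pow, hb7]; rfl) hb1 (St.frattini_index_le D.ne_top) hΦ
  · refine D.six_false St (six_of ?_ (D.two_dvd St) (D.no_normal_two St))
    have hco : Nat.Coprime (Nat.card D.π.range) 7 :=
      ((Nat.Prime.coprime_iff_not_dvd (by norm_num)).2 h7).symm
    exact hco.dvd_of_dvd_mul_left (m := 7) (n := 24) hd

end EssDatum

end Cfsg.Agent.Fus.Bicyclic
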