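import Cfsg.Agent.Lib.Fus.Bicyclic.Structure
import Cfsg.Agent.Lib.Fus.ModelBasic
import Cfsg.Agent.Lib.Fus.Supersoluble

/-!
A cyclic extension of a group with dihedral or quaternion Sylow `2`-subgroup realizes a non-inner
saturated fusion system.
-/

set_option autoImplicit false
set_option linter.style.haveILetI false
set_option linter.unusedSectionVars false
set_option maxHeartbeats 1000000

open scoped commutatorElement

namespace Cfsg.Agent.Fus.Bicyclic

open Subgroup

universe u v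

theorem forms {G : Type*} [Group G] {C B : G} (hinv : B * C * B⁻¹ = C⁻¹) {ε : ℤ}
    (hsq : B * B = C ^ ε) {q : G} (hq : q ∈ closure ({C, B} : Set G)) :
    ∃ k : ℤ, q = C ^ k ∨ q = C ^ k * B := by
  have hBC : ∀ k : ℤ, B * C ^ k = C ^ (-k) * B := fun k => by
    rw [← mul_inv_eq_iff_eq_mul, ← conj_zpow, hinv, inv_zpow, zpow_neg]
  induction hq using closure_induction with
  | mem w hw =>
    rcases hw with hw | hw <;> rw [hw]
    · exact ⟨1, Or.inl (zpow_one C).symm⟩
    · exact ⟨0, Or.inr (by rw [zpow_zero, one_mul])⟩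
  | one => exact ⟨0, Or.inl (zpow_zero C).symm⟩
  | mul u w _ _ hu hw =>
    obtain ⟨k, rfl | rfl⟩ := hu <;> obtain ⟨l, rfl | rfl⟩ := hw
    · exact ⟨k + l, Or.inl (zpow_add C k l).symm⟩
    · exact ⟨k + l, Or.inr (by rw [← mul_assoc, ← zpow_add])⟩
    · exact ⟨k - l, Or.inr (by rw [mul_assoc, hBC, ← mul_assoc, ← zpow_add, sub_eq_add_neg])⟩
    · exact ⟨k - l + ε, Or.inl (by
        rw [mul_assoc, ← mul_assoc B, hBC, mul_assoc (C ^ (-l)), hsq, ← zpow_add, ← zpow_add,
          sub_eq_add_neg, add_assoc])⟩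
  | inv u _ hu =>
    obtain ⟨k, rfl | rfl⟩ := hu
    · exact ⟨-k, Or.inl (zpow_neg C k).symm⟩
    · refine ⟨k + ε, Or.inr ?_⟩
      refine inv_eq_of_mul_eq_one_right ?_
      rw [mul_assoc, ← mul_assoc B, hBC, mul_assoc (C ^ (-(k + ε))), hsq, ← zpow_add, ← zpow_add,
        show k + (-(k + ε) + ε) = 0 by ring, zpow_zero]

variable {X : Type u} [Group X] [Finite X] {H : Type v} [Group H] [Finite H]

/-- The data carried by the model group. -/
structure Model (e : Ext X) (H : Type v) [Group H] where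
  C : H
  B : H
  Θ : MulAut H
  ε : ℤ
  sq_b : e.b * e.b = e.c ^ ε
  sq_B : B * B = C ^ ε
  order_C : orderOf C = 2 ^ e.n
  not_mem : B ∉ zpowers C
  conj_BC : B * C * B⁻¹ = C⁻¹
  aut_C : Θ C = C ^ e.v
  aut_B : Θ B = C * B
  aut_pow : Θ ^ (2 ^ e.r) = MulAut.conj (C ^ e.i)
  card : ¬ 2 ^ (e.n + 2) ∣ Nat.card H
  g : H
  k : ℤ
  fused : g * C ^ k * g⁻¹ = B

variable {e : Ext X} (m : Model e H)

theorem Ext.dvd_card (e : Ext X) (hX : IsPGroup 2 X) : 2 ^ (e.n + 1 + e.r) ∣ Nat.card X := by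
  haveI : Fact (Nat.Prime 2) := ⟨Nat.prime_two⟩
  have hBC : ∀ l : ℤ, e.b * e.c ^ l = e.c ^ (-l) * e.b := fun l => by
    rw [← mul_inv_eq_iff_eq_mul, e.conj_b_pow]
  let f : Fin (2 ^ e.n) × Fin 2 × Fin (2 ^ e.r) → X := fun t =>
    e.c ^ (t.1 : ℕ) * e.b ^ (t.2.1 : ℕ) * e.a ^ (t.2.2 : ℕ)
  have hD : ∀ (p q : ℕ), e.c ^ p * e.b ^ q ∈ zpowers e.c ⊔ zpowers e.b := fun p q =>
    mul_mem (pow_mem (mem_sup_left (mem_zpowers _)) p) (pow_mem (mem_sup_right (mem_zpowers _)) q)
  have hf : Function.Injective f := by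
    rintro ⟨k, d, t⟩ ⟨k', d', t'⟩ h
    change e.c ^ (k : ℕ) * e.b ^ (d : ℕ) * e.a ^ (t : ℕ) =
      e.c ^ (k' : ℕ) * e.b ^ (d' : ℕ) * e.a ^ (t' : ℕ) at h
    have ht : e.a ^ ((t : ℤ) - t') ∈ zpowers e.c ⊔ zpowers e.b := by
      have h' : e.a ^ ((t : ℤ) - t') =
          (e.c ^ (k : ℕ) * e.b ^ (d : ℕ))⁻¹ * (e.c ^ (k' : ℕ) * e.b ^ (d' : ℕ)) := by
        rw [zpow_sub, zpow_natCast, zpow_natCast, eq_inv_mul_iff_mul_eq, ← mul_assoc, h,
          mul_inv_cancel_right]
      rw [h']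
      exact mul_mem (inv_mem (hD _ _)) (hD _ _)
    have htt : (t : ℕ) = t' := by
      have h1 := e.min_a _ ht
      have h2 := t.isLt
      have h3 := t'.isLt
      obtain ⟨w, hw⟩ := h1
      have h4 : ((t : ℕ) : ℤ) < ((2 ^ e.r : ℕ) : ℤ) := Int.ofNat_lt.2 h2
      have h5 : ((t' : ℕ) : ℤ) < ((2 ^ e.r : ℕ) : ℤ) := Int.ofNat_lt.2 h3
      have : w = 0 := by
        rcases lt_trichotomy w 0 with h0 | h0 | h0
        · nlinarith
        · exact h0
        · nlinarith
      subst this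
      omega
    rw [htt, mul_left_inj] at h
    have hd : (d : ℕ) = d' := by
      by_contra hne
      have h2 := d.isLt
      have h3 := d'.isLt
      rcases (show ((d : ℕ) = 0 ∧ (d' : ℕ) = 1) ∨ ((d : ℕ) = 1 ∧ (d' : ℕ) = 0) by omega) with
        ⟨h0, h1⟩ | ⟨h0, h1⟩
      · rw [h0, h1, pow_zero, pow_one, mul_one] at h
        refine e.not_mem ?_
        rw [← inv_mul_cancel_left (e.c ^ (k' : ℕ)) e.b, ← h]
        exact mul_mem (inv_mem (pow_mem (mem_zpowers _) _)) (pow_mem (mem_zpowers _) _)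
      · rw [h0, h1, pow_zero, pow_one, mul_one] at h
        refine e.not_mem ?_
        rw [← inv_mul_cancel_left (e.c ^ (k : ℕ)) e.b, h]
        exact mul_mem (inv_mem (pow_mem (mem_zpowers _) _)) (pow_mem (mem_zpowers _) _)
    rw [hd, mul_left_inj] at h
    have hk := pow_injOn_Iio_orderOf (x := e.c) (by rw [e.order_c]; exact k.isLt)
      (by rw [e.order_c]; exact k'.isLt) h
    exact Prod.ext (Fin.ext hk) (Prod.ext (Fin.ext hd) (Fin.ext htt))
  have hle := Nat.card_le_card_of_injective f hf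
  rw [Nat.card_prod, Nat.card_prod, Nat.card_fin, Nat.card_fin, Nat.card_fin] at hle
  obtain ⟨j, hj⟩ := IsPGroup.iff_card.1 hX
  rw [hj]
  refine Nat.pow_dvd_pow 2 ?_
  rw [hj] at hle
  refine (Nat.pow_le_pow_iff_right (le_refl 2)).1 ?_
  rw [show 2 ^ (e.n + 1 + e.r) = 2 ^ e.n * (2 * 2 ^ e.r) by rw [pow_add, pow_succ]; ring]
  exact hle

theorem exists_system {Ω : Type*} [Group Ω] {S : Subgroup Ω} [Finite S] (hS : IsPGroup 2 S)
    {e : Ext ↥S} (m : Model e H) :
    ∃ F : FusionSystem S, F.IsSaturated 2 ∧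
      ¬ ∀ P : Subgroup Ω, F.Hom P = (innerFusionSystem S).Hom P := by
  classical
  haveI : Fact (Nat.Prime 2) := ⟨Nat.prime_two⟩
  -- the two dihedral or quaternion groups are isomorphic
  let K : Subgroup (↥S × H) := closure {(e.c, m.C), (e.b, m.B)}
  have hK : ∀ q ∈ K, ∃ k : ℤ, q = (e.c, m.C) ^ k ∨ q = (e.c, m.C) ^ k * (e.b, m.B) := fun q hq =>
    forms (Prod.ext e.conj_bc m.conj_BC) (ε := m.ε) (Prod.ext m.sq_b m.sq_B) hq
  have hKc : (e.c, m.C) ∈ K := subset_closure (by simp)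
  have hKb : (e.b, m.B) ∈ K := subset_closure (by simp)
  set D : Subgroup ↥S := closure {e.c, e.b} with hDdef
  have hfst : ∀ q : K, (q : ↥S × H).1 ∈ D := by
    rintro ⟨q, hq⟩
    have : K ≤ D.comap (MonoidHom.fst ↥S H) := by
      rw [closure_le]
      rintro w (hw | hw) <;> rw [hw]
      · exact subset_closure (by simp)
      · exact subset_closure (by simp)
    exact this hq
  let p₁ : K →* D := ((MonoidHom.fst ↥S H).comp K.subtype).codRestrict D hfst
  have hp₁ : Function.Bijective p₁ := by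
    constructor
    · refine (injective_iff_map_eq_one p₁).2 fun q hq => Subtype.ext ?_
      have h1 : (q : ↥S × H).1 = 1 := congrArg Subtype.val hq
      obtain ⟨k, h | h⟩ := hK q q.2
      · rw [h, Prod.pow_fst, e.pow_c] at h1
        rw [h]
        refine Prod.ext ((e.pow_c k).2 h1) ?_
        show m.C ^ k = 1
        rw [← orderOf_dvd_iff_zpow_eq_one, m.order_C]
        exact_mod_cast h1
      · exfalso
        rw [h, Prod.fst_mul, Prod.pow_fst] at h1
        have hb : e.b = (e.c ^ k)⁻¹ := eq_inv_of_mul_eq_one_right h1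
        exact e.not_mem (hb ▸ inv_mem (zpow_mem (mem_zpowers _) k))
    · rintro ⟨d, hd⟩
      have : D ≤ K.map (MonoidHom.fst ↥S H) := by
        rw [closure_le]
        rintro w (hw | hw) <;> rw [hw]
        · exact ⟨_, hKc, rfl⟩
        · exact ⟨_, hKb, rfl⟩
      obtain ⟨q, hq, hqd⟩ := this hd
      exact ⟨⟨q, hq⟩, Subtype.ext hqd⟩
  let E : K ≃* D := MulEquiv.ofBijective p₁ hp₁
  let φ : D →* H := ((MonoidHom.snd ↥S H).comp K.subtype).comp E.symm.toMonoidHom
  have hcD : e.c ∈ D := subset_closure (by simp)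
  have hbD : e.b ∈ D := subset_closure (by simp)
  have hφc : φ ⟨e.c, hcD⟩ = m.C := by
    have h : E.symm ⟨e.c, hcD⟩ = ⟨_, hKc⟩ := E.symm_apply_eq.2 (Subtype.ext rfl)
    show ((E.symm ⟨e.c, hcD⟩ : K) : ↥S × H).2 = _
    rw [h]
  have hφb : φ ⟨e.b, hbD⟩ = m.B := by
    have h : E.symm ⟨e.b, hbD⟩ = ⟨_, hKb⟩ := E.symm_apply_eq.2 (Subtype.ext rfl)
    show ((E.symm ⟨e.b, hbD⟩ : K) : ↥S × H).2 = _
    rw [h]
  have hDform : ∀ d : D, ∃ k : ℤ, d = ⟨e.c, hcD⟩ ^ k ∨ d = ⟨e.c, hcD⟩ ^ k * ⟨e.b, hbD⟩ := fun d => by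
    obtain ⟨k, h | h⟩ := forms e.conj_bc (ε := m.ε) m.sq_b d.2
    · exact ⟨k, Or.inl (Subtype.ext (by rw [h, SubgroupClass.coe_zpow]))⟩
    · exact ⟨k, Or.inr (Subtype.ext (by rw [h, Subgroup.coe_mul, SubgroupClass.coe_zpow]))⟩
  haveI hDn : D.Normal := by
    have hle : closure ({e.a, e.b} : Set ↥S) ≤ normalizer (D : Set ↥S) := by
      rw [closure_le]
      rintro w (hw | hw) <;> rw [hw]
      · have h1 : D.map (MulAut.conj e.a).toMonoidHom = D := by
          refine eq_of_le_of_card_ge ?_ ?_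
          · rw [hDdef, MonoidHom.map_closure, closure_le]
            rintro _ ⟨w, hw | hw, rfl⟩ <;> rw [hw]
            · show e.a * e.c * e.a⁻¹ ∈ D
              rw [e.conj_ac]; exact zpow_mem hcD _
            · show e.a * e.b * e.a⁻¹ ∈ D
              rw [e.conj_ab]; exact mul_mem hcD hbD
          · rw [card_map_of_injective (MulAut.conj e.a).injective]
        rw [SetLike.mem_coe, mem_normalizer_iff]
        intro u
        constructor
        · intro hu; rw [← h1]; exact ⟨u, hu, rfl⟩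
        · intro hu
          rw [← h1] at hu
          obtain ⟨w, hw, hwe⟩ := hu
          rwa [← (MulAut.conj e.a).injective (show (MulAut.conj e.a) w = (MulAut.conj e.a) u from hwe)]
      · exact le_normalizer hbD
    refine ⟨fun n hn g => ?_⟩
    exact ((mem_normalizer_iff.1 (hle (e.gen ▸ mem_top g))) n).1 hn
  -- equivariance
  let σ : ↥S →* MulAut D := MulAut.conjNormal
  have h1 : ∀ d : D, φ (σ e.a d) = m.Θ (φ d) := by
    have hc : φ (σ e.a ⟨e.c, hcD⟩) = m.Θ (φ ⟨e.c, hcD⟩) := by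
      have : σ e.a ⟨e.c, hcD⟩ = ⟨e.c, hcD⟩ ^ e.v := Subtype.ext (by
        rw [SubgroupClass.coe_zpow]; exact e.conj_ac)
      rw [this, map_zpow, hφc, m.aut_C]
    have hb : φ (σ e.a ⟨e.b, hbD⟩) = m.Θ (φ ⟨e.b, hbD⟩) := by
      have : σ e.a ⟨e.b, hbD⟩ = ⟨e.c, hcD⟩ * ⟨e.b, hbD⟩ := Subtype.ext e.conj_ab
      rw [this, map_mul, hφc, hφb, m.aut_B]
    intro d
    obtain ⟨k, rfl | rfl⟩ := hDform d
    · rw [map_zpow, map_zpow, map_zpow, map_zpow, hc]
    · rw [map_mul, map_zpow, map_mul, map_zpow, hc, hb, map_mul, map_zpow, map_mul, map_zpow]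
  have h2 : ∀ (t : ℤ) (d : D), φ (σ (e.a ^ t) d) = (m.Θ ^ t) (φ d) := by
    intro t
    induction t using Int.induction_on with
    | zero => intro d; simp
    | succ k ih =>
      intro d
      rw [add_comm, zpow_add, zpow_add, map_mul, MulAut.mul_apply, MulAut.mul_apply, zpow_one,
        zpow_one, h1, ih]
    | pred k ih =>
      intro d
      have := h1 (σ (e.a ^ (-(k : ℤ) - 1)) d)
      rw [← MulAut.mul_apply, ← map_mul, ← zpow_one_add, add_sub_cancel, ih] at this
      rw [show -(k : ℤ) - 1 = -1 + -(k : ℤ) by ring, zpow_add m.Θ, MulAut.mul_apply, this,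
        zpow_neg_one, MulAut.inv_apply_self, show -1 + -(k : ℤ) = -(k : ℤ) - 1 by ring]
  -- the extension
  let τ : Multiplicative ℤ →* MulAut H := zpowersHom (MulAut H) m.Θ
  let L := H ⋊[τ] Multiplicative ℤ
  let M : ℤ := ((2 ^ e.r : ℕ) : ℤ)
  have hΘC : m.Θ (m.C ^ e.i) = m.C ^ e.i := by
    rw [map_zpow, m.aut_C, ← zpow_mul]
    have h4 : m.C ^ (e.i * (e.v - 1)) = 1 := by
      rw [← orderOf_dvd_iff_zpow_eq_one, m.order_C]; exact_mod_cast e.dvd_i
    rw [mul_comm, ← mul_one (m.C ^ e.i), ← h4, ← zpow_add]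
    congr 1; ring
  let z : L := ⟨(m.C ^ e.i)⁻¹, Multiplicative.ofAdd M⟩
  have hτM : ∀ h : H, τ (Multiplicative.ofAdd M) h = m.C ^ e.i * h * (m.C ^ e.i)⁻¹ := fun h => by
    show (m.Θ ^ M) h = _
    rw [zpow_natCast, m.aut_pow]; rfl
  have hzl : ∀ h : H, z * SemidirectProduct.inl h = SemidirectProduct.inl h * z := fun h => by
    refine SemidirectProduct.ext ?_ ?_
    · rw [SemidirectProduct.mul_left, SemidirectProduct.mul_left, SemidirectProduct.left_inl,
        SemidirectProduct.right_inl, map_one, MulAut.one_apply]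
      show (m.C ^ e.i)⁻¹ * τ (Multiplicative.ofAdd M) h = h * (m.C ^ e.i)⁻¹
      rw [hτM]; group
    · rw [SemidirectProduct.mul_right, SemidirectProduct.mul_right, SemidirectProduct.right_inl,
        one_mul, mul_one]
  have hτfix : ∀ t : Multiplicative ℤ, τ t (m.C ^ e.i)⁻¹ = (m.C ^ e.i)⁻¹ := by
    intro t
    show (m.Θ ^ (Multiplicative.toAdd t)) _ = _
    have hfix : ∀ s : ℤ, (m.Θ ^ s) (m.C ^ e.i)⁻¹ = (m.C ^ e.i)⁻¹ := by
      intro s
      have h0 : m.Θ (m.C ^ e.i)⁻¹ = (m.C ^ e.i)⁻¹ := by rw [map_inv, hΘC]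
      induction s using Int.induction_on with
      | zero => simp
      | succ k ih => rw [zpow_add_one, MulAut.mul_apply, h0, ih]
      | pred k ih =>
        rw [zpow_sub_one, MulAut.mul_apply]
        nth_rewrite 1 [← h0]
        rw [MulAut.inv_apply_self, ih]
    exact hfix _
  have hzr : ∀ t, z * SemidirectProduct.inr t = SemidirectProduct.inr t * z := fun t => by
    refine SemidirectProduct.ext ?_ ?_
    · rw [SemidirectProduct.mul_left, SemidirectProduct.mul_left, SemidirectProduct.left_inr,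
        SemidirectProduct.right_inr, map_one, mul_one, one_mul]
      show (m.C ^ e.i)⁻¹ = τ t (m.C ^ e.i)⁻¹
      rw [hτfix]
    · rw [SemidirectProduct.mul_right, SemidirectProduct.mul_right, mul_comm]
  haveI hKn : (zpowers z).Normal := by
    refine ⟨fun w hw l => ?_⟩
    obtain ⟨s, rfl⟩ := hw
    have : Commute z l := by
      rw [← SemidirectProduct.inl_left_mul_inr_right l]
      exact (show Commute z _ from hzl _).mul_right (hzr _)
    show l * z ^ s * l⁻¹ ∈ _
    rw [(this.symm.zpow_right s).eq, mul_inv_cancel_right]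
    exact zpow_mem (mem_zpowers z) s
  let q : L →* L ⧸ zpowers z := QuotientGroup.mk' _
  have hzpow : ∀ s : ℤ, z ^ s = ⟨(m.C ^ e.i) ^ (-s), Multiplicative.ofAdd (M * s)⟩ := fun s => by
    have hcm : Commute (SemidirectProduct.inl (m.C ^ e.i)⁻¹ : L)
        (SemidirectProduct.inr (Multiplicative.ofAdd M)) := by
      refine SemidirectProduct.ext ?_ ?_
      · rw [SemidirectProduct.mul_left, SemidirectProduct.mul_left, SemidirectProduct.left_inl,
          SemidirectProduct.right_inl, SemidirectProduct.left_inr, SemidirectProduct.right_inr,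
          map_one, hτfix]
        simp
      · rw [SemidirectProduct.mul_right, SemidirectProduct.mul_right, SemidirectProduct.right_inl,
          SemidirectProduct.right_inr, one_mul, mul_one]
    have hz : z = SemidirectProduct.inl (m.C ^ e.i)⁻¹ * SemidirectProduct.inr (Multiplicative.ofAdd M) :=
      SemidirectProduct.mk_eq_inl_mul_inr _ _
    rw [hz, hcm.mul_zpow, ← map_zpow SemidirectProduct.inl, ← map_zpow SemidirectProduct.inr,
      inv_zpow, ← zpow_neg, SemidirectProduct.mk_eq_inl_mul_inr]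
    congr 2
    refine Multiplicative.toAdd.injective ?_
    rw [toAdd_zpow, toAdd_ofAdd, toAdd_ofAdd, smul_eq_mul, mul_comm]
  have hright : ∀ s : ℤ, (z ^ s).right = Multiplicative.ofAdd (M * s) := fun s => by rw [hzpow]
  have hMpos : 0 < M := by positivity
  -- the finite group
  let Ψ : H × Fin (2 ^ e.r) → L ⧸ zpowers z := fun t =>
    q (SemidirectProduct.inl t.1 * SemidirectProduct.inr (Multiplicative.ofAdd ((t.2 : ℕ) : ℤ)))
  have hΨ : Function.Bijective Ψ := by
    constructor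
    · rintro ⟨h, k⟩ ⟨h', k'⟩ heq
      obtain ⟨s, hs⟩ := mem_zpowers_iff.1 (QuotientGroup.eq.1 heq)
      change z ^ s = (SemidirectProduct.inl h * SemidirectProduct.inr
        (Multiplicative.ofAdd ((k : ℕ) : ℤ)))⁻¹ * (SemidirectProduct.inl h' * SemidirectProduct.inr
        (Multiplicative.ofAdd ((k' : ℕ) : ℤ))) at hs
      have hr := congrArg SemidirectProduct.right hs
      rw [hright] at hr
      have hr' : M * s = -((k : ℕ) : ℤ) + ((k' : ℕ) : ℤ) := by
        rw [SemidirectProduct.mul_right, SemidirectProduct.inv_right, SemidirectProduct.mul_right,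
          SemidirectProduct.mul_right, SemidirectProduct.right_inl, SemidirectProduct.right_inl,
          SemidirectProduct.right_inr, SemidirectProduct.right_inr, one_mul, one_mul] at hr
        have := congrArg Multiplicative.toAdd hr
        rw [toAdd_ofAdd, toAdd_mul, toAdd_inv, toAdd_ofAdd, toAdd_ofAdd] at this
        exact this
      have hs0 : s = 0 := by
        have h2 := k.isLt
        have h3 := k'.isLt
        have h4 : ((k : ℕ) : ℤ) < M := Int.ofNat_lt.2 h2
        have h5 : ((k' : ℕ) : ℤ) < M := Int.ofNat_lt.2 h3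
        rcases lt_trichotomy s 0 with h0 | h0 | h0
        · nlinarith
        · exact h0
        · nlinarith
      subst hs0
      have hkk : k = k' := Fin.ext (by omega)
      subst hkk
      rw [zpow_zero, eq_comm, inv_mul_eq_one, mul_left_inj] at hs
      rw [SemidirectProduct.inl_injective hs]
    · intro w
      obtain ⟨l, rfl⟩ := QuotientGroup.mk_surjective w
      set t : ℤ := Multiplicative.toAdd l.right
      have hk : (t % M).toNat < 2 ^ e.r := by
        have := Int.emod_lt_of_pos t hMpos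
        have h0 := Int.emod_nonneg t hMpos.ne'
        omega
      have hr : (l * (z ^ (t / M))⁻¹).right = Multiplicative.ofAdd (((t % M).toNat : ℕ) : ℤ) := by
        rw [← zpow_neg, show (l * z ^ (-(t / M))).right = l.right * (z ^ (-(t / M))).right from rfl,
          hright]
        refine Multiplicative.toAdd.injective ?_
        rw [toAdd_mul, toAdd_ofAdd, toAdd_ofAdd, Int.toNat_of_nonneg (Int.emod_nonneg t hMpos.ne')]
        show t + M * -(t / M) = _
        rw [Int.emod_def]; ring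
      refine ⟨((l * (z ^ (t / M))⁻¹).left, ⟨_, hk⟩), ?_⟩
      show q (SemidirectProduct.inl _ * SemidirectProduct.inr (Multiplicative.ofAdd _)) = _
      rw [← hr, SemidirectProduct.inl_left_mul_inr_right, map_mul, map_inv, map_zpow,
        show q z = 1 from (QuotientGroup.eq_one_iff _).2 (mem_zpowers z), one_zpow, inv_one, mul_one]
      rfl
  haveI : Finite (L ⧸ zpowers z) := Finite.of_surjective Ψ hΨ.2
  have hcardG : Nat.card (L ⧸ zpowers z) = Nat.card H * 2 ^ e.r := by
    rw [← Nat.card_congr (Equiv.ofBijective Ψ hΨ), Nat.card_prod, Nat.card_fin]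
  -- the homomorphism
  let σ' : Multiplicative ℤ →* MulAut D := σ.comp (zpowersHom ↥S e.a)
  let p : D ⋊[σ'] Multiplicative ℤ →* ↥S := SemidirectProduct.lift D.subtype (zpowersHom ↥S e.a)
    fun t => MonoidHom.ext fun d => rfl
  let f₁ : D →* L := (SemidirectProduct.inl).comp φ
  let f₂ : Multiplicative ℤ →* L := SemidirectProduct.inr
  let f : D ⋊[σ'] Multiplicative ℤ →* L := SemidirectProduct.lift f₁ f₂ fun t =>
    MonoidHom.ext fun d => by
      show SemidirectProduct.inl (φ (σ (e.a ^ Multiplicative.toAdd t) d)) = _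
      rw [h2]
      exact (SemidirectProduct.inl_aut (φ := τ) t (φ d)).trans (by rw [map_inv]; rfl)
  have hp : Function.Surjective p := by
    rw [← MonoidHom.range_eq_top, eq_top_iff, ← e.gen, closure_le]
    rintro w (hw | hw) <;> rw [hw]
    · exact ⟨SemidirectProduct.inr (Multiplicative.ofAdd 1), by simp [p]⟩
    · exact ⟨SemidirectProduct.inl ⟨e.b, hbD⟩, by simp [p]⟩
  have hCi : φ (⟨e.c, hcD⟩ ^ e.i) = m.C ^ e.i := by rw [map_zpow, hφc]
  have hfw : ∀ w, f w = ⟨φ w.left, w.right⟩ := fun w => by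
    rw [SemidirectProduct.mk_eq_inl_mul_inr]
    nth_rewrite 1 [← SemidirectProduct.inl_left_mul_inr_right w]
    rw [map_mul]
    simp only [f, SemidirectProduct.lift_inl, SemidirectProduct.lift_inr]
    rfl
  have hker : p.ker ≤ ((QuotientGroup.mk' (zpowers z)).comp f).ker := by
    intro w hw
    rw [MonoidHom.mem_ker] at hw ⊢
    rw [← SemidirectProduct.inl_left_mul_inr_right w, map_mul] at hw
    simp only [p, SemidirectProduct.lift_inl, SemidirectProduct.lift_inr] at hw
    set t : ℤ := Multiplicative.toAdd w.right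
    have hat : e.a ^ t = (w.left : ↥S)⁻¹ := eq_inv_of_mul_eq_one_right hw
    have hmem : e.a ^ t ∈ zpowers e.c ⊔ zpowers e.b := by
      rw [hat]
      refine inv_mem ?_
      have : D ≤ zpowers e.c ⊔ zpowers e.b := by
        rw [hDdef, closure_le]
        rintro u (hu | hu) <;> rw [hu]
        · exact mem_sup_left (mem_zpowers _)
        · exact mem_sup_right (mem_zpowers _)
      exact this w.left.2
    obtain ⟨s, hs⟩ := e.min_a t hmem
    have hd : w.left = (⟨e.c, hcD⟩ ^ e.i) ^ (-s) := Subtype.ext (by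
      rw [SubgroupClass.coe_zpow, SubgroupClass.coe_zpow, ← inv_inj, ← hat, hs, zpow_mul,
        zpow_natCast, e.pow_a, zpow_neg, inv_inv])
    show q (f w) = 1
    refine (QuotientGroup.eq_one_iff _).2 (mem_zpowers_iff.2 ⟨s, ?_⟩)
    rw [hfw, hzpow, hd, map_zpow φ, hCi]
    congr 1
    rw [← hs]
    rfl
  let ι : ↥S →* L ⧸ zpowers z := p.liftOfSurjective hp ⟨_, hker⟩
  have hι : ∀ w, ι (p w) = q (f w) := fun w =>
    MonoidHom.liftOfRightInverse_comp_apply _ _ _ _ w
  have hιinj : Function.Injective ι := by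
    refine (injective_iff_map_eq_one ι).2 fun x hx => ?_
    obtain ⟨w, rfl⟩ := hp x
    rw [hι] at hx
    obtain ⟨s, hs⟩ := mem_zpowers_iff.1 ((QuotientGroup.eq_one_iff _).1 hx)
    rw [hzpow, hfw] at hs
    have hr : Multiplicative.ofAdd (M * s) = w.right := congrArg SemidirectProduct.right hs
    have hl : (m.C ^ e.i) ^ (-s) = φ w.left := congrArg SemidirectProduct.left hs
    have hφinj : Function.Injective φ := by
      refine (injective_iff_map_eq_one φ).2 fun d hd => ?_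
      obtain ⟨k, rfl | rfl⟩ := hDform d
      · rw [map_zpow, hφc, ← orderOf_dvd_iff_zpow_eq_one, m.order_C] at hd
        refine Subtype.ext ?_
        rw [SubgroupClass.coe_zpow]
        exact (e.pow_c k).2 (by exact_mod_cast hd)
      · rw [map_mul, map_zpow, hφc, hφb] at hd
        exact absurd (eq_inv_of_mul_eq_one_right hd ▸ inv_mem (zpow_mem (mem_zpowers _) k)) m.not_mem
    have hd : w.left = (⟨e.c, hcD⟩ ^ e.i) ^ (-s) := hφinj (by rw [map_zpow, hCi, hl])
    rw [← SemidirectProduct.inl_left_mul_inr_right w]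
    simp only [map_mul, p, SemidirectProduct.lift_inl, SemidirectProduct.lift_inr]
    show (w.left : ↥S) * e.a ^ (Multiplicative.toAdd w.right) = 1
    rw [hd, ← hr, toAdd_ofAdd, SubgroupClass.coe_zpow, SubgroupClass.coe_zpow, zpow_mul e.a,
      zpow_natCast, e.pow_a, ← zpow_add, neg_add_cancel, zpow_zero]
  -- the Sylow subgroup
  have hrp : IsPGroup 2 ι.range := hS.of_equiv (MonoidHom.ofInjective hιinj)
  have hidx : ¬ 2 ∣ ι.range.index := by
    intro hd
    have h := ι.range.index_mul_card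
    rw [hcardG, Nat.card_congr (MonoidHom.ofInjective hιinj).toEquiv.symm] at h
    have h' : 2 * 2 ^ (e.n + 1 + e.r) ∣ Nat.card H * 2 ^ e.r :=
      h ▸ Nat.mul_dvd_mul hd (e.dvd_card hS)
    rw [show 2 * 2 ^ (e.n + 1 + e.r) = 2 ^ (e.n + 2) * 2 ^ e.r by rw [← pow_succ', ← pow_add]; ring_nf]
      at h'
    exact m.card (Nat.dvd_of_mul_dvd_mul_right (by positivity) h')
  obtain ⟨F, hF⟩ := exists_isRealizedBy ι hιinj
  refine ⟨F, isSaturated_of_realized hF (T := hrp.toSylow hidx) rfl, fun hinner => ?_⟩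
  -- a non-inner map
  let g0 : ↥S := e.c ^ m.k
  have hg0 : q (SemidirectProduct.inl m.g) * ι g0 * (q (SemidirectProduct.inl m.g))⁻¹ = ι e.b := by
    have hb : ι e.b = q (SemidirectProduct.inl m.B) := by
      rw [show e.b = p (SemidirectProduct.inl ⟨e.b, hbD⟩) by simp [p], hι]
      simp [f, f₁, hφb]
    have hc : ι g0 = q (SemidirectProduct.inl (m.C ^ m.k)) := by
      rw [show g0 = p (SemidirectProduct.inl (⟨e.c, hcD⟩ ^ m.k)) by
        simp [p, g0, SubgroupClass.coe_zpow], hι]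
      simp [f, f₁, hφc]
    rw [hb, hc, ← map_inv, ← map_mul, ← map_mul, ← map_inv SemidirectProduct.inl, ← map_mul,
      ← map_mul, m.fused]
  let P : Subgroup Ω := zpowers (g0 : Ω)
  have hPS : P ≤ S := zpowers_le.2 g0.2
  set G0 := q (SemidirectProduct.inl m.g)
  have hmem : ∀ x : P, G0 * ι ⟨x, hPS x.2⟩ * G0⁻¹ ∈ ι.range := by
    rintro ⟨x, l, rfl⟩
    refine ⟨e.b ^ l, ?_⟩
    rw [map_zpow, ← hg0, conj_zpow, ← map_zpow]
    rfl
  let ψ₀ : P →* ι.range := MonoidHom.mk' (fun x => ⟨_, hmem x⟩) fun x y => Subtype.ext (by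
    show G0 * ι ⟨(x * y : P), _⟩ * G0⁻¹ = (G0 * ι ⟨x, _⟩ * G0⁻¹) * (G0 * ι ⟨y, _⟩ * G0⁻¹)
    rw [show (⟨((x * y : P) : Ω), hPS (x * y).2⟩ : ↥S) = ⟨x, hPS x.2⟩ * ⟨y, hPS y.2⟩ from rfl, map_mul]
    group)
  let ψ : P →* Ω := S.subtype.comp ((MonoidHom.ofInjective hιinj).symm.toMonoidHom.comp ψ₀)
  have hψS : ∀ x : P, ψ x ∈ S := fun x => ((MonoidHom.ofInjective hιinj).symm (ψ₀ x)).2
  have hψι : ∀ x : P, ι ⟨ψ x, hψS x⟩ = G0 * ι ⟨x, hPS x.2⟩ * G0⁻¹ := fun x => by
    have := congrArg Subtype.val ((MonoidHom.ofInjective hιinj).apply_symm_apply (ψ₀ x))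
    exact this
  have hψF : ψ ∈ F.Hom P := (hF.2 P hPS ψ hψS).2 ⟨G0, hψι⟩
  rw [hinner P] at hψF
  obtain ⟨-, s, hs, he⟩ := hψF
  have hval : (⟨ψ ⟨g0, mem_zpowers _⟩, hψS _⟩ : ↥S) = e.b := hιinj ((hψι _).trans hg0)
  have hsb : (⟨s, hs⟩ : ↥S) * g0 * (⟨s, hs⟩ : ↥S)⁻¹ = e.b := by
    rw [← hval]; exact Subtype.ext (he ⟨(g0 : Ω), mem_zpowers _⟩).symm
  have hnorm : ∀ w : ↥S, w * e.c * w⁻¹ ∈ zpowers e.c := by
    have hle : closure ({e.a, e.b} : Set ↥S) ≤ normalizer (zpowers e.c : Set ↥S) := by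
      rw [closure_le]
      rintro u (hu | hu) <;> rw [hu] <;> refine mem_normalizer_zpowers_of_conj ?_
      · rw [e.conj_ac]; exact zpow_mem (mem_zpowers _) _
      · rw [e.conj_bc]; exact inv_mem (mem_zpowers _)
    intro w
    exact ((mem_normalizer_iff.1 (hle (e.gen ▸ mem_top w))) e.c).1 (mem_zpowers _)
  refine e.not_mem (hsb ▸ ?_)
  rw [← conj_zpow]
  exact zpow_mem (hnorm _) _

end Cfsg.Agent.Fus.Bicyclic
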