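import Cfsg.Agent.Lib.Fus.Bicyclic.NonMeta
import Cfsg.Agent.Lib.Invol.OneInvol

/-!
Bicyclic non-metacyclic `2`-groups with noncyclic derived subgroup: the Frattini subgroup `Φ` has
no dihedral or quaternion subgroup of order eight, its involutions form a normal four-group `W`
contained in the derived subgroup and centralised by `Φ`.
-/

set_option autoImplicit false
set_option linter.style.haveILetI false
set_option linter.unusedSectionVars false
set_option maxHeartbeats 1000000

open scoped commutatorElement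

namespace Cfsg.Agent.Fus.Bicyclic

open Subgroup

universe u v

/-! ### Generalities -/

/-- In a finite `2`-group the Frattini subgroup lies in every normal subgroup containing the squares. -/
theorem frattini_le_of_sq {M : Type u} [Group M] [Finite M] (N : Subgroup M) [N.Normal]
    (h : ∀ m : M, m ^ 2 ∈ N) : frattini M ≤ N := by
  refine Grp.frattini_le_of_elementary Nat.prime_two ?_ h
  refine (Subgroup.Normal.quotient_commutative_iff_commutator_le).1 ⟨⟨fun a b => ?_⟩⟩
  have hsq : ∀ q : M ⧸ N, q * q = 1 := fun q => QuotientGroup.induction_on q fun m => by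
    rw [← QuotientGroup.mk_mul, ← pow_two]; exact (QuotientGroup.eq_one_iff _).2 (h m)
  have hinv : ∀ q : M ⧸ N, q⁻¹ = q := fun q => inv_eq_of_mul_eq_one_right (hsq q)
  calc a * b = (a * b)⁻¹ := (hinv _).symm
    _ = b⁻¹ * a⁻¹ := mul_inv_rev a b
    _ = b * a := by rw [hinv, hinv]

theorem four_eq {M : Type u} [Monoid M] (r : M) : r * r * (r * r) = r ^ 4 := by
  simp [pow_succ, mul_assoc]

/-- A cyclic group has at most one element of order two. -/
theorem cyclic_involution_unique {M : Type u} [Group M] [Finite M] [IsCyclic M] {u v : M}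
    (hu : u * u = 1) (hu1 : u ≠ 1) (hv : v * v = 1) (hv1 : v ≠ 1) : u = v := by
  classical
  haveI := Fintype.ofFinite M
  by_contra hne
  have h := IsCyclic.card_pow_eq_one_le (α := M) (n := 2) two_pos
  have h3 : ({1, u, v} : Finset M).card = 3 :=
    Finset.card_eq_three.2 ⟨1, u, v, hu1.symm, hv1.symm, hne, rfl⟩
  have hsub : ({1, u, v} : Finset M) ⊆ Finset.univ.filter fun a : M => a ^ 2 = 1 := by
    intro a ha
    simp only [Finset.mem_insert, Finset.mem_singleton] at ha
    rcases ha with rfl | rfl | rfl <;> simp [pow_two, hu, hv]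
  have := Finset.card_le_card hsub
  omega

theorem five_le_card {V : Type*} [Finite V] (a b c d e : V) (hab : a ≠ b) (hac : a ≠ c)
    (had : a ≠ d) (hae : a ≠ e) (hbc : b ≠ c) (hbd : b ≠ d) (hbe : b ≠ e) (hcd : c ≠ d)
    (hce : c ≠ e) (hde : d ≠ e) : 5 ≤ Nat.card V := by
  classical
  haveI := Fintype.ofFinite V
  rw [Nat.card_eq_fintype_card]
  refine le_trans ?_ (Finset.card_le_univ ({a, b, c, d, e} : Finset V))
  simp [hab, hac, had, hae, hbc, hbd, hbe, hcd, hce, hde]

variable {X : Type u} [Group X] [Finite X]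

/-- Conjugation of powers. -/
theorem conj_iterate {n b : X} {f : ℤ} (h : b * n * b⁻¹ = n ^ f) :
    ∀ (j : ℕ), b ^ j * n * (b ^ j)⁻¹ = n ^ (f ^ j)
  | 0 => by simp
  | j + 1 => by
    rw [pow_succ' b j, mul_inv_rev, show b * b ^ j * n * ((b ^ j)⁻¹ * b⁻¹) =
      b * (b ^ j * n * (b ^ j)⁻¹) * b⁻¹ by group, conj_iterate h j, ← conj_zpow, h, ← zpow_mul,
      pow_succ']

/-- A nontrivial normal subgroup of a `2`-group contains a central involution. -/
theorem exists_central_invol (hX : IsPGroup 2 X) (N : Subgroup X) [N.Normal] (hN : N ≠ ⊥) :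
    ∃ z ∈ N, z * z = 1 ∧ z ≠ 1 ∧ ∀ g : X, g * z = z * g := by
  haveI : Fact (Nat.Prime 2) := ⟨Nat.prime_two⟩
  haveI : Group.IsNilpotent X := hX.isNilpotent
  obtain ⟨⟨w, hw⟩, hw1⟩ := Subgroup.ne_bot_iff_exists_ne_one.1 (Grp.inf_center_ne_bot N hN)
  obtain ⟨k, hk⟩ := IsPGroup.iff_orderOf.1 hX w
  have hw1' : w ≠ 1 := fun e => hw1 (Subtype.ext e)
  have hk0 : k ≠ 0 := fun e => hw1' (orderOf_eq_one_iff.1 (by rw [hk, e, pow_zero]))
  have hdvd : (2 : ℕ) ∣ orderOf w := hk ▸ dvd_pow_self 2 hk0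
  have ho : orderOf (w ^ (orderOf w / 2)) = 2 := orderOf_pow_orderOf_div (orderOf_pos w).ne' hdvd
  refine ⟨w ^ (orderOf w / 2), pow_mem hw.1 _, ?_, ?_, fun g => ?_⟩
  · rw [← pow_two]
    nth_rw 2 [← ho]
    exact pow_orderOf_eq_one _
  · intro e
    rw [e, orderOf_one] at ho
    omega
  · exact mem_center_iff.1 (pow_mem hw.2 _) g

/-- An element moved only into its coset of a central involution is centralised by the Frattini
subgroup. -/
theorem commute_frattini_of_coset (hX : IsPGroup 2 X) {u z : X} (hz : ∀ g : X, g * z = z * g)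
    (hzz : z * z = 1) (h : ∀ g : X, g * u * g⁻¹ = u ∨ g * u * g⁻¹ = u * z) :
    ∀ p ∈ frattini X, p * u = u * p := by
  haveI : Fact (Nat.Prime 2) := ⟨Nat.prime_two⟩
  let C : Subgroup X :=
    { carrier := {p | p * u = u * p}
      one_mem' := by simp
      mul_mem' := fun {a b} (ha : a * u = u * a) (hb : b * u = u * b) => by
        show a * b * u = u * (a * b)
        rw [mul_assoc, hb, ← mul_assoc, ha, mul_assoc]
      inv_mem' := fun {a} (ha : a * u = u * a) => by
        show a⁻¹ * u = u * a⁻¹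
        rw [inv_mul_eq_iff_eq_mul, ← mul_assoc, ha, mul_inv_cancel_right] }
  have hcomm : ∀ c : X, c * u = u * c → c * (u * z) = u * z * c := fun c hc => by
    rw [← mul_assoc, hc, mul_assoc, hz, ← mul_assoc]
  haveI : C.Normal := ⟨fun c (hc : c * u = u * c) g => by
    show g * c * g⁻¹ * u = u * (g * c * g⁻¹)
    rcases h g⁻¹ with e | e <;> rw [inv_inv] at e
    · calc g * c * g⁻¹ * u = g * (c * (g⁻¹ * u * g)) * g⁻¹ := by group
        _ = g * (g⁻¹ * u * g * c) * g⁻¹ := by rw [e, hc]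
        _ = _ := by group
    · calc g * c * g⁻¹ * u = g * (c * (g⁻¹ * u * g)) * g⁻¹ := by group
        _ = g * (g⁻¹ * u * g * c) * g⁻¹ := by rw [e, hcomm c hc]
        _ = _ := by group⟩
  refine frattini_le_of_sq C fun g => ?_
  show g ^ 2 * u = u * g ^ 2
  have h2 : g * (g * u * g⁻¹) * g⁻¹ = u := by
    rcases h g with e | e
    · rw [e, e]
    · rw [e, show g * (u * z) * g⁻¹ = g * u * g⁻¹ * (g * z * g⁻¹) by group, e,
        show g * z * g⁻¹ = z by rw [hz, mul_inv_cancel_right], mul_assoc, hzz, mul_one]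
  calc g ^ 2 * u = g * (g * u * g⁻¹) * g⁻¹ * g ^ 2 := by rw [pow_two]; group
    _ = u * g ^ 2 := by rw [h2]

/-- The standing hypotheses. -/
structure Setup (X : Type u) [Group X] : Prop where
  isP : IsPGroup 2 X
  bic : ∃ x y : X, IsBic x y
  not_meta : ¬ IsMetacyclic X
  not_cyclic : ¬ IsCyclic ↥(commutator X)

namespace Setup

variable (St : Setup X)

include St

theorem frattini_meta : IsMetacyclic ↥(frattini X) := by
  obtain ⟨x, y, h⟩ := St.bic
  exact h.frattini_metacyclic St.isP (not_isCyclic_of_not_metacyclic St.not_meta)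

theorem frattini_index : (frattini X).index = 4 := by
  obtain ⟨x, y, h⟩ := St.bic
  exact (h.frattini_index St.isP (not_isCyclic_of_not_metacyclic St.not_meta)).1

theorem commutator_le : commutator X ≤ frattini X := by
  haveI : Fact (Nat.Prime 2) := ⟨Nat.prime_two⟩
  exact Grp.pGroup_commutator_le_frattini St.isP

theorem sq_mem (g : X) : g * g ∈ frattini X := by
  haveI : Fact (Nat.Prime 2) := ⟨Nat.prime_two⟩
  rw [← pow_two]; exact Grp.pGroup_pow_mem_frattini St.isP g

theorem comm_X' {s t : X} (hs : s ∈ commutator X) (ht : t ∈ commutator X) : s * t = t * s := by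
  obtain ⟨x, y, h⟩ := St.bic
  exact h.derived_comm s hs t ht

/-- A subgroup of the Frattini subgroup has at most four classes modulo its squares. -/
theorem index_le_four {M : Type v} [Group M] [Finite M] (ι : M →* X) (hι : Function.Injective ι)
    (hΦ : ∀ m, ι m ∈ frattini X) (N : Subgroup M) [N.Normal] (hsq : ∀ m : M, m ^ 2 ∈ N) :
    N.index ≤ 4 := by
  obtain ⟨C, hCn, hCc, hQc⟩ := St.frattini_meta
  haveI := hCn; haveI := hCc; haveI := hQc
  let ι' : M →* ↥(frattini X) := ι.codRestrict _ hΦ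
  have hι' : Function.Injective ι' := fun a b e => hι (congrArg Subtype.val e)
  set J : Subgroup M := C.comap ι'
  haveI : IsCyclic J := isCyclic_of_injective
    ((ι'.comp J.subtype).codRestrict C fun j => j.2) fun a b e =>
      Subtype.ext (hι' (congrArg Subtype.val e))
  let f : M →* ↥(frattini X) ⧸ C := (QuotientGroup.mk' C).comp ι'
  haveI : IsCyclic f.range := inferInstance
  obtain ⟨⟨_, b, rfl⟩, hb⟩ := IsCyclic.exists_generator (α := f.range)
  obtain ⟨a, ha⟩ := IsCyclic.exists_generator (α := J)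
  have hred : ∀ (u : M) (i : ℤ), ((u : M ⧸ N)) ^ i = (u : M ⧸ N) ^ ((i % 2).toNat) := by
    intro u i
    have h2 : (u : M ⧸ N) ^ (2 : ℤ) = 1 := by
      rw [show (2 : ℤ) = ((2 : ℕ) : ℤ) from rfl, zpow_natCast, ← QuotientGroup.mk_pow]
      exact (QuotientGroup.eq_one_iff _).2 (hsq u)
    conv_lhs => rw [← Int.emod_add_mul_ediv i 2, zpow_add, zpow_mul, h2, one_zpow, mul_one,
      ← Int.toNat_of_nonneg (Int.emod_nonneg i (by norm_num : (2 : ℤ) ≠ 0)), zpow_natCast]
  let F : Fin 2 × Fin 2 → M ⧸ N := fun t =>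
    (b : M ⧸ N) ^ (t.1 : ℕ) * ((a : M) : M ⧸ N) ^ (t.2 : ℕ)
  have hF : Function.Surjective F := fun q => by
    obtain ⟨m, rfl⟩ := QuotientGroup.mk_surjective q
    obtain ⟨j, hj⟩ := mem_zpowers_iff.1 (hb ⟨f m, m, rfl⟩)
    have hj' : f b ^ j = f m := congrArg Subtype.val hj
    have hmJ : (b ^ j)⁻¹ * m ∈ J := by
      show ι' ((b ^ j)⁻¹ * m) ∈ C
      rw [← QuotientGroup.eq_one_iff]
      show f ((b ^ j)⁻¹ * m) = 1
      rw [map_mul, map_inv, map_zpow, hj', inv_mul_cancel]
    obtain ⟨i, hi⟩ := mem_zpowers_iff.1 (ha ⟨_, hmJ⟩)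
    have hi' : (a : M) ^ i = (b ^ j)⁻¹ * m := congrArg Subtype.val hi
    refine ⟨⟨⟨(j % 2).toNat, by omega⟩, ⟨(i % 2).toNat, by omega⟩⟩, ?_⟩
    show _ * _ = _
    rw [← hred, ← hred, ← QuotientGroup.mk_zpow, ← QuotientGroup.mk_zpow, ← QuotientGroup.mk_mul,
      hi', mul_inv_cancel_left]
  have h := Nat.card_le_card_of_surjective F hF
  rw [Nat.card_prod, Nat.card_fin] at h
  exact h

/-- An elementary subgroup of the Frattini subgroup has order at most four. -/
theorem card_le_four (U : Subgroup X) (hU : U ≤ frattini X) (h : ∀ w ∈ U, w * w = 1) :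
    Nat.card U ≤ 4 := by
  have := St.index_le_four U.subtype U.subtype_injective (fun m => hU m.2) ⊥ fun m => by
    rw [mem_bot, pow_two]; exact Subtype.ext (h m m.2)
  rwa [index_bot] at this

theorem no_inv_cyclic {C : Subgroup ↥(frattini X)} [C.Normal] [IsCyclic C]
    [IsCyclic (↥(frattini X) ⧸ C)] {s q : ↥(frattini X)} (hs : s ∈ C) (hqC : q ∉ C)
    (hq : q * q ∈ C) (h4 : s ^ 4 = 1) (h2 : s * s ≠ 1) (hinv : q * s * q⁻¹ = s⁻¹) : False := by
  haveI : Fact (Nat.Prime 2) := ⟨Nat.prime_two⟩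
  have hP : IsPGroup 2 ↥(frattini X) := St.isP.to_subgroup _
  have hs4 : orderOf s = 4 :=
    orderOf_eq_prime_pow (p := 2) (n := 1) (by rw [pow_one, pow_two]; exact h2) (by norm_num [h4])
  obtain ⟨⟨n, hn⟩, hgen⟩ := IsCyclic.exists_generator (α := C)
  have hmemC : ∀ u ∈ C, ∃ i : ℤ, n ^ i = u := fun u hu => by
    obtain ⟨i, hi⟩ := mem_zpowers_iff.1 (hgen ⟨u, hu⟩)
    exact ⟨i, congrArg Subtype.val hi⟩
  obtain ⟨k, hk⟩ := hmemC s hs
  obtain ⟨e, he⟩ := hmemC _ (Normal.conj_mem ‹_› n hn q)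
  have hse : s ^ e = s⁻¹ := by
    rw [← hinv, ← hk, ← conj_zpow, ← he, ← zpow_mul, ← zpow_mul, mul_comm]
  have he4 : (4 : ℤ) ∣ e + 1 := by
    have : s ^ (e + 1) = 1 := by rw [zpow_add_one, hse, inv_mul_cancel]
    have := orderOf_dvd_iff_zpow_eq_one.2 this
    rw [hs4] at this; exact_mod_cast this
  have h4n : 4 ∣ orderOf n := hs4 ▸ orderOf_dvd_of_mem_zpowers ⟨k, hk⟩
  -- the quotient by `C` has order two
  obtain ⟨b', hb'⟩ := IsCyclic.exists_generator (α := ↥(frattini X) ⧸ C)
  obtain ⟨b, rfl⟩ := QuotientGroup.mk_surjective b'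
  obtain ⟨f, hf⟩ := hmemC _ (Normal.conj_mem ‹_› n hn b)
  obtain ⟨j, hj⟩ : ∃ j : ℕ, (b : ↥(frattini X) ⧸ C) ^ j = (q : ↥(frattini X) ⧸ C) :=
    (mem_powers_iff_mem_zpowers.2 (hb' _) : _)
  have hbjq : (b ^ j)⁻¹ * q ∈ C := by
    rw [← QuotientGroup.eq_one_iff, QuotientGroup.mk_mul, QuotientGroup.mk_inv,
      QuotientGroup.mk_pow, hj, inv_mul_cancel]
  have hconj : n ^ e = n ^ (f ^ j) := by
    obtain ⟨i, hi⟩ := hmemC _ hbjq
    rw [he, show q = b ^ j * n ^ i by rw [hi, mul_inv_cancel_left],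
      show b ^ j * n ^ i * n * (b ^ j * n ^ i)⁻¹ = b ^ j * (n ^ i * n * (n ^ i)⁻¹) * (b ^ j)⁻¹ by group,
      show n ^ i * n * (n ^ i)⁻¹ = n by group, conj_iterate hf.symm j]
  have hef : (4 : ℤ) ∣ f ^ j - e := by
    refine (show (4 : ℤ) ∣ (orderOf n : ℤ) by exact_mod_cast h4n).trans ?_
    exact Int.modEq_iff_dvd.1 (zpow_eq_zpow_iff_modEq.1 hconj)
  have hjodd : Odd j := by
    by_contra hev
    obtain ⟨l, rfl⟩ := Nat.not_odd_iff_even.1 hev
    rcases Int.even_or_odd (f ^ l) with ⟨t, ht⟩ | ⟨t, ht⟩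
    · rw [pow_add, ht] at hef
      obtain ⟨d, hd⟩ := hef; obtain ⟨d', hd'⟩ := he4
      ring_nf at hd
      omega
    · rw [pow_add, ht] at hef
      obtain ⟨d, hd⟩ := hef; obtain ⟨d', hd'⟩ := he4
      ring_nf at hd
      omega
  have hb2 : (b : ↥(frattini X) ⧸ C) ^ 2 = 1 := by
    obtain ⟨m, hm⟩ := IsPGroup.iff_orderOf.1 (hP.to_quotient C) (b : ↥(frattini X) ⧸ C)
    have h2j : (b : ↥(frattini X) ⧸ C) ^ (2 * j) = 1 := by
      rw [mul_comm, pow_mul, hj, pow_two, ← QuotientGroup.mk_mul]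
      exact (QuotientGroup.eq_one_iff _).2 hq
    have hd := orderOf_dvd_of_pow_eq_one h2j
    rw [hm] at hd
    have := (Nat.Coprime.pow_left m (Nat.coprime_two_left.2 hjodd)).dvd_of_dvd_mul_right hd
    rw [← hm] at this
    exact orderOf_dvd_iff_pow_eq_one.1 this
  have hcases : ∀ g : ↥(frattini X), g ∈ C ∨ q⁻¹ * g ∈ C := by
    intro g
    obtain ⟨l, hl⟩ : ∃ l : ℕ, (b : ↥(frattini X) ⧸ C) ^ l = (g : ↥(frattini X) ⧸ C) :=
      (mem_powers_iff_mem_zpowers.2 (hb' _) : _)
    have hred : ∀ t : ℕ, (b : ↥(frattini X) ⧸ C) ^ t = (b : ↥(frattini X) ⧸ C) ^ (t % 2) := fun t => by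
      conv_lhs => rw [← Nat.mod_add_div t 2, pow_add, pow_mul, hb2, one_pow, mul_one]
    rw [hred] at hl hj
    rw [Nat.odd_iff.1 hjodd, pow_one] at hj
    rcases Nat.mod_two_eq_zero_or_one l with h | h <;> rw [h] at hl
    · left
      rw [pow_zero] at hl
      exact (QuotientGroup.eq_one_iff _).1 hl.symm
    · right
      rw [pow_one, hj] at hl
      exact QuotientGroup.eq.1 hl
  -- the centre is `⟨s ^ 2⟩`
  have hcent : ∀ u : ↥(frattini X), (∀ p, p * u = u * p) → u = 1 ∨ u = s * s := by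
    intro u hu
    rcases hcases u with huC | huC
    · obtain ⟨i, rfl⟩ := hmemC u huC
      have h1 : (n ^ i) ^ (e - 1) = 1 := by
        have : q * n ^ i * q⁻¹ = n ^ i := by rw [hu q, mul_inv_cancel_right]
        rw [← conj_zpow, ← he, ← zpow_mul, mul_comm e i, zpow_mul] at this
        rw [zpow_sub_one, this, mul_inv_cancel]
      obtain ⟨d, hd⟩ := he4
      obtain ⟨m, hm⟩ := IsPGroup.iff_orderOf.1 hP (n ^ i)
      have hdvd : ((2 : ℤ) ^ m) ∣ 2 * (2 * d - 1) := by
        have := orderOf_dvd_iff_zpow_eq_one.2 h1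
        rw [hm, show e - 1 = 2 * (2 * d - 1) by omega] at this
        exact_mod_cast this
      have hm1 : m ≤ 1 := by
        by_contra hm2
        have := (pow_dvd_pow (2 : ℤ) (show 2 ≤ m by omega)).trans hdvd
        norm_num at this
        omega
      have hsq : n ^ i * n ^ i = 1 := by
        rw [← pow_two]
        refine orderOf_dvd_iff_pow_eq_one.1 ?_
        rw [hm]
        exact (pow_dvd_pow 2 hm1).trans (dvd_of_eq (pow_one 2))
      by_cases h : n ^ i = 1
      · exact Or.inl h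
      · refine Or.inr ?_
        have h4' : (s * s) * (s * s) = 1 := (four_eq s).trans h4
        exact congrArg Subtype.val (cyclic_involution_unique (M := C) (u := ⟨_, zpow_mem hn i⟩)
          (v := ⟨_, mul_mem hs hs⟩) (Subtype.ext hsq) (fun e => h (congrArg Subtype.val e))
          (Subtype.ext h4') (fun e => h2 (congrArg Subtype.val e)))
    · exfalso
      obtain ⟨i, hi⟩ := hmemC _ huC
      have hu' : u = q * n ^ i := by rw [hi, mul_inv_cancel_left]
      have : u * s * u⁻¹ = s := by rw [← hu s, mul_inv_cancel_right]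
      rw [hu', ← hk, show q * n ^ i * n ^ k * (q * n ^ i)⁻¹ = q * n ^ k * q⁻¹ by group, hk, hinv,
        inv_eq_iff_mul_eq_one] at this
      exact h2 this
  -- the central involution of `Φ` is central in `X`
  set z : ↥(frattini X) := s * s with hzdef
  have hzz : z * z = 1 := (four_eq s).trans h4
  have hzmem : ∀ p : ↥(frattini X), p * z = z * p := by
    intro p
    rcases hcases p with hp | hp
    · obtain ⟨i, rfl⟩ := hmemC p hp
      obtain ⟨l, hl⟩ := hmemC z (mul_mem hs hs)
      rw [← hl, ← zpow_add, ← zpow_add, add_comm]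
    · obtain ⟨i, hi⟩ := hmemC _ hp
      obtain ⟨l, hl⟩ := hmemC z (mul_mem hs hs)
      have hqz : q * z * q⁻¹ = z := by
        rw [hzdef, show q * (s * s) * q⁻¹ = (q * s * q⁻¹) * (q * s * q⁻¹) by group, hinv,
          ← mul_inv_rev, ← hzdef, inv_eq_iff_mul_eq_one, hzz]
      calc p * z = q * ((q⁻¹ * p) * z) := by group
        _ = q * (z * (q⁻¹ * p)) := by rw [← hi, ← hl, ← zpow_add, ← zpow_add, add_comm]
        _ = q * z * q⁻¹ * p := by group
        _ = z * p := by rw [hqz]
  have hzX : ∀ g : X, g * (z : X) = (z : X) * g := by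
    intro g
    let g' : ↥(frattini X) := ⟨g * (z : X) * g⁻¹, Normal.conj_mem inferInstance _ z.2 g⟩
    have hg' : ∀ p : ↥(frattini X), p * g' = g' * p := by
      intro p
      have hp := congrArg Subtype.val (hzmem ⟨g⁻¹ * (p : X) * g,
        by simpa using Normal.conj_mem inferInstance _ p.2 g⁻¹⟩)
      simp only [Subgroup.coe_mul] at hp
      refine Subtype.ext ?_
      show (p : X) * (g * z * g⁻¹) = g * z * g⁻¹ * p
      calc (p : X) * (g * z * g⁻¹) = g * (g⁻¹ * p * g * z) * g⁻¹ := by group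
        _ = g * (z * (g⁻¹ * p * g)) * g⁻¹ := by rw [hp]
        _ = _ := by group
    rcases hcent g' hg' with h | h
    · refine absurd ?_ h2
      have h' : g * (z : X) * g⁻¹ = 1 := congrArg Subtype.val h
      rw [conj_eq_one_iff] at h'
      exact Subtype.ext h'
    · have h' : g * (z : X) * g⁻¹ = z := congrArg Subtype.val h
      rwa [mul_inv_eq_iff_eq_mul] at h'
  -- an element central modulo `⟨z⟩`
  set Z : Subgroup X := zpowers (z : X) with hZdef
  haveI hZn : Z.Normal := ⟨fun x hx g => by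
    obtain ⟨i, rfl⟩ := mem_zpowers_iff.1 hx
    rw [← conj_zpow, hzX, mul_inv_cancel_right]
    exact zpow_mem (mem_zpowers _) i⟩
  have hZ : ∀ x ∈ Z, x = 1 ∨ x = z := by
    intro x hx
    obtain ⟨i, rfl⟩ := mem_zpowers_iff.1 hx
    have hzz' : (z : X) * z = 1 := congrArg Subtype.val hzz
    rcases Int.even_or_odd i with ⟨l, rfl⟩ | ⟨l, rfl⟩
    · left; rw [← two_mul, zpow_mul, zpow_two, hzz', one_zpow]
    · right; rw [zpow_add_one, zpow_mul, zpow_two, hzz', one_zpow, one_mul]
  set Φ' : Subgroup (X ⧸ Z) := (frattini X).map (QuotientGroup.mk' Z) with hΦ'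
  haveI : Φ'.Normal := Normal.map inferInstance _ (QuotientGroup.mk'_surjective Z)
  have hqne : ((q : X) : X ⧸ Z) ≠ 1 := by
    intro h
    rcases hZ _ ((QuotientGroup.eq_one_iff _).1 h) with h' | h'
    · exact hqC (by rw [show q = 1 from Subtype.ext h']; exact one_mem _)
    · exact hqC (by rw [show q = z from Subtype.ext h']; exact mul_mem hs hs)
  have hΦne : Φ' ≠ ⊥ := fun h => hqne (mem_bot.1 (h ▸ ⟨(q : X), q.2, rfl⟩))
  obtain ⟨ū, ⟨u, hu, rfl⟩, -, hu1, hucent⟩ := exists_central_invol (St.isP.to_quotient Z) Φ' hΦne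
  have hcos : ∀ g : X, g * u * g⁻¹ = u ∨ g * u * g⁻¹ = u * z := by
    intro g
    have hm : u⁻¹ * (g * u * g⁻¹) ∈ Z := by
      rw [← QuotientGroup.eq_one_iff]
      have := hucent (g : X ⧸ Z)
      simp only [QuotientGroup.mk'_apply] at this
      rw [QuotientGroup.mk_mul, QuotientGroup.mk_mul, QuotientGroup.mk_mul, QuotientGroup.mk_inv,
        QuotientGroup.mk_inv, this]
      group
    rcases hZ _ hm with h | h
    · left; rw [inv_mul_eq_one] at h; exact h.symm
    · right; rw [inv_mul_eq_iff_eq_mul] at h; exact h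
  have hall := commute_frattini_of_coset St.isP hzX (congrArg Subtype.val hzz) hcos
  apply hu1
  rw [QuotientGroup.mk'_apply, QuotientGroup.eq_one_iff]
  rcases hcent ⟨u, hu⟩ (fun p => Subtype.ext (hall p p.2)) with h | h
  · rw [show u = 1 from congrArg Subtype.val h]; exact one_mem _
  · rw [show u = (z : X) from congrArg Subtype.val h]; exact mem_zpowers _

/-- The Frattini subgroup contains no dihedral or quaternion group of order eight. -/
theorem no_inv {s q : X} (hs : s ∈ frattini X) (hq : q ∈ frattini X) (h4 : s ^ 4 = 1)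
    (h2 : s * s ≠ 1) (hinv : q * s * q⁻¹ = s⁻¹) (hqq : q * q = 1 ∨ q * q = s * s) : False := by
  obtain ⟨C, hCn, hCc, hQc⟩ := St.frattini_meta
  haveI := hCn; haveI := hCc; haveI := hQc
  lift s to ↥(frattini X) using hs
  lift q to ↥(frattini X) using hq
  have h4' : s ^ 4 = 1 := Subtype.ext h4
  have h2' : s * s ≠ 1 := fun e => h2 (congrArg Subtype.val e)
  have hinv' : q * s * q⁻¹ = s⁻¹ := Subtype.ext hinv
  have hqq' : q * q = 1 ∨ q * q = s * s :=
    hqq.imp (fun e => Subtype.ext e) fun e => Subtype.ext e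
  clear h4 h2 hinv hqq
  have hcommC : ∀ u v : ↥(frattini X), u * v * u⁻¹ * v⁻¹ ∈ C := fun u v => by
    rw [← QuotientGroup.eq_one_iff, QuotientGroup.mk_mul, QuotientGroup.mk_mul, QuotientGroup.mk_mul,
      QuotientGroup.mk_inv, QuotientGroup.mk_inv]
    letI := IsCyclic.commGroup (α := ↥(frattini X) ⧸ C)
    simp [mul_comm]
  have hs2 : s * s ∈ C := by
    have := inv_mem (hcommC q s)
    rwa [hinv', ← mul_inv_rev, inv_inv] at this
  have hs3 : s⁻¹ = s * (s * s) := inv_eq_of_mul_eq_one_right (by rw [← mul_assoc, four_eq, h4'])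
  have hq2C : q * q ∈ C := by rcases hqq' with e | e <;> rw [e]; exacts [one_mem _, hs2]
  by_cases hsC : s ∈ C
  · refine St.no_inv_cyclic hsC (fun hqC => h2' ?_) hq2C h4' h2' hinv'
    letI := IsCyclic.commGroup (α := C)
    have hc : q * s = s * q := congrArg Subtype.val (mul_comm (⟨q, hqC⟩ : C) ⟨s, hsC⟩)
    rw [hc, mul_inv_cancel_right] at hinv'
    exact eq_inv_iff_mul_eq_one.1 hinv'
  · -- a second element of order four inverted by `s`
    have key : ∀ r ∈ C, r * r = s * s → s * r * s⁻¹ = r⁻¹ → False := fun r hr hrr hsr =>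
      St.no_inv_cyclic hr hsC hs2
        (by rw [← four_eq, hrr, four_eq, h4'])
        (by rw [hrr]; exact h2') hsr
    by_cases hqC : q ∈ C
    · rcases hqq' with e | e
      · -- an involution of `C` is `s ^ 2`
        by_cases hq1 : q = 1
        · rw [hq1] at hinv'
          refine h2' ?_
          rw [one_mul, inv_one, mul_one] at hinv'
          exact eq_inv_iff_mul_eq_one.1 hinv'
        · have hqs : q = s * s := congrArg Subtype.val (cyclic_involution_unique (M := C)
            (u := ⟨q, hqC⟩) (v := ⟨_, hs2⟩) (Subtype.ext e) (fun h => hq1 (congrArg Subtype.val h))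
            (Subtype.ext ((four_eq s).trans h4'))
            (fun h => h2' (congrArg Subtype.val h)))
          rw [hqs, show s * s * s * (s * s)⁻¹ = s by group] at hinv'
          exact h2' (eq_inv_iff_mul_eq_one.1 hinv')
      · refine key q hqC e ?_
        have h1 : q * s = s⁻¹ * q := mul_inv_eq_iff_eq_mul.1 hinv'
        have h1' : s * q = q * s⁻¹ := by
          rw [eq_mul_inv_iff_mul_eq, mul_assoc, h1, mul_inv_cancel_left]
        rw [h1', mul_assoc, ← mul_inv_rev, ← e, mul_inv_rev, mul_inv_cancel_left]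
    · -- `q * s` lies in `C`
      have hqsC : q * s ∈ C := by
        rw [← QuotientGroup.eq_one_iff, QuotientGroup.mk_mul]
        by_contra hne
        have hu : ∀ u : ↥(frattini X), u ∉ C → u * u ∈ C →
            (u : ↥(frattini X) ⧸ C) * u = 1 ∧ (u : ↥(frattini X) ⧸ C) ≠ 1 :=
          fun u h1 h2 => ⟨(QuotientGroup.eq_one_iff _).2 h2, fun h => h1 ((QuotientGroup.eq_one_iff _).1 h)⟩
        have he := cyclic_involution_unique (hu q hqC hq2C).1 (hu q hqC hq2C).2 (hu s hsC hs2).1
          (hu s hsC hs2).2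
        exact hne (by rw [he]; exact (hu s hsC hs2).1)
      have hqs2 : q * s * (q * s) = q * q := by
        rw [show q * s * (q * s) = (q * s * q⁻¹) * (q * q) * s by group, hinv']
        rcases hqq' with e | e <;> rw [e] <;> group
      rcases hqq' with e | e
      · by_cases hq1 : q * s = 1
        · refine absurd ?_ h2'
          rw [eq_inv_of_mul_eq_one_right hq1, ← mul_inv_rev, e, inv_one]
        · have hqs : q * s = s * s := congrArg Subtype.val (cyclic_involution_unique (M := C)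
            (u := ⟨_, hqsC⟩) (v := ⟨_, hs2⟩) (Subtype.ext (hqs2.trans e))
            (fun h => hq1 (congrArg Subtype.val h))
            (Subtype.ext ((four_eq s).trans h4'))
            (fun h => h2' (congrArg Subtype.val h)))
          rw [mul_right_cancel hqs] at e
          exact h2' e
      · refine key _ hqsC (hqs2.trans e) ?_
        have h1' : s * q = q * s⁻¹ := by
          rw [eq_mul_inv_iff_mul_eq, mul_assoc, mul_inv_eq_iff_eq_mul.1 hinv', mul_inv_cancel_left]
        rw [show s * (q * s) * s⁻¹ = s * q by group, h1']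
        refine eq_inv_of_mul_eq_one_left ?_
        rw [show q * s⁻¹ * (q * s) = q * (s⁻¹ * q) * s by group,
          ← mul_inv_eq_iff_eq_mul.1 hinv', show q * (q * s) * s = q * q * (s * s) by group, e,
          four_eq, h4']

/-- A subgroup of the Frattini subgroup with one involution is cyclic. -/
theorem isCyclic_of_one_invol (A : Subgroup X) (hA : A ≤ frattini X)
    (h : ∀ u ∈ A, ∀ v ∈ A, u * u = 1 → v * v = 1 → u ≠ 1 → v ≠ 1 → u = v) : IsCyclic A := by
  haveI : Fact (Nat.Prime 2) := ⟨Nat.prime_two⟩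
  have hA2 : IsPGroup 2 A := St.isP.to_subgroup A
  rcases Cfsg.Agent.OneInvol.cyclic_or_quatShape hA2 (fun u v hu hv => by
    have h1 : ∀ w : A, orderOf w = 2 → (w : X) * w = 1 ∧ (w : X) ≠ 1 := fun w hw => by
      refine ⟨congrArg Subtype.val (show w * w = 1 by rw [← pow_two, ← hw, pow_orderOf_eq_one]),
        fun e => ?_⟩
      rw [show w = 1 from Subtype.ext e, orderOf_one] at hw
      omega
    exact Subtype.ext (h _ u.2 _ v.2 (h1 u hu).1 (h1 v hv).1 (h1 u hu).2 (h1 v hv).2)) with hc | ⟨a, h4, hidx, hinv⟩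
  · exact hc
  exfalso
  obtain ⟨x, hx⟩ : ∃ x : A, x ∉ zpowers a := by
    by_contra hno
    push Not at hno
    rw [(eq_top_iff.2 fun g _ => hno g : zpowers a = ⊤), index_top] at hidx
    omega
  set m := orderOf a / 4 with hm
  set s : A := a ^ m with hs
  have hs4 : orderOf s = 4 := orderOf_pow_orderOf_div (orderOf_pos a).ne' h4
  have hsne : s * s ≠ 1 := fun e => by
    have := orderOf_dvd_of_pow_eq_one ((pow_two s).trans e)
    rw [hs4] at this; omega
  have hxs : x * s * x⁻¹ = s⁻¹ := by rw [hs, ← conj_pow, hinv x hx, inv_pow]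
  obtain ⟨i, hi⟩ := mem_zpowers_iff.1 (Subgroup.mul_self_mem_of_index_two hidx x)
  have hxx : x * x * (x * x) = 1 := by
    have e : x * (x * x) * x⁻¹ = (x * x)⁻¹ := by rw [← hi, ← conj_zpow, hinv x hx, inv_zpow]
    rw [show x * (x * x) * x⁻¹ = x * x by group] at e
    exact eq_inv_iff_mul_eq_one.1 e
  refine St.no_inv (hA s.2) (hA x.2) ?_ (fun e => hsne (Subtype.ext e))
    (congrArg Subtype.val hxs) ?_
  · exact congrArg Subtype.val (show s ^ 4 = 1 by rw [← hs4, pow_orderOf_eq_one])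
  · by_cases hx1 : x * x = 1
    · exact Or.inl (congrArg Subtype.val hx1)
    · refine Or.inr ?_
      refine h _ (A.mul_mem x.2 x.2) _ (A.mul_mem s.2 s.2) (congrArg Subtype.val hxx) ?_
        (fun e => hx1 (Subtype.ext e)) (fun e => hsne (Subtype.ext e))
      exact congrArg Subtype.val (show s * s * (s * s) = 1 by
        rw [four_eq, ← hs4, pow_orderOf_eq_one])

/-- Involutions of the Frattini subgroup commute. -/
theorem invol_comm {u v : X} (hu : u ∈ frattini X) (hv : v ∈ frattini X) (hu2 : u * u = 1)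
    (hv2 : v * v = 1) : u * v = v * u := by
  haveI : Fact (Nat.Prime 2) := ⟨Nat.prime_two⟩
  have hui : u⁻¹ = u := inv_eq_of_mul_eq_one_right hu2
  have hvi : v⁻¹ = v := inv_eq_of_mul_eq_one_right hv2
  obtain ⟨k, hk⟩ := IsPGroup.iff_orderOf.1 St.isP (u * v)
  have hinv : ∀ n : ℕ, u * (u * v) ^ n * u⁻¹ = ((u * v) ^ n)⁻¹ := fun n => by
    rw [← conj_pow, ← inv_pow, mul_inv_rev, hvi, hui,
      show u * (u * v) * u = u * u * (v * u) by group, hu2, one_mul]
  by_cases hk2 : k ≤ 1
  · have : (u * v) * (u * v) = 1 := by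
      rw [← pow_two]; refine orderOf_dvd_iff_pow_eq_one.1 ?_
      rw [hk]; exact (pow_dvd_pow 2 hk2).trans (dvd_of_eq (pow_one 2))
    rw [← eq_inv_iff_mul_eq_one, mul_inv_rev, hui, hvi] at this
    exact this
  · exfalso
    have ho : orderOf ((u * v) ^ 2 ^ (k - 2)) = 4 := by
      rw [orderOf_pow, hk, Nat.gcd_eq_right (pow_dvd_pow 2 (by omega)),
        Nat.pow_div (by omega) two_pos, show k - (k - 2) = 2 by omega]
      norm_num
    refine St.no_inv (s := (u * v) ^ 2 ^ (k - 2)) (pow_mem (mul_mem hu hv) _) hu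
      (by rw [← ho]; exact pow_orderOf_eq_one _) (fun e => ?_) (hinv _) (Or.inl hu2)
    have := orderOf_dvd_of_pow_eq_one ((pow_two _).trans e)
    rw [ho] at this; omega

/-- The involutions of the Frattini subgroup, with `1`. -/
def W : Subgroup X where
  carrier := {w | w ∈ frattini X ∧ w * w = 1}
  one_mem' := ⟨one_mem _, one_mul 1⟩
  mul_mem' := fun {a b} ha hb => ⟨mul_mem ha.1 hb.1, by
    rw [show a * b * (a * b) = a * (b * a) * b by group, St.invol_comm hb.1 ha.1 hb.2 ha.2,
      show a * (a * b) * b = a * a * (b * b) by group, ha.2, hb.2, one_mul]⟩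
  inv_mem' := fun {a} ha => ⟨inv_mem ha.1, by rw [← mul_inv_rev, ha.2, inv_one]⟩

theorem mem_W {w : X} : w ∈ St.W ↔ w ∈ frattini X ∧ w * w = 1 := Iff.rfl

theorem W_normal : St.W.Normal := ⟨fun w hw g => ⟨Normal.conj_mem inferInstance w hw.1 g, by
  rw [show g * w * g⁻¹ * (g * w * g⁻¹) = g * (w * w) * g⁻¹ by group, hw.2, mul_one,
    mul_inv_cancel]⟩⟩

theorem card_W_le : Nat.card St.W ≤ 4 := St.card_le_four _ (fun _ h => h.1) fun _ h => h.2

theorem exists_two_invol : ∃ a b : X, a ∈ commutator X ∧ b ∈ commutator X ∧ a * a = 1 ∧ b * b = 1 ∧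
    a ≠ 1 ∧ b ≠ 1 ∧ a ≠ b := by
  by_contra h
  push Not at h
  exact St.not_cyclic (St.isCyclic_of_one_invol _ St.commutator_le fun u hu v hv h1 h2 h3 h4 =>
    h u v hu hv h1 h2 h3 h4)

theorem W_le : St.W ≤ commutator X := by
  obtain ⟨a, b, ha, hb, ha2, hb2, ha1, hb1, hab⟩ := St.exists_two_invol
  have haW : a ∈ St.W := ⟨St.commutator_le ha, ha2⟩
  have hbW : b ∈ St.W := ⟨St.commutator_le hb, hb2⟩
  set U : Subgroup X := St.W ⊓ commutator X
  have h3 : 3 ≤ Nat.card U := by
    classical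
    haveI : Fintype U := Fintype.ofFinite U
    rw [Nat.card_eq_fintype_card, ← Finset.card_eq_three.2 ⟨(1 : U), ⟨a, haW, ha⟩, ⟨b, hbW, hb⟩,
      fun e => ha1 (congrArg Subtype.val e).symm, fun e => hb1 (congrArg Subtype.val e).symm,
      fun e => hab (congrArg Subtype.val e), rfl⟩]
    exact Finset.card_le_univ _
  have hd := card_dvd_of_le (inf_le_left : U ≤ St.W)
  have hle := St.card_W_le
  have hle' := Nat.le_of_dvd Nat.card_pos hd
  have heq : U = St.W := eq_of_le_of_card_ge inf_le_left (by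
    obtain ⟨c, hc⟩ := hd
    have : 0 < Nat.card St.W := Nat.card_pos
    rcases c with _ | _ | c
    · rw [mul_zero] at hc; omega
    · rw [zero_add, mul_one] at hc; exact le_of_eq hc
    · rw [show c + 1 + 1 = c + 2 from rfl] at hc; nlinarith)
  exact heq ▸ inf_le_right

theorem card_W : Nat.card St.W = 4 := by
  obtain ⟨a, b, ha, hb, ha2, hb2, ha1, hb1, hab⟩ := St.exists_two_invol
  classical
  haveI : Fintype St.W := Fintype.ofFinite _
  have hab' : a * b ≠ 1 := fun e => hab (by
    rw [eq_inv_of_mul_eq_one_left e, inv_eq_of_mul_eq_one_right hb2])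
  let l : Fin 4 → St.W := ![1, ⟨a, St.commutator_le ha, ha2⟩, ⟨b, St.commutator_le hb, hb2⟩,
    ⟨a, St.commutator_le ha, ha2⟩ * ⟨b, St.commutator_le hb, hb2⟩]
  have hl : Function.Injective l := by
    intro i j e
    fin_cases i <;> fin_cases j <;>
      simp_all [l, Subtype.ext_iff, eq_comm, mul_eq_left, mul_eq_right]
  have := Nat.card_le_card_of_injective l hl
  rw [Nat.card_fin] at this
  exact le_antisymm St.card_W_le this

/-- The four elements of `W`. -/
theorem W_cases {a b w : X} (ha : a ∈ St.W) (hb : b ∈ St.W) (ha1 : a ≠ 1) (hb1 : b ≠ 1)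
    (hab : a ≠ b) (hw : w ∈ St.W) : w = 1 ∨ w = a ∨ w = b ∨ w = a * b := by
  classical
  by_contra h
  push Not at h
  obtain ⟨h1, h2, h3, h4⟩ := h
  have hab' : a * b ≠ 1 := fun e => hab (by
    rw [eq_inv_of_mul_eq_one_left e, inv_eq_of_mul_eq_one_right hb.2])
  let l : Fin 5 → St.W := ![1, ⟨a, ha⟩, ⟨b, hb⟩, ⟨a * b, mul_mem ha hb⟩, ⟨w, hw⟩]
  have hl : Function.Injective l := by
    intro i j e
    fin_cases i <;> fin_cases j <;>
      simp_all [l, Subtype.ext_iff, eq_comm, mul_eq_left, mul_eq_right]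
  have := Nat.card_le_card_of_injective l hl
  rw [Nat.card_fin, St.card_W] at this
  omega

/-- A central involution of `W`, generating the commutators of `W`. -/
theorem exists_z0 : ∃ z₀ ∈ St.W, z₀ ≠ 1 ∧ (∀ g : X, g * z₀ = z₀ * g) ∧
    ∀ w ∈ St.W, ∀ g : X, g * w * g⁻¹ = w ∨ g * w * g⁻¹ = w * z₀ := by
  haveI := St.W_normal
  have hne : St.W ≠ ⊥ := fun e => by
    have := St.card_W; rw [e, card_bot] at this; omega
  obtain ⟨z₀, hz, -, hz1, hzc⟩ := exists_central_invol St.isP St.W hne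
  refine ⟨z₀, hz, hz1, hzc, fun w hw g => ?_⟩
  by_cases hw1 : w = 1
  · left; rw [hw1, mul_one, mul_inv_cancel]
  by_cases hwz : w = z₀
  · left; rw [hwz, hzc, mul_inv_cancel_right]
  rcases St.W_cases hw hz hw1 hz1 hwz (St.W_normal.conj_mem w hw g) with h | h | h | h
  · rw [conj_eq_one_iff] at h; exact absurd h hw1
  · exact Or.inl h
  · refine absurd ?_ hwz
    rw [mul_inv_eq_iff_eq_mul, ← hzc] at h
    exact mul_left_cancel h
  · exact Or.inr h

/-- The Frattini subgroup centralises `W`. -/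
theorem commute_W {w p : X} (hw : w ∈ St.W) (hp : p ∈ frattini X) : p * w = w * p := by
  obtain ⟨z₀, hz, -, hzc, hcos⟩ := St.exists_z0
  exact commute_frattini_of_coset St.isP hzc hz.2 (hcos w hw) p hp

end Setup

end Cfsg.Agent.Fus.Bicyclic
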