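import Cfsg.Agent.Lib.Fus.Bicyclic.SubFacts

/-!
A self-centralizing subgroup `E` with an automorphism `β` of order three inverted by an element `t`
generating `N(E)` over `E`; the case of a fixed-point-free `β`.
-/

set_option autoImplicit false
set_option linter.style.haveILetI false
set_option linter.unusedSectionVars false
set_option maxHeartbeats 1000000

open scoped commutatorElement

namespace Cfsg.Agent.Fus.Bicyclic

open Subgroup

universe u

variable {X : Type u} [Group X] [Finite X]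

/-- Conjugation by an element of the normalizer. -/
noncomputable def conjAut (E : Subgroup X) (g : X) (hg : g ∈ normalizer (E : Set X)) : MulAut ↥E :=
  E.normalizerMonoidHom ⟨g, hg⟩

theorem conjAut_coe (E : Subgroup X) (g : X) (hg : g ∈ normalizer (E : Set X)) (e : E) :
    (conjAut E g hg e : X) = g * e * g⁻¹ := rfl

/-- The configuration of an essential subgroup. -/
structure Frame (X : Type u) [Group X] where
  E : Subgroup X
  ne_top : E ≠ ⊤
  centric : ∀ g : X, (∀ e ∈ E, g * e = e * g) → g ∈ E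
  β : MulAut ↥E
  t : X
  cube : β ^ 3 = 1
  moves : ∃ e : ↥E, e⁻¹ * β e ∉ frattini ↥E
  t_norm : t ∈ normalizer (E : Set X)
  t_not : t ∉ E
  norm : ∀ g ∈ normalizer (E : Set X), g ∈ E ∨ t⁻¹ * g ∈ E
  inv : ∀ e : ↥E, conjAut E t t_norm (β e) = β (β (conjAut E t t_norm e))

namespace Frame

variable (Fr : Frame X)

/-- The automorphism induced by `t`. -/
noncomputable abbrev τ : MulAut ↥Fr.E := conjAut Fr.E Fr.t Fr.t_norm

theorem tt_mem : Fr.t * Fr.t ∈ Fr.E := by
  rcases Fr.norm _ (mul_mem Fr.t_norm Fr.t_norm) with h | h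
  · exact h
  · rw [inv_mul_cancel_left] at h; exact absurd h Fr.t_not

theorem τ_sq (e : ↥Fr.E) :
    Fr.τ (Fr.τ e) = ⟨Fr.t * Fr.t, Fr.tt_mem⟩ * e * (⟨Fr.t * Fr.t, Fr.tt_mem⟩ : ↥Fr.E)⁻¹ := by
  refine Subtype.ext ?_
  simp only [conjAut_coe, Subgroup.coe_mul, Subgroup.coe_inv]
  group

theorem cube_apply (e : ↥Fr.E) : Fr.β (Fr.β (Fr.β e)) = e := Bicyclic.cube Fr.β Fr.cube e

/-- Something fixed by `τ` cannot be moved by `β`. -/
theorem fixed_of_τ {w : ↥Fr.E} (h : Fr.τ w = w) (hb : Fr.τ (Fr.β w) = Fr.β w) : Fr.β w = w := by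
  rw [Fr.inv, h] at hb
  exact Fr.β.injective hb

theorem mk_β {a b : ↥Fr.E} (h : (a : ↥Fr.E ⧸ frattini ↥Fr.E) = b) :
    ((Fr.β a : ↥Fr.E) : ↥Fr.E ⧸ frattini ↥Fr.E) = ((Fr.β b : ↥Fr.E) : ↥Fr.E ⧸ frattini ↥Fr.E) := by
  rw [← autQ_mk, h, autQ_mk]

/-- Modulo the Frattini subgroup something fixed by `τ` together with its image is fixed by `β`. -/
theorem fixed_mod_of_τ {w : ↥Fr.E} (h : w⁻¹ * Fr.τ w ∈ frattini ↥Fr.E)
    (hb : (Fr.β w)⁻¹ * Fr.τ (Fr.β w) ∈ frattini ↥Fr.E) : w⁻¹ * Fr.β w ∈ frattini ↥Fr.E := by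
  rw [Fr.inv] at hb
  have h1 := QuotientGroup.eq.2 hb
  have h2 := Fr.mk_β (Fr.mk_β (QuotientGroup.eq.2 h))
  rw [← h2] at h1
  have h3 : Fr.β ((Fr.β w)⁻¹ * w) ∈ frattini ↥Fr.E := by
    rw [map_mul, map_inv]
    exact QuotientGroup.eq.1 h1.symm
  have h4 := frattini_map_mem Fr.β⁻¹ h3
  rw [MulAut.inv_apply_self] at h4
  have := inv_mem h4
  rwa [mul_inv_rev, inv_inv] at this

/-- A fixed-point-free `β` is impossible. -/
theorem fpf_false (St : Setup X) (hf : ∀ e, Fr.β e = e → e = 1) : False := by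
  haveI : Fact (Nat.Prime 2) := ⟨Nat.prime_two⟩
  set E := Fr.E with hE
  have hEp : IsPGroup 2 ↥E := St.isP.to_subgroup E
  obtain ⟨e₀, he₀⟩ := Fr.moves
  have hnt : Nontrivial ↥E := by
    rcases subsingleton_or_nontrivial ↥E with h | h
    · exact absurd (by rw [Subsingleton.elim (e₀⁻¹ * Fr.β e₀) 1]; exact one_mem _) he₀
    · exact h
  obtain ⟨h4, hcomm, hgen⟩ :=
    fpf_abelian Fr.β Fr.cube hEp hnt (St.frattini_index_le Fr.ne_top) hf
  -- squaring
  let sq : ↥E →* ↥E :=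
    { toFun := fun e => e * e
      map_one' := one_mul 1
      map_mul' := fun a b => by rw [mul_assoc, ← mul_assoc b a b, hcomm b a, mul_assoc, ← mul_assoc] }
  haveI : sq.range.Normal := ⟨fun x hx g => by rw [hcomm g x, mul_inv_cancel_right]; exact hx⟩
  have hrange : sq.range = frattini ↥E := by
    refine le_antisymm ?_ (frattini_le_of_sq _ fun e => ⟨e, (pow_two e).symm⟩)
    rintro _ ⟨e, rfl⟩
    show e * e ∈ _
    rw [← pow_two]; exact Grp.pGroup_pow_mem_frattini hEp e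
  have hker : Nat.card sq.ker = 4 := by
    have h1 := sq.ker.index_mul_card
    rw [index_ker, hrange] at h1
    have h2 := (frattini ↥E).index_mul_card
    rw [h4] at h2
    have : 0 < Nat.card (frattini ↥E) := Nat.card_pos
    nlinarith
  -- `W ≤ E`
  have hWE : St.W ≤ E := by
    by_cases hy : ∃ y : ↥E, (y : X) ∉ frattini X ∧ (y : X) * y ∈ St.W
    · obtain ⟨y, hy1, hy2⟩ := hy
      exact St.W_le_of_outer Fr.ne_top Fr.centric y.2 hy1 hy2
    · push Not at hy
      obtain ⟨i, hi⟩ := exists_prime_orderOf_dvd_card' (G := ↥E) 2 (by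
        obtain ⟨k, hk⟩ := IsPGroup.iff_card.1 hEp
        rw [hk]
        refine dvd_pow_self 2 fun h0 => ?_
        rw [h0, pow_zero] at hk
        have := Finite.one_lt_card (α := ↥E)
        omega)
      have hi2 : i * i = 1 := by rw [← pow_two, ← hi, pow_orderOf_eq_one]
      have hi1 : i ≠ 1 := fun h => by rw [h, orderOf_one] at hi; omega
      have hmem : ∀ w : ↥E, w * w = 1 → (w : X) ∈ St.W := fun w hw => by
        have hwX : (w : X) * w = 1 := congrArg Subtype.val hw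
        exact ⟨by_contra fun h => hy w h (by rw [hwX]; exact one_mem _), hwX⟩
      have hbi : Fr.β i * Fr.β i = 1 := by rw [← map_mul, hi2, map_one]
      intro w hw
      rcases St.W_cases (hmem i hi2) (hmem _ hbi) (fun h => hi1 (Subtype.ext h))
        (fun h => hi1 (Fr.β.map_eq_one_iff.1 (Subtype.ext h)))
        (fun h => hi1 (hf i (Subtype.ext h).symm)) hw with h | h | h | h <;> rw [h]
      · exact one_mem _
      · exact i.2
      · exact (Fr.β i).2
      · exact mul_mem i.2 (Fr.β i).2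
  have hWker : St.W.subgroupOf E = sq.ker := by
    refine eq_of_le_of_card_ge (fun w hw => Subtype.ext (mem_subgroupOf.1 hw).2) ?_
    rw [hker, Nat.card_congr (subgroupOfEquivOfLe hWE).toEquiv, St.card_W]
  have hEW : ∀ e ∈ E, ∀ w ∈ St.W, e * w = w * e := fun e he w hw =>
    congrArg Subtype.val (hcomm ⟨e, he⟩ ⟨w, hWE hw⟩)
  -- `t` does not centralise `W`
  have htW : ¬ ∀ w ∈ St.W, Fr.t * w = w * Fr.t := by
    intro h
    obtain ⟨w, hw, hw1⟩ : ∃ w ∈ St.W, w ≠ 1 := ⟨St.z0, St.z0_mem, St.z0_ne⟩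
    have hβW : (Fr.β ⟨w, hWE hw⟩ : X) ∈ St.W := by
      have h1 : (⟨w, hWE hw⟩ : ↥E) ∈ sq.ker := hWker ▸ mem_subgroupOf.2 hw
      have h2 : Fr.β ⟨w, hWE hw⟩ ∈ sq.ker := by
        show Fr.β _ * Fr.β _ = 1
        rw [← map_mul, show (⟨w, hWE hw⟩ : ↥E) * ⟨w, hWE hw⟩ = 1 from h1, map_one]
      exact mem_subgroupOf.1 (hWker.symm ▸ h2)
    have hfix : ∀ v : ↥E, (v : X) ∈ St.W → Fr.τ v = v := fun v hv => Subtype.ext (by
      rw [conjAut_coe, h _ hv, mul_inv_cancel_right])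
    exact hw1 (congrArg Subtype.val
      (hf _ (Fr.fixed_of_τ (hfix ⟨w, hWE hw⟩ hw) (hfix _ hβW))))
  have hnorm : normalizer (E : Set X) = ⊤ := by
    refine St.normal_of_centralizer hEW fun g hg hgW => ?_
    rcases Fr.norm g hg with h | h
    · exact h
    · refine absurd (fun w hw => ?_) htW
      have h1 := hEW _ h w hw
      calc Fr.t * w = Fr.t * (w * (Fr.t⁻¹ * g)) * (Fr.t⁻¹ * g)⁻¹ := by group
        _ = g * w * g⁻¹ * Fr.t := by rw [← h1]; group
        _ = w * Fr.t := by rw [hgW w hw, mul_inv_cancel_right]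
  have hall : ∀ g : X, g ∈ E ∨ Fr.t⁻¹ * g ∈ E := fun g => Fr.norm g (hnorm.symm ▸ mem_top g)
  -- the derived subgroup is cyclic
  let f : ↥E →* ↥E :=
    { toFun := fun e => e * (Fr.τ e)⁻¹
      map_one' := by simp
      map_mul' := fun a b => by
        rw [map_mul, mul_inv_rev, hcomm (Fr.τ b)⁻¹ (Fr.τ a)⁻¹, mul_assoc, mul_assoc,
          ← mul_assoc b, hcomm b (Fr.τ a)⁻¹, mul_assoc] }
  obtain ⟨x, hx⟩ : ∃ x : ↥E, x⁻¹ * Fr.τ x ∉ frattini ↥E := by
    by_contra h; push Not at h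
    exact he₀ (Fr.fixed_mod_of_τ (h _) (h _))
  have hττ : ∀ e, Fr.τ (Fr.τ e) = e := fun e => by
    rw [Fr.τ_sq, hcomm, inv_mul_cancel_left]
  have hxΦ : x ∉ frattini ↥E := fun h => hx (mul_mem (inv_mem h) (frattini_map_mem _ h))
  have hτxΦ : Fr.τ x ∉ frattini ↥E := fun h => hxΦ (by
    have := frattini_map_mem Fr.τ h
    rwa [hττ] at this)
  have hpr : x * Fr.τ x ∉ frattini ↥E := fun h => hx (by
    rw [show x⁻¹ * Fr.τ x = (x * x)⁻¹ * (x * Fr.τ x) by group, ← pow_two]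
    exact mul_mem (inv_mem (Grp.pGroup_pow_mem_frattini hEp x)) h)
  have hgen2 : closure ({x, Fr.τ x} : Set ↥E) = ⊤ := by
    refine frattini_nongenerating (eq_top_iff.2 fun g _ => ?_)
    set D := closure ({x, Fr.τ x} : Set ↥E) ⊔ frattini ↥E
    by_contra hg
    have hxD : x ∈ D := mem_sup_left (subset_closure (by simp))
    have htD : Fr.τ x ∈ D := mem_sup_left (subset_closure (by simp))
    have e1 : ∀ u : ↥E, u ∉ frattini ↥E → (1 : ↥E ⧸ frattini ↥E) ≠ u := fun u hu h =>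
      hu ((QuotientGroup.eq_one_iff u).1 h.symm)
    have e2 : ∀ u v : ↥E, u⁻¹ * v ∉ frattini ↥E → (u : ↥E ⧸ frattini ↥E) ≠ v := fun u v hu h =>
      hu (QuotientGroup.eq.1 h)
    have hgD : ∀ u ∈ D, (u : ↥E ⧸ frattini ↥E) ≠ g := fun u hu h => hg (by
      rw [← mul_inv_cancel_left u g]
      exact mul_mem hu (mem_sup_right (QuotientGroup.eq.1 h)))
    have := five_le_card (1 : ↥E ⧸ frattini ↥E) (x : ↥E ⧸ frattini ↥E)
      ((Fr.τ x : ↥E) : ↥E ⧸ frattini ↥E) ((x * Fr.τ x : ↥E) : ↥E ⧸ frattini ↥E)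
      (g : ↥E ⧸ frattini ↥E) (e1 x hxΦ) (e1 _ hτxΦ) (e1 _ hpr)
      (fun h => hgD 1 (one_mem _) (by rw [QuotientGroup.mk_one]; exact h))
      (e2 _ _ hx) (e2 _ _ (by rwa [inv_mul_cancel_left])) (hgD x hxD)
      (e2 _ _ (fun h => hxΦ (by rwa [hcomm x, inv_mul_cancel_left] at h)))
      (hgD _ htD) (hgD _ (mul_mem hxD htD))
    have h5 : Nat.card (↥E ⧸ frattini ↥E) = 4 := h4
    omega
  have hfτ : f (Fr.τ x) = (f x)⁻¹ := by
    show Fr.τ x * (Fr.τ (Fr.τ x))⁻¹ = (x * (Fr.τ x)⁻¹)⁻¹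
    rw [hττ, mul_inv_rev, inv_inv]
  have hrf : ∀ e, f e ∈ zpowers (f x) := fun e => by
    have : closure ({x, Fr.τ x} : Set ↥E) ≤ (zpowers (f x)).comap f := (closure_le _).2 (by
      rintro u (rfl | rfl)
      · exact mem_zpowers _
      · rw [SetLike.mem_coe, mem_comap, hfτ]; exact inv_mem (mem_zpowers _))
    exact this (hgen2.ge (mem_top e))
  set D : Subgroup X := (zpowers (f x)).map E.subtype
  have hDconj : ∀ g : X, ∀ d ∈ D, g * d * g⁻¹ ∈ D := by
    have hEfix : ∀ e ∈ E, ∀ d ∈ D, e * d * e⁻¹ = d := by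
      rintro e he _ ⟨d, -, rfl⟩
      rw [show e * (E.subtype d) = E.subtype d * e from congrArg Subtype.val (hcomm ⟨e, he⟩ d),
        mul_inv_cancel_right]
    have htfix : ∀ d ∈ D, Fr.t * d * Fr.t⁻¹ ∈ D := by
      rintro _ ⟨d, hd, rfl⟩
      refine ⟨Fr.τ d, ?_, rfl⟩
      obtain ⟨i, rfl⟩ := mem_zpowers_iff.1 hd
      rw [map_zpow]
      refine zpow_mem ?_ i
      have : Fr.τ (f x) = f (Fr.τ x) := by
        show Fr.τ (x * (Fr.τ x)⁻¹) = Fr.τ x * (Fr.τ (Fr.τ x))⁻¹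
        rw [map_mul, map_inv]
      rw [this, hfτ]; exact inv_mem (mem_zpowers _)
    intro g d hd
    rcases hall g with h | h
    · rw [hEfix g h d hd]; exact hd
    · have := htfix d hd
      rwa [show g * d * g⁻¹ = Fr.t * ((Fr.t⁻¹ * g) * d * (Fr.t⁻¹ * g)⁻¹) * Fr.t⁻¹ by group,
        hEfix _ h d hd]
  haveI : D.Normal := ⟨fun d hd g => hDconj g d hd⟩
  have hle : commutator X ≤ D := by
    refine commutator_le_of_gens (s := (E : Set X) ∪ {Fr.t}) (eq_top_iff.2 fun g _ => ?_) ?_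
    · rcases hall g with h | h
      · exact subset_closure (Or.inl h)
      · rw [← mul_inv_cancel_left Fr.t g]
        exact mul_mem (subset_closure (Or.inr rfl)) (subset_closure (Or.inl h))
    · have hd : ∀ e ∈ E, ⁅e, Fr.t⁆ ∈ D := fun e he => ⟨f ⟨e, he⟩, hrf _, by
        show e * (Fr.t * e * Fr.t⁻¹)⁻¹ = _
        rw [commutatorElement_def]; group⟩
      rintro a (ha | ha) b (hb | hb)
      · rw [commutatorElement_eq_one_iff_mul_comm.2 (congrArg Subtype.val (hcomm ⟨a, ha⟩ ⟨b, hb⟩))]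
        exact one_mem _
      · rw [Set.mem_singleton_iff.1 hb]; exact hd a ha
      · rw [Set.mem_singleton_iff.1 ha, ← commutatorElement_inv]; exact inv_mem (hd b hb)
      · rw [Set.mem_singleton_iff.1 ha, Set.mem_singleton_iff.1 hb, commutatorElement_self]
        exact one_mem _
  refine St.not_cyclic ?_
  haveI : IsCyclic ↥D :=
    isCyclic_of_surjective _ ((zpowers (f x)).equivMapOfInjective E.subtype E.subtype_injective).surjective
  exact isCyclic_of_injective (inclusion hle) (inclusion_injective hle)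

end Frame

end Cfsg.Agent.Fus.Bicyclic
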