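import Cfsg.Agent.Lib.Fus.Bicyclic.Frame

/-!
The case where `β` is fixed point free on `Φ(E)` and fixes a class outside it.
-/

set_option autoImplicit false
set_option linter.style.haveILetI false
set_option linter.unusedSectionVars false
set_option maxHeartbeats 1000000

open scoped commutatorElement

namespace Cfsg.Agent.Fus.Bicyclic

open Subgroup

universe u

variable {X : Type u} [Group X] [Finite X]

/-- The Frattini subgroup of a subgroup lies in that of the group. -/
theorem Setup.frattini_sub (St : Setup X) (E : Subgroup X) {f : ↥E} (hf : f ∈ frattini ↥E) :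
    (f : X) ∈ frattini X := by
  have : frattini ↥E ≤ (frattini X).subgroupOf E := frattini_le_of_sq _ fun e => by
    rw [mem_subgroupOf, pow_two]; exact St.sq_mem _
  exact mem_subgroupOf.1 (this hf)

theorem four_le_card {V : Type*} [Finite V] (a b c d : V) (hab : a ≠ b) (hac : a ≠ c) (had : a ≠ d)
    (hbc : b ≠ c) (hbd : b ≠ d) (hcd : c ≠ d) : 4 ≤ Nat.card V := by
  classical
  haveI := Fintype.ofFinite V
  rw [Nat.card_eq_fintype_card]
  refine le_trans ?_ (Finset.card_le_univ ({a, b, c, d} : Finset V))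
  simp [hab, hac, had, hbc, hbd, hcd]

theorem three_le_card {V : Type*} [Finite V] (a b c : V) (hab : a ≠ b) (hac : a ≠ c) (hbc : b ≠ c) :
    3 ≤ Nat.card V := by
  classical
  haveI := Fintype.ofFinite V
  rw [Nat.card_eq_fintype_card]
  refine le_trans ?_ (Finset.card_le_univ ({a, b, c} : Finset V))
  simp [hab, hac, hbc]

/-- Isomorphic groups have Frattini subgroups of the same index. -/
theorem frattini_index_congr {A B : Type*} [Group A] [Group B] [Finite A] (e : A ≃* B) :
    (frattini A).index = (frattini B).index := by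
  haveI : Finite B := Finite.of_equiv A e.toEquiv
  have h1 : frattini A = (frattini B).comap e.toMonoidHom := by
    refine le_antisymm (frattini_le_comap_frattini_of_surjective e.surjective) fun x hx => ?_
    have h2 := frattini_le_comap_frattini_of_surjective (φ := e.symm.toMonoidHom) e.symm.surjective hx
    simpa using h2
  rw [h1, index_comap_of_surjective _ e.surjective]

namespace Frame

variable (Fr : Frame X)

/-- With `E` centralising `W` and `t` not, `E` has index two. -/
theorem index_two (St : Setup X) (hEW : ∀ e ∈ Fr.E, ∀ w ∈ St.W, e * w = w * e)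
    (htW : ¬ ∀ w ∈ St.W, Fr.t * w = w * Fr.t) :
    (∀ g : X, g ∈ Fr.E ∨ Fr.t⁻¹ * g ∈ Fr.E) ∧ Nat.card X ≤ 2 * Nat.card Fr.E ∧
      frattini X ≤ Fr.E ∧ ¬ Fr.E ≤ frattini X := by
  have hmove : ∀ g, (∀ w ∈ St.W, g * w = w * g) → Fr.t⁻¹ * g ∈ Fr.E → False := by
    intro g hgW h
    refine htW fun w hw => ?_
    have h1 := hEW _ h w hw
    calc Fr.t * w = Fr.t * (w * (Fr.t⁻¹ * g)) * (Fr.t⁻¹ * g)⁻¹ := by group
      _ = g * w * g⁻¹ * Fr.t := by rw [← h1]; group
      _ = w * Fr.t := by rw [hgW w hw, mul_inv_cancel_right]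
  have hnorm : normalizer (Fr.E : Set X) = ⊤ := St.normal_of_centralizer hEW fun g hg hgW =>
    (Fr.norm g hg).elim id fun h => (hmove g hgW h).elim
  have hall : ∀ g : X, g ∈ Fr.E ∨ Fr.t⁻¹ * g ∈ Fr.E := fun g => Fr.norm g (hnorm.symm ▸ mem_top g)
  refine ⟨hall, ?_, fun p hp => ?_, fun hle => ?_⟩
  · let f : Bool × Fr.E → X := fun q => if q.1 then Fr.t * q.2 else q.2
    have hf : Function.Surjective f := fun g => by
      rcases hall g with h | h
      · exact ⟨(false, ⟨g, h⟩), rfl⟩
      · exact ⟨(true, ⟨_, h⟩), mul_inv_cancel_left Fr.t g⟩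
    refine (Nat.card_le_card_of_surjective f hf).trans ?_
    rw [Nat.card_prod, Nat.card_eq_fintype_card (α := Bool), Fintype.card_bool]
  · rcases hall p with h | h
    · exact h
    · exact (hmove p (fun w hw => St.commute_W hw hp) h).elim
  · obtain ⟨y, hy⟩ : ∃ y : X, y ∉ frattini X := by
      by_contra h; push Not at h
      have := St.frattini_index
      rw [(eq_top_iff.2 fun g _ => h g : frattini X = ⊤), index_top] at this
      omega
    obtain ⟨a, -, ha, hay⟩ := St.exists_gen hy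
    have h : ∀ g, g ∉ frattini X → Fr.t⁻¹ * g ∈ frattini X := fun g hg =>
      (hall g).elim (fun h => absurd (hle h) hg) fun h => hle h
    exact hay (by
      rw [show a⁻¹ * y = (Fr.t⁻¹ * a)⁻¹ * (Fr.t⁻¹ * y) by group]
      exact mul_mem (inv_mem (h a ha)) (h y hy))

theorem caseB (St : Setup X) : (∀ f ∈ frattini ↥Fr.E, Fr.β f = f → f = 1) →
    frattini ↥Fr.E ≠ ⊥ → ∀ u : ↥Fr.E, u ∉ frattini ↥Fr.E → Fr.β u = u → False := by
  haveI : Fact (Nat.Prime 2) := ⟨Nat.prime_two⟩
  set E := Fr.E with hE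
  set F := frattini ↥E with hFdef
  intro hfΦ hΦ u huΦ hu
  have hEp : IsPGroup 2 ↥E := St.isP.to_subgroup E
  have hsqF : ∀ e : ↥E, e * e ∈ F := fun e => by
    rw [← pow_two]; exact Grp.pGroup_pow_mem_frattini hEp e
  have hu2 : u * u = 1 := hfΦ _ (hsqF u) (by rw [map_mul, hu])
  -- the quotient
  set V := ↥E ⧸ F
  have hVc : ∀ a b : V, a * b = b * a := fun a b => QuotientGroup.induction_on a fun x =>
    QuotientGroup.induction_on b fun y => by
      rw [← QuotientGroup.mk_mul, ← QuotientGroup.mk_mul, QuotientGroup.eq]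
      refine Grp.pGroup_commutator_le_frattini hEp ?_
      rw [show (x * y)⁻¹ * (y * x) = ⁅y⁻¹, x⁻¹⁆ by simp only [commutatorElement_def]; group]
      exact commutator_mem_commutator_top _ _
  have hV2 : ∀ a : V, a * a = 1 := fun a => QuotientGroup.induction_on a fun x => by
    rw [← QuotientGroup.mk_mul]; exact (QuotientGroup.eq_one_iff _).2 (hsqF x)
  letI : CommGroup V := { (inferInstance : Group V) with mul_comm := hVc }
  set βV : MulAut V := autQ F Fr.β
  have hβV : ∀ x : ↥E, βV x = ((Fr.β x : ↥E) : V) := fun x => rfl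
  have hβV3 : ∀ v : V, βV (βV (βV v)) = v := fun v => QuotientGroup.induction_on v fun x => by
    rw [hβV, hβV, hβV, Fr.cube_apply]
  let δ : V →* V :=
    { toFun := fun v => v⁻¹ * βV v
      map_one' := by simp
      map_mul' := fun a b => by rw [map_mul, mul_inv]; exact mul_mul_mul_comm _ _ _ _ }
  have hdisj : ∀ v ∈ δ.range, βV v = v → v = 1 := by
    rintro _ ⟨a, rfl⟩ h
    have h' : βV (a⁻¹ * βV a) = a⁻¹ * βV a := h
    have h1 : a⁻¹ * βV a * βV (a⁻¹ * βV a) * βV (βV (a⁻¹ * βV a)) = 1 := by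
      simp only [map_mul, map_inv, hβV3]
      group
    rw [h', h', hV2, one_mul] at h1
    exact h1
  set K : Subgroup ↥E := δ.range.comap (QuotientGroup.mk' F) with hKdef
  haveI : K.Normal := Normal.comap inferInstance _
  have hFK : F ≤ K := fun f hf => by
    show (f : V) ∈ δ.range
    rw [(QuotientGroup.eq_one_iff f).2 hf]; exact one_mem _
  have hkK : ∀ a : ↥E, a⁻¹ * Fr.β a ∈ K := fun a => ⟨(a : V), by
    show (a : V)⁻¹ * βV a = _
    rw [hβV, QuotientGroup.mk'_apply, QuotientGroup.mk_mul, QuotientGroup.mk_inv]⟩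
  have hβK : ∀ e ∈ K, Fr.β e ∈ K := by
    rintro e ⟨v, hv⟩
    refine ⟨βV v, ?_⟩
    show (βV v)⁻¹ * βV (βV v) = ((Fr.β e : ↥E) : V)
    rw [← hβV, ← map_inv, ← map_mul]
    exact congrArg βV hv
  have hfK : ∀ e ∈ K, Fr.β e = e → e = 1 := fun e he h => by
    have h1 : (e : V) = 1 := hdisj _ he (by rw [hβV, h])
    exact hfΦ e ((QuotientGroup.eq_one_iff e).1 h1) h
  have huK : u ∉ K := fun h => huΦ (by rw [hfK u h hu]; exact one_mem _)
  -- sizes
  have hV8 : Nat.card V ≤ 8 := St.frattini_index_le Fr.ne_top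
  obtain ⟨e₀, he₀⟩ := Fr.moves
  set k := e₀⁻¹ * Fr.β e₀ with hk
  have hR4 : 4 ≤ Nat.card δ.range := by
    classical
    have hkR : (k : V) ∈ δ.range := hkK e₀
    have hkb : βV (k : V) ∈ δ.range := hβK k (hkK e₀)
    have hkbb : βV (βV (k : V)) ∈ δ.range := hβK _ (hβK k (hkK e₀))
    have h0 : (k : V) ≠ 1 := fun h => he₀ ((QuotientGroup.eq_one_iff k).1 h)
    have h1 : βV (k : V) ≠ k := fun h => h0 (hdisj _ hkR h)
    have n1 : βV (k : V) ≠ 1 := fun h => h0 (by rwa [MulEquiv.map_eq_one_iff] at h)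
    have n2 : βV (βV (k : V)) ≠ 1 := fun h => n1 (by rwa [MulEquiv.map_eq_one_iff] at h)
    have n3 : βV (βV (k : V)) ≠ βV k := fun h => h1 (βV.injective h)
    have n4 : βV (βV (k : V)) ≠ k := fun h => h1 (by
      conv_rhs => rw [← hβV3 k]
      rw [h])
    exact four_le_card (1 : δ.range) ⟨_, hkR⟩ ⟨_, hkb⟩ ⟨_, hkbb⟩
      (fun e => h0 (congrArg Subtype.val e).symm) (fun e => n1 (congrArg Subtype.val e).symm)
      (fun e => n2 (congrArg Subtype.val e).symm) (fun e => h1 (congrArg Subtype.val e).symm)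
      (fun e => n4 (congrArg Subtype.val e).symm) (fun e => n3 (congrArg Subtype.val e).symm)
  let Fx : Subgroup V :=
    { carrier := {v | βV v = v}
      one_mem' := map_one βV
      mul_mem' := fun {a b} (ha : βV a = a) (hb : βV b = b) => by
        show βV (a * b) = a * b
        rw [map_mul, ha, hb]
      inv_mem' := fun {a} (ha : βV a = a) => by
        show βV a⁻¹ = a⁻¹
        rw [map_inv, ha] }
  have hFx2 : 2 ≤ Nat.card Fx := by
    classical
    have hne : (u : V) ≠ 1 := fun h => huΦ ((QuotientGroup.eq_one_iff u).1 h)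
    let l : Bool → Fx := fun b => if b then ⟨u, by show βV _ = _; rw [hβV, hu]⟩ else 1
    have hl : Function.Injective l := fun a b e => by
      cases a <;> cases b
      · rfl
      · exact absurd (congrArg Subtype.val e) hne.symm
      · exact absurd (congrArg Subtype.val e) hne
      · rfl
    have := Nat.card_le_card_of_injective l hl
    rwa [Nat.card_eq_fintype_card, Fintype.card_bool] at this
  have hmul : Nat.card Fx * Nat.card δ.range ≤ Nat.card V := by
    rw [← Nat.card_prod]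
    refine Nat.card_le_card_of_injective (fun q => (q.1 : V) * q.2) fun a b e => ?_
    have e' : (a.1 : V) * a.2 = b.1 * b.2 := e
    have hz : (b.1 : V)⁻¹ * a.1 = b.2 * (a.2 : V)⁻¹ := by
      rw [inv_mul_eq_iff_eq_mul, ← mul_assoc, ← e', mul_inv_cancel_right]
    have h1 := hdisj _ (hz ▸ mul_mem b.2.2 (inv_mem a.2.2)) (Fx.mul_mem (Fx.inv_mem b.1.2) a.1.2)
    rw [inv_mul_eq_one] at h1
    have h2 : (a.2 : V) = b.2 := mul_left_cancel (h1 ▸ e' : (a.1 : V) * a.2 = a.1 * b.2)
    exact Prod.ext (Subtype.ext h1.symm) (Subtype.ext h2)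
  have hsplit : ∀ e : ↥E, e ∈ K ∨ u⁻¹ * e ∈ K := by
    intro e
    have hFxeq : Nat.card Fx = 2 := by
      by_contra h
      have h3 : 3 * 4 ≤ Nat.card Fx * Nat.card δ.range := Nat.mul_le_mul (by omega) hR4
      omega
    set v := (e : V) with hv
    set w := v * βV v * βV (βV v) with hw
    have hwF : w ∈ Fx := by
      show βV w = w
      rw [hw, map_mul, map_mul, hβV3, mul_comm (βV v * βV (βV v)) v, mul_assoc]
    have hwv : w⁻¹ * v ∈ δ.range := by
      refine ⟨βV v, ?_⟩
      show (βV v)⁻¹ * βV (βV v) = w⁻¹ * v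
      have hi : ∀ a : V, a⁻¹ = a := fun a => inv_eq_of_mul_eq_one_right (hV2 a)
      rw [hi, hi, hw]
      rw [mul_comm _ v, ← mul_assoc, ← mul_assoc, hV2, one_mul]
    have hwu : w = 1 ∨ w = (u : V) := by
      classical
      by_contra h; push Not at h
      have hne : (u : V) ≠ 1 := fun h => huΦ ((QuotientGroup.eq_one_iff u).1 h)
      have := three_le_card (1 : Fx) ⟨u, by show βV _ = _; rw [hβV, hu]⟩ ⟨w, hwF⟩
        (fun e => hne (congrArg Subtype.val e).symm) (fun e => h.1 (congrArg Subtype.val e).symm)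
        (fun e => h.2 (congrArg Subtype.val e).symm)
      omega
    rcases hwu with h | h <;> rw [h] at hwv
    · left; rw [inv_one, one_mul] at hwv; exact hwv
    · right; exact hwv
  have hKF : Nat.card K = 4 * Nat.card F := by
    have hR : Nat.card δ.range = 4 := by
      have : 2 * Nat.card δ.range ≤ 8 := le_trans (Nat.mul_le_mul_right _ hFx2) (hmul.trans hV8)
      omega
    have h1 := (F.subgroupOf K).index_mul_card
    rw [Nat.card_congr (subgroupOfEquivOfLe hFK).toEquiv] at h1
    have h2 : (F.subgroupOf K).index = 4 := by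
      rw [← hR]
      have := relIndex_ker (QuotientGroup.mk' F) (K := K)
      rw [QuotientGroup.ker_mk'] at this
      rw [show (F.subgroupOf K).index = F.relIndex K from rfl, this,
        map_comap_eq_self_of_surjective (QuotientGroup.mk'_surjective F)]
    rw [← h1, h2]
  have hEK : Nat.card ↥E = 2 * Nat.card K := by
    have h1 : Nat.card ↥E ≤ 2 * Nat.card K := by
      let f : Bool × K → ↥E := fun q => if q.1 then u * q.2 else q.2
      have hf : Function.Surjective f := fun g => by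
        rcases hsplit g with h | h
        · exact ⟨(false, ⟨g, h⟩), rfl⟩
        · exact ⟨(true, ⟨_, h⟩), mul_inv_cancel_left u g⟩
      refine (Nat.card_le_card_of_surjective f hf).trans ?_
      rw [Nat.card_prod, Nat.card_eq_fintype_card (α := Bool), Fintype.card_bool]
    refine le_antisymm h1 ?_
    rw [← Nat.card_congr (topEquiv (G := ↥E)).toEquiv]
    exact two_mul_card_le (lt_top_iff_ne_top.2 fun h => huK (h.symm ▸ mem_top u))
  -- `K` is abelian and `Φ(E)` consists of its squares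
  let βK : MulAut ↥K := MulEquiv.ofBijective ((Fr.β.toMonoidHom.comp K.subtype).codRestrict K
      fun x => hβK _ x.2)
    (Finite.injective_iff_bijective.1 fun a b e =>
      Subtype.ext (Fr.β.injective (congrArg Subtype.val e)))
  have hβKc : ∀ x : K, (βK x : ↥E) = Fr.β x := fun x => rfl
  have hKnt : Nontrivial ↥K := ⟨⟨⟨k, hkK e₀⟩, 1, fun h => he₀ (by
    have h' : k = 1 := congrArg Subtype.val h
    rw [h']; exact one_mem _)⟩⟩
  have hKi : (frattini ↥K).index ≤ 8 := by
    have hne : K.map E.subtype ≠ ⊤ := fun h => Fr.ne_top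
      (top_le_iff.1 (h ▸ map_subtype_le K))
    rw [frattini_index_congr (K.equivMapOfInjective E.subtype E.subtype_injective)]
    exact St.frattini_index_le hne
  obtain ⟨hK4, hKcomm, -⟩ := fpf_abelian βK
    (MulEquiv.ext fun x => Subtype.ext (by
      show ((βK (βK (βK x)) : K) : ↥E) = x
      rw [hβKc, hβKc, hβKc, Fr.cube_apply]))
    (hEp.to_subgroup K) hKnt hKi
    fun x hx => Subtype.ext (hfK x x.2 (congrArg Subtype.val hx))
  have hKc : ∀ a ∈ K, ∀ b ∈ K, a * b = b * a := fun a ha b hb =>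
    congrArg Subtype.val (hKcomm ⟨a, ha⟩ ⟨b, hb⟩)
  have hFK2 : ∀ f ∈ F, ∃ x ∈ K, x * x = f := by
    let sq : ↥K →* ↥E :=
      { toFun := fun x => (x : ↥E) * x
        map_one' := one_mul 1
        map_mul' := fun a b => by
          rw [Subgroup.coe_mul, mul_assoc, ← mul_assoc (b : ↥E) (a : ↥E), hKc _ b.2 _ a.2,
            mul_assoc, ← mul_assoc] }
    have hle : sq.range ≤ F := by rintro _ ⟨x, rfl⟩; exact hsqF _
    haveI : (sq.range.subgroupOf K).Normal := ⟨fun x hx g => by
      rw [hKcomm g x, mul_inv_cancel_right]; exact hx⟩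
    have h1 : frattini ↥K ≤ sq.range.subgroupOf K := frattini_le_of_sq _ fun x =>
      mem_subgroupOf.2 ⟨x, by rw [pow_two]; rfl⟩
    have h2 : Nat.card F ≤ Nat.card sq.range := by
      have h3 := (frattini ↥K).index_mul_card
      rw [hK4, hKF] at h3
      have h4 := card_le_of_le h1
      rw [Nat.card_congr (subgroupOfEquivOfLe (hle.trans hFK)).toEquiv] at h4
      omega
    intro f hf
    obtain ⟨x, hx⟩ := (eq_of_le_of_card_ge hle h2).ge hf
    exact ⟨x, x.2, hx⟩
  have hFc : ∀ a ∈ F, ∀ b ∈ F, a * b = b * a := fun a ha b hb => hKc a (hFK ha) b (hFK hb)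
  -- `W ≤ Φ(E)`
  have hWF : ∀ w ∈ St.W, ∃ f ∈ F, (f : X) = w := by
    obtain ⟨⟨i, hiF⟩, hi⟩ := exists_prime_orderOf_dvd_card' (G := F) 2 (by
      obtain ⟨n, hn⟩ := IsPGroup.iff_card.1 (hEp.to_subgroup F)
      rw [hn]
      refine dvd_pow_self 2 fun h0 => hΦ ?_
      rw [h0, pow_zero] at hn
      exact Subgroup.card_eq_one.1 hn)
    have hi2 : i * i = 1 := by
      have := pow_orderOf_eq_one (⟨i, hiF⟩ : F)
      rw [hi, pow_two] at this
      exact congrArg Subtype.val this
    have hi1 : i ≠ 1 := fun h => by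
      rw [show (⟨i, hiF⟩ : F) = 1 from Subtype.ext h, orderOf_one] at hi; omega
    have hmem : ∀ f ∈ F, f * f = 1 → (f : X) ∈ St.W := fun f hf h =>
      ⟨St.frattini_sub E hf, congrArg Subtype.val h⟩
    have hbi : Fr.β i * Fr.β i = 1 := by rw [← map_mul, hi2, map_one]
    intro w hw
    rcases St.W_cases (hmem i hiF hi2) (hmem _ (frattini_map_mem _ hiF) hbi)
      (fun h => hi1 (Subtype.ext h)) (fun h => hi1 (Fr.β.map_eq_one_iff.1 (Subtype.ext h)))
      (fun h => hi1 (hfΦ i hiF (Subtype.ext h).symm)) hw with h | h | h | h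
    · exact ⟨1, one_mem _, h.symm⟩
    · exact ⟨i, hiF, h.symm⟩
    · exact ⟨_, frattini_map_mem _ hiF, h.symm⟩
    · exact ⟨i * Fr.β i, mul_mem hiF (frattini_map_mem _ hiF), h.symm⟩
  have hFW : ∀ f ∈ F, f * f = 1 → (f : X) ∈ St.W := fun f hf h =>
    ⟨St.frattini_sub E hf, congrArg Subtype.val h⟩
  have hWu : ∀ w ∈ St.W, (u : X) * w = w * u := by
    intro w hw
    rcases St.W_move hw (u : X) with h | h
    · exact mul_inv_eq_iff_eq_mul.1 h
    · exfalso
      obtain ⟨f, hf, hfw⟩ := hWF w hw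
      obtain ⟨z, hz, hzz⟩ := hWF _ St.z0_mem
      subst hfw
      have hf2 : f * f = 1 := Subtype.ext hw.2
      have h' : u * f * u⁻¹ = f * z := Subtype.ext (by show (u : X) * f * (u : X)⁻¹ = (f : X) * (z : X); rw [hzz]; exact h)
      have h2 : u * Fr.β f * u⁻¹ = Fr.β f * Fr.β z := by
        have := congrArg Fr.β h'
        rwa [map_mul, map_mul, map_inv, hu, map_mul] at this
      have hbfW := hFW _ (frattini_map_mem Fr.β hf) (by rw [← map_mul, hf2, map_one])
      have hz1 : z ≠ 1 := fun h => St.z0_ne (by rw [← hzz, h]; rfl)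
      have h2X : (u : X) * (Fr.β f : X) * (u : X)⁻¹ = (Fr.β f : X) * (Fr.β z : X) :=
        congrArg Subtype.val h2
      rcases St.W_move hbfW (u : X) with h3 | h3
      · rw [h2X, mul_eq_left] at h3
        exact hz1 (Fr.β.map_eq_one_iff.1 (Subtype.ext h3))
      · rw [h2X, ← hzz] at h3
        exact hz1 (hfΦ z hz (Subtype.ext (mul_left_cancel h3)))
  have hEW : ∀ e ∈ E, ∀ w ∈ St.W, e * w = w * e := by
    intro e he w hw
    obtain ⟨f, hf, hfw⟩ := hWF w hw
    subst hfw
    rcases hsplit ⟨e, he⟩ with h | h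
    · exact congrArg Subtype.val (hKc _ h f (hFK hf))
    · have h1 : (u : X)⁻¹ * e * f = f * ((u : X)⁻¹ * e) :=
        congrArg Subtype.val (hKc _ h f (hFK hf))
      calc e * (f : X) = u * ((u : X)⁻¹ * e * f) := by group
        _ = f * e := by rw [h1, ← mul_assoc, hWu _ hw]; group
  have htW : ¬ ∀ w ∈ St.W, Fr.t * w = w * Fr.t := by
    intro h
    obtain ⟨z, hz, hzz⟩ := hWF _ St.z0_mem
    have hfix : ∀ v : ↥E, (v : X) ∈ St.W → Fr.τ v = v := fun v hv => Subtype.ext (by
      rw [conjAut_coe, h _ hv, mul_inv_cancel_right])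
    have hz2 : z * z = 1 := Subtype.ext (by rw [Subgroup.coe_mul, hzz]; exact St.z0_mem.2)
    have := hfΦ z hz (Fr.fixed_of_τ (hfix z (hzz ▸ St.z0_mem))
      (hfix _ (hFW _ (frattini_map_mem Fr.β hz) (by rw [← map_mul, hz2, map_one]))))
    exact St.z0_ne (by rw [← hzz, this]; rfl)
  obtain ⟨hall, hX2, hPE, hEP⟩ := Fr.index_two St hEW htW
  have hXP : Nat.card X = 4 * Nat.card (frattini X) := by
    rw [← (frattini X).index_mul_card, St.frattini_index]
  set P : Subgroup ↥E := (frattini X).subgroupOf E with hP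
  have hPcard : Nat.card P = Nat.card (frattini X) :=
    Nat.card_congr (subgroupOfEquivOfLe hPE).toEquiv
  -- the action of `t`
  set τ : MulAut ↥E := Fr.τ
  have hKτ : ∀ e ∈ K, τ e ∈ K := by
    rintro e ⟨v, hv⟩
    obtain ⟨a, rfl⟩ := QuotientGroup.mk_surjective v
    have hv' : (e : V) = ((a⁻¹ * Fr.β a : ↥E) : V) := hv.symm
    have h1 : (a⁻¹ * Fr.β a)⁻¹ * e ∈ F := QuotientGroup.eq.1 hv'.symm
    have h2 : τ (a⁻¹ * Fr.β a) ∈ K := by
      rw [map_mul, map_inv, Fr.inv]
      have h3 := hkK (τ a)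
      rw [show (τ a)⁻¹ * Fr.β (Fr.β (τ a)) =
        (τ a)⁻¹ * Fr.β (τ a) * ((Fr.β (τ a))⁻¹ * Fr.β (Fr.β (τ a))) by group]
      exact mul_mem h3 (hkK _)
    rw [show τ e = τ (a⁻¹ * Fr.β a) * τ ((a⁻¹ * Fr.β a)⁻¹ * e) by
      rw [← map_mul, mul_inv_cancel_left]]
    exact mul_mem h2 (hFK (frattini_map_mem _ h1))
  let L : Subgroup ↥E :=
    { carrier := {e | e ∈ K ∧ e⁻¹ * τ e ∈ F}
      one_mem' := ⟨one_mem _, by simp⟩
      mul_mem' := fun {a b} ha hb => ⟨mul_mem ha.1 hb.1, by
        rw [map_mul, show (a * b)⁻¹ * (τ a * τ b) = b⁻¹ * (a⁻¹ * τ a) * b⁻¹⁻¹ * (b⁻¹ * τ b) by group]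
        exact mul_mem (Normal.conj_mem inferInstance _ ha.2 _) hb.2⟩
      inv_mem' := fun {a} ha => ⟨inv_mem ha.1, by
        rw [map_inv, inv_inv, show a * (τ a)⁻¹ = a * (a⁻¹ * τ a)⁻¹ * a⁻¹ by group]
        exact Normal.conj_mem inferInstance _ (inv_mem ha.2) _⟩ }
  have hLK : L < K := by
    refine lt_of_le_of_ne (fun e he => he.1) fun h => he₀ ?_
    have hall' : ∀ e ∈ K, e⁻¹ * τ e ∈ F := fun e he => (h.ge he).2
    have hkb := hβK k (hkK e₀)
    have := Fr.fixed_mod_of_τ (hall' k (hkK e₀)) (hall' _ hkb)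
    exact (QuotientGroup.eq_one_iff k).1
      (hdisj _ (hkK e₀) (by rw [hβV]; exact (QuotientGroup.eq.2 this).symm))
  set v : ↥E := ⟨Fr.t * Fr.t, Fr.tt_mem⟩ with hv
  have hτv : τ v = v := Subtype.ext (by
    rw [conjAut_coe]
    show Fr.t * (Fr.t * Fr.t) * Fr.t⁻¹ = Fr.t * Fr.t
    group)
  have hττ : ∀ e, τ (τ e) = v * e * v⁻¹ := Fr.τ_sq
  have hττF : ∀ e, e⁻¹ * τ (τ e) ∈ F := fun e => by
    rw [hττ, show e⁻¹ * (v * e * v⁻¹) = ⁅e⁻¹, v⁆ by simp only [commutatorElement_def]; group]
    exact Grp.pGroup_commutator_le_frattini hEp (commutator_mem_commutator_top _ _)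
  by_cases hvK : v ∈ K
  · -- all squares lie in `L`
    have hle : P ≤ L := by
      have hFL : F ≤ L := fun f hf => ⟨hFK hf, mul_mem (inv_mem hf) (frattini_map_mem _ hf)⟩
      haveI : L.Normal := Normal.of_commutator_le _
        ((Grp.pGroup_commutator_le_frattini hEp).trans hFL)
      have hvL : v ∈ L := ⟨hvK, by rw [hτv, inv_mul_cancel]; exact one_mem _⟩
      set LX : Subgroup X := L.map E.subtype
      haveI : LX.Normal := ⟨by
        rintro _ ⟨l, hl, rfl⟩ g
        rcases hall g with h | h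
        · exact ⟨⟨g, h⟩ * l * ⟨g, h⟩⁻¹, Normal.conj_mem inferInstance l hl _, rfl⟩
        · have h1 := Normal.conj_mem (inferInstance : L.Normal) l hl (⟨_, h⟩ : ↥E)
          refine ⟨τ (⟨_, h⟩ * l * (⟨_, h⟩ : ↥E)⁻¹), ⟨hKτ _ h1.1, ?_⟩, ?_⟩
          · rw [← map_inv, ← map_mul]; exact frattini_map_mem _ h1.2
          · show Fr.t * (Fr.t⁻¹ * g * l * (Fr.t⁻¹ * g)⁻¹) * Fr.t⁻¹ = g * l * g⁻¹
            group⟩
      have hsq : ∀ g : X, g ^ 2 ∈ LX := by
        intro g
        rcases hall g with h | h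
        · exact ⟨⟨g, h⟩ * ⟨g, h⟩, hFL (hsqF _), by rw [pow_two]; rfl⟩
        · set e : ↥E := ⟨_, h⟩ with he
          refine ⟨τ e * v * e, ?_, ?_⟩
          · rw [show τ e * v * e = (τ e * v * (τ e)⁻¹) * (τ e * e) by group]
            refine mul_mem (Normal.conj_mem inferInstance v hvL _) ⟨?_, ?_⟩
            · rw [show τ e * e = e * (e⁻¹ * τ e) * e⁻¹ * (e * e) by group]
              refine mul_mem (Normal.conj_mem inferInstance _ ?_ e) (hFK (hsqF e))
              rcases hsplit e with h' | h'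
              · exact mul_mem (inv_mem h') (hKτ _ h')
              · have hτu : u⁻¹ * τ u ∈ K := by
                  rcases hsplit (τ u) with h4 | h4
                  · exfalso
                    refine huK ?_
                    have h5 := hKτ _ h4
                    rw [show u = τ (τ u) * (u⁻¹ * τ (τ u))⁻¹ by group]
                    exact mul_mem h5 (hFK (inv_mem (hττF u)))
                  · exact h4
                rw [show e⁻¹ * τ e = (u⁻¹ * e)⁻¹ * (u⁻¹ * τ u) * τ (u⁻¹ * e) by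
                  rw [map_mul, map_inv]; group]
                exact mul_mem (mul_mem (inv_mem h') hτu) (hKτ _ h')
            · rw [map_mul, show (τ e * e)⁻¹ * (τ (τ e) * τ e) =
                e⁻¹ * ((τ e)⁻¹ * (e * (e⁻¹ * τ (τ e)) * e⁻¹) * (τ e)⁻¹⁻¹) * e⁻¹⁻¹ *
                  ⁅e⁻¹, (τ e)⁻¹⁆ by simp only [commutatorElement_def]; group]
              exact mul_mem (Normal.conj_mem inferInstance _ (Normal.conj_mem inferInstance _
                (Normal.conj_mem inferInstance _ (hττF e) _) _) _)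
                (Grp.pGroup_commutator_le_frattini hEp (commutator_mem_commutator_top _ _))
          · rw [pow_two]
            show Fr.t * (Fr.t⁻¹ * g) * Fr.t⁻¹ * (Fr.t * Fr.t) * (Fr.t⁻¹ * g) = g * g
            group
      intro p hp
      obtain ⟨l, hl, hlp⟩ := frattini_le_of_sq LX hsq (mem_subgroupOf.1 hp)
      have : l = p := Subtype.ext hlp
      exact this ▸ hl
    have h1 := card_le_of_le hle
    have h2 := two_mul_card_le hLK
    have h3 : 2 * Nat.card ↥E ≤ Nat.card X := by
      rw [← Nat.card_congr (topEquiv (G := X)).toEquiv]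
      exact two_mul_card_le (lt_top_iff_ne_top.2 Fr.ne_top)
    have : 0 < Nat.card (frattini X) := Nat.card_pos
    omega
  · -- a quotient of `Φ(X)` that is elementary of order eight
    have hvP : v ∈ P := mem_subgroupOf.2 (St.sq_mem Fr.t)
    have hFP : F ≤ P := fun f hf => mem_subgroupOf.2 (St.frattini_sub E hf)
    have hPsplit : ∀ p : ↥E, p ∈ K ∨ v⁻¹ * p ∈ K := by
      intro p
      rcases hsplit p with h | h
      · exact Or.inl h
      · rcases hsplit v with h' | h'
        · exact absurd h' hvK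
        · refine Or.inr ?_
          rw [show v⁻¹ * p = (u⁻¹ * v)⁻¹ * (u⁻¹ * p) by group]
          exact mul_mem (inv_mem h') h
    have hτP : ∀ p ∈ P, τ p ∈ P := fun p hp => by
      rw [mem_subgroupOf, conjAut_coe]
      exact Normal.conj_mem inferInstance _ (mem_subgroupOf.1 hp) _
    have hPKL : ∀ f ∈ P, f ∈ K → f⁻¹ * τ f ∈ F := by
      intro f hf hfK'
      by_contra h
      refine hEP fun e he => ?_
      have hfin : ∀ x ∈ K, x ∈ P := by
        intro x hx
        have hFP' : ∀ q ∈ P, q⁻¹ * x ∈ F → x ∈ P := fun q hq h1 => by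
          rw [← mul_inv_cancel_left q x]; exact mul_mem hq (hFP h1)
        by_contra hxP
        classical
        have n1 : (f : V) ≠ 1 := fun h1 => h (by
          have := (QuotientGroup.eq_one_iff f).1 h1
          exact mul_mem (inv_mem this) (frattini_map_mem _ this))
        have n2 : ((τ f : ↥E) : V) ≠ 1 := fun h1 => n1 (by
          rw [QuotientGroup.eq_one_iff]
          have h2 := frattini_map_mem τ ((QuotientGroup.eq_one_iff _).1 h1)
          have h3 := mul_mem h2 (inv_mem (hττF f))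
          rwa [mul_inv_rev, inv_inv, mul_inv_cancel_left] at h3)
        have n3 : (f : V) ≠ ((τ f : ↥E) : V) := fun h1 => h (QuotientGroup.eq.1 h1)
        have hR : Nat.card δ.range ≤ 4 := by
          have : 2 * Nat.card δ.range ≤ 8 := le_trans (Nat.mul_le_mul_right _ hFx2) (hmul.trans hV8)
          omega
        have := five_le_card (1 : δ.range) ⟨(f : V), hfK'⟩ ⟨_, hKτ f hfK'⟩
          ⟨(f : V) * ((τ f : ↥E) : V), mul_mem hfK' (hKτ f hfK')⟩ ⟨(x : V), hx⟩
          (fun h1 => n1 (congrArg Subtype.val h1).symm) (fun h1 => n2 (congrArg Subtype.val h1).symm)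
          (fun h1 => n3 (by
            have := eq_inv_of_mul_eq_one_left (congrArg Subtype.val h1).symm
            rwa [inv_eq_of_mul_eq_one_right (hV2 _)] at this))
          (fun h1 => hxP (hFP' 1 (one_mem _) (by
            rw [inv_one, one_mul]
            exact (QuotientGroup.eq_one_iff x).1 (congrArg Subtype.val h1).symm)))
          (fun h1 => n3 (congrArg Subtype.val h1))
          (fun h1 => n2 (mul_eq_left.1 (congrArg Subtype.val h1).symm))
          (fun h1 => hxP (hFP' f hf (QuotientGroup.eq.1 (congrArg Subtype.val h1))))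
          (fun h1 => n1 (mul_eq_right.1 (congrArg Subtype.val h1).symm))
          (fun h1 => hxP (hFP' _ (hτP f hf) (QuotientGroup.eq.1 (congrArg Subtype.val h1))))
          (fun h1 => hxP (hFP' _ (mul_mem hf (hτP f hf))
            (QuotientGroup.eq.1 (congrArg Subtype.val h1))))
        omega
      rcases hPsplit ⟨e, he⟩ with h' | h'
      · exact mem_subgroupOf.1 (hfin _ h')
      · have := mul_mem hvP (hfin _ h')
        rw [mul_inv_cancel_left] at this
        exact mem_subgroupOf.1 this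
    -- squares of `Φ(E)`
    let F2 : Subgroup ↥E :=
      { carrier := {q | ∃ f ∈ F, f * f = q}
        one_mem' := ⟨1, one_mem _, one_mul 1⟩
        mul_mem' := by
          rintro _ _ ⟨a, ha, rfl⟩ ⟨b, hb, rfl⟩
          exact ⟨a * b, mul_mem ha hb, by
            rw [mul_assoc, ← mul_assoc b a b, hFc b hb a ha, mul_assoc, ← mul_assoc]⟩
        inv_mem' := by rintro _ ⟨a, ha, rfl⟩; exact ⟨a⁻¹, inv_mem ha, by rw [mul_inv_rev]⟩ }
    have hF2F : F2 ≤ F := by rintro _ ⟨a, ha, rfl⟩; exact mul_mem ha ha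
    have haut : ∀ α : MulAut ↥E, ∀ q ∈ F2, α q ∈ F2 := by
      rintro α _ ⟨a, ha, rfl⟩
      exact ⟨α a, frattini_map_mem α ha, (map_mul α a a).symm⟩
    have htrivF : ∀ g : ↥E, ∀ f ∈ F, f⁻¹ * (g * f * g⁻¹) ∈ F2 := by
      intro g f hf
      obtain ⟨x, hx, rfl⟩ := hFK2 f hf
      set φ := x⁻¹ * (g * x * g⁻¹) with hφ
      have hφF : φ ∈ F := by
        rw [hφ, show x⁻¹ * (g * x * g⁻¹) = ⁅x⁻¹, g⁆ by simp only [commutatorElement_def]; group]
        exact Grp.pGroup_commutator_le_frattini hEp (commutator_mem_commutator_top _ _)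
      refine ⟨φ, hφF, ?_⟩
      rw [show g * (x * x) * g⁻¹ = g * x * g⁻¹ * (g * x * g⁻¹) by group,
        show g * x * g⁻¹ = x * φ by rw [hφ, mul_inv_cancel_left],
        show x * φ * (x * φ) = x * (φ * x) * φ by group, hKc φ (hFK hφF) x hx]
      group
    let M : Subgroup ↥E :=
      { carrier := {m | m ∈ F ∧ m⁻¹ * τ m ∈ F2}
        one_mem' := ⟨one_mem _, by simp⟩
        mul_mem' := fun {a b} ha hb => ⟨mul_mem ha.1 hb.1, by
          rw [map_mul, show (a * b)⁻¹ * (τ a * τ b) = b⁻¹ * ((a⁻¹ * τ a) * τ b) by group,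
            hFc _ (hF2F ha.2) _ (frattini_map_mem _ hb.1), ← mul_assoc]
          exact mul_mem hb.2 ha.2⟩
        inv_mem' := fun {a} ha => ⟨inv_mem ha.1, by
          rw [map_inv, inv_inv, hFc a ha.1 _ (inv_mem (frattini_map_mem _ ha.1))]
          have := inv_mem ha.2
          rwa [mul_inv_rev, inv_inv] at this⟩ }
    have hMF : M < F := by
      refine lt_of_le_of_ne (fun m hm => hm.1) fun h => hΦ ?_
      have hall' : ∀ f ∈ F, f⁻¹ * τ f ∈ F2 := fun f hf => (h.ge hf).2
      -- every element of `Φ(E)` is then a square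
      have hk2 : ∀ f ∈ F, f⁻¹ * Fr.β f ∈ F2 := by
        intro f hf
        have h1 := hall' f hf
        have h2 := hall' _ (frattini_map_mem Fr.β hf)
        rw [Fr.inv] at h2
        have h1' := haut Fr.β _ (haut Fr.β _ h1)
        simp only [map_mul, map_inv] at h1'
        have h3 : (Fr.β f)⁻¹ * Fr.β (Fr.β f) ∈ F2 := by
          have := mul_mem h2 (inv_mem h1')
          rwa [show (Fr.β f)⁻¹ * Fr.β (Fr.β (τ f)) *
            ((Fr.β (Fr.β f))⁻¹ * Fr.β (Fr.β (τ f)))⁻¹ = (Fr.β f)⁻¹ * Fr.β (Fr.β f) by group] at this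
        have h4 := haut Fr.β _ (haut Fr.β _ h3)
        simp only [map_mul, map_inv, Fr.cube_apply] at h4
        exact h4
      let kf : F → F := fun f =>
        ⟨(f : ↥E)⁻¹ * Fr.β f, mul_mem (inv_mem f.2) (frattini_map_mem _ f.2)⟩
      have hkinj : Function.Injective kf := fun a b e => by
        have e' : (a : ↥E)⁻¹ * Fr.β a = (b : ↥E)⁻¹ * Fr.β b := congrArg Subtype.val e
        have h1 : Fr.β ((a : ↥E) * (b : ↥E)⁻¹) = (a : ↥E) * (b : ↥E)⁻¹ := by
          rw [map_mul, map_inv, show Fr.β a = (a : ↥E) * ((b : ↥E)⁻¹ * Fr.β b) by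
            rw [← e', mul_inv_cancel_left]]
          group
        exact Subtype.ext (mul_inv_eq_one.1 (hfΦ _ (mul_mem a.2 (inv_mem b.2)) h1))
      have hsur : ∀ f ∈ F, f ∈ F2 := fun f hf => by
        obtain ⟨a, ha⟩ := (Finite.injective_iff_surjective.1 hkinj) ⟨f, hf⟩
        rw [← show (a : ↥E)⁻¹ * Fr.β a = f from congrArg Subtype.val ha]
        exact hk2 a a.2
      let sF : F → F := fun f => ⟨(f : ↥E) * f, mul_mem f.2 f.2⟩
      have hsF : Function.Injective sF := Finite.injective_iff_surjective.2 fun f => by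
        obtain ⟨a, ha, e⟩ := hsur f f.2
        exact ⟨⟨a, ha⟩, Subtype.ext e⟩
      refine eq_bot_iff.2 fun f hf => ?_
      have hpow : ∀ n : ℕ, ∀ a : ↥E, a ∈ F → a ^ 2 ^ n = 1 → a = 1 := by
        intro n
        induction n with
        | zero => intro a _ h; simpa using h
        | succ n ih =>
          intro a ha h
          rw [pow_succ', pow_mul] at h
          have := ih _ (pow_mem ha 2) h
          rw [pow_two] at this
          exact congrArg Subtype.val (hsF (a₁ := ⟨a, ha⟩) (a₂ := 1)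
            (Subtype.ext (show a * a = 1 * 1 by rw [this, one_mul])))
      obtain ⟨n, hn⟩ := hEp f
      exact mem_bot.2 (hpow n f hf hn)
    haveI hMn : (M.subgroupOf P).Normal := by
      refine ⟨fun m hm p => ?_⟩
      rw [mem_subgroupOf] at hm ⊢
      show (p : ↥E) * m * (p : ↥E)⁻¹ ∈ M
      have h1 := htrivF p m hm.1
      have h2 : (p : ↥E) * m * (p : ↥E)⁻¹ = m * ((m : ↥E)⁻¹ * ((p : ↥E) * m * (p : ↥E)⁻¹)) := by
        group
      rw [h2]
      refine mul_mem hm ⟨hF2F h1, ?_⟩
      exact mul_mem (inv_mem h1) (haut τ _ h1)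
    have hsq : ∀ p : P, p ^ 2 ∈ M.subgroupOf P := by
      rintro ⟨p, hp⟩
      rw [mem_subgroupOf, pow_two]
      show p * p ∈ M
      have hKM : ∀ g ∈ P, g ∈ K → g * g ∈ M := fun g hg hgK => by
        refine ⟨hsqF g, ?_⟩
        have hd := hPKL g hg hgK
        refine ⟨_, hd, ?_⟩
        rw [map_mul, show g⁻¹ * τ g * (g⁻¹ * τ g) = g⁻¹ * (τ g * g⁻¹) * τ g by group,
          hKc _ (hKτ g hgK) _ (inv_mem hgK)]
        group
      rcases hPsplit p with h | h
      · exact hKM p hp h
      · obtain ⟨g, hg⟩ : ∃ g, g = v⁻¹ * p := ⟨_, rfl⟩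
        rw [← hg] at h
        have hgP : g ∈ P := hg ▸ mul_mem (inv_mem hvP) hp
        rw [show p * p = v * g * v⁻¹ * (v * v) * g by rw [hg]; group]
        obtain ⟨d, hd⟩ : ∃ d, d = g⁻¹ * (v * g * v⁻¹) := ⟨_, rfl⟩
        have hdF : d ∈ F := by
          rw [hd, show g⁻¹ * (v * g * v⁻¹) = ⁅g⁻¹, v⁆ by simp only [commutatorElement_def]; group]
          exact Grp.pGroup_commutator_le_frattini hEp (commutator_mem_commutator_top _ _)
        rw [show v * g * v⁻¹ = g * d by rw [hd, mul_inv_cancel_left],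
          show g * d * (v * v) * g = g * (d * (v * v) * g) by group,
          hKc (d * (v * v)) (hFK (mul_mem hdF (hsqF v))) g h, ← mul_assoc]
        refine mul_mem (hKM g hgP h) (mul_mem ⟨hdF, ?_⟩
          ⟨hsqF v, by rw [map_mul, hτv, inv_mul_cancel]; exact one_mem _⟩)
        have hφ := hPKL g hgP h
        obtain ⟨φ, hφdef⟩ : ∃ φ, φ = g⁻¹ * τ g := ⟨_, rfl⟩
        rw [← hφdef] at hφ
        have h2 := htrivF v φ hφ
        have e : τ d = φ⁻¹ * d * (v * φ * v⁻¹) := by
          rw [hd, map_mul, map_inv, map_mul, map_mul, map_inv, hτv, hφdef]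
          group
        rw [e, hFc φ⁻¹ (inv_mem hφ) d hdF, show d⁻¹ * (d * φ⁻¹ * (v * φ * v⁻¹)) =
          φ⁻¹ * (v * φ * v⁻¹) by group]
        exact h2
    have hidx := St.index_le_four (E.subtype.comp P.subtype)
      (E.subtype_injective.comp P.subtype_injective) (fun m => mem_subgroupOf.1 m.2)
      (M.subgroupOf P) hsq
    have h1 := (M.subgroupOf P).index_mul_card
    rw [Nat.card_congr (subgroupOfEquivOfLe (hMF.le.trans hFP)).toEquiv] at h1
    have h2 := two_mul_card_le hMF
    have h3 : 2 * Nat.card ↥E ≤ Nat.card X := by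
      rw [← Nat.card_congr (topEquiv (G := X)).toEquiv]
      exact two_mul_card_le (lt_top_iff_ne_top.2 Fr.ne_top)
    have : 0 < Nat.card M := Nat.card_pos
    have h5 : (M.subgroupOf P).index * Nat.card M ≤ 4 * Nat.card M := Nat.mul_le_mul_right _ hidx
    omega

end Frame

end Cfsg.Agent.Fus.Bicyclic
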