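import Cfsg.Agent.Lib.Fus.Bicyclic.FrameT

/-!
No frame exists.
-/

set_option autoImplicit false
set_option linter.style.haveILetI false
set_option linter.unusedSectionVars false
set_option maxHeartbeats 1000000

open scoped commutatorElement

namespace Cfsg.Agent.Fus.Bicyclic

open Subgroup

universe u

variable {X : Type u} [Group X] [Finite X]

namespace Frame

variable (Fr : Frame X)

theorem τ_fixed {x : ↥Fr.E} (hx : Fr.β x = x) : Fr.β (Fr.τ x) = Fr.τ x := by
  have h := Fr.inv x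
  rw [hx] at h
  conv_lhs => rw [h]
  rw [Fr.cube_apply]

/-- The element `k = e₀⁻¹ β(e₀)` lies outside `Φ(X)`. -/
theorem caseT_outer (St : Setup X) (htriv : ∀ f ∈ frattini ↥Fr.E, Fr.β f = f) (e₀ : ↥Fr.E)
    (he₀ : e₀⁻¹ * Fr.β e₀ ∉ frattini ↥Fr.E)
    (hout : ((e₀⁻¹ * Fr.β e₀ : ↥Fr.E) : X) ∉ frattini X) : False := by
  haveI : Fact (Nat.Prime 2) := ⟨Nat.prime_two⟩
  have hEp : IsPGroup 2 ↥Fr.E := St.isP.to_subgroup _
  obtain ⟨y, hy⟩ : ∃ y, y = e₀⁻¹ * Fr.β e₀ := ⟨_, rfl⟩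
  obtain ⟨⟨t1, t2, t3, t4, t5⟩, hcases, hcent, hcomm, hmv, hyfix⟩ := Fr.triv_of St htriv e₀ he₀
  simp only [← hy] at t1 t2 t3 t4 t5 hcases hcomm hmv hyfix
  rw [← hy] at hout
  obtain ⟨c, hc⟩ : ∃ c, c = y * y := ⟨_, rfl⟩
  rw [← hc] at t1 t2 t3 t5 hcomm
  set l := Fr.β y with hl
  set m := Fr.β l with hm
  have hbm : Fr.β m = y := Fr.cube_apply y
  have hcF : c ∈ frattini ↥Fr.E := by
    rw [hc, ← pow_two]; exact Grp.pGroup_pow_mem_frattini hEp y
  have hcfix : Fr.β c = c := htriv c hcF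
  have hcc : ∀ e : ↥Fr.E, e * c = c * e := hcent c hcfix
  have hcX : (c : X) ∈ frattini X := St.frattini_sub _ hcF
  have hyy : (y : X) * y = c := by rw [hc]; rfl
  have hcW : (c : X) ∈ St.W := ⟨hcX, congrArg Subtype.val t1⟩
  have hWE : St.W ≤ Fr.E := St.W_le_of_outer Fr.ne_top Fr.centric y.2 hout (hyy ▸ hcW)
  have hyW := fun w (hw : w ∈ St.W) => St.outer_commute_W hout (hyy ▸ hcW) hw
  have hyinv : y⁻¹ = y * c := by
    refine inv_eq_of_mul_eq_one_right ?_
    rw [← mul_assoc, ← hc, t1]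
  have hlinv : l⁻¹ = l * c := by
    refine inv_eq_of_mul_eq_one_right ?_
    rw [← mul_assoc, t2, t1]
  have hminv : m⁻¹ = m * c := by
    refine inv_eq_of_mul_eq_one_right ?_
    rw [← mul_assoc, t3, t1]
  have hyl : y⁻¹ * l = m := by
    rw [hyinv, hcc, mul_assoc, t5, ← mul_assoc, t1, one_mul]
  have hlm : l * m = c * y := by
    have := congrArg Fr.β t5
    rwa [map_mul, map_mul, ← hl, ← hm, hcfix, hbm] at this
  have hmy : m * y = c * l := by
    have := congrArg Fr.β hlm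
    rwa [map_mul, map_mul, ← hm, hbm, hcfix] at this
  have hly : l * y = m := by
    rw [mul_inv_eq_iff_eq_mul.1 t4, hyl]
  -- exactly one of `l`, `m` lies in `Φ(X)`
  have hlm1 : ¬ ((l : X) ∈ frattini X ∧ (m : X) ∈ frattini X) := fun ⟨h1, h2⟩ => hout (by
    have h3 := mul_mem (inv_mem hcX) (mul_mem h1 h2)
    rwa [show (l : X) * (m : X) = (c : X) * y from congrArg Subtype.val hlm, inv_mul_cancel_left]
      at h3)
  have hlm2 : (l : X) ∉ frattini X → (m : X) ∈ frattini X := fun h => by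
    rw [show (m : X) = (y : X)⁻¹ * l from congrArg Subtype.val hyl.symm]
    exact St.inv_mul_mem Fr.ne_top y.2 hout l.2 h
  -- the image of `y` under `τ`
  have hkval : ∀ e, ∃ s : ↥Fr.E, (s = 1 ∨ s = y ∨ s = l ∨ s = m) ∧ e⁻¹ * Fr.β e = s := by
    intro e
    have hval : ∀ a x : ↥Fr.E, Fr.β x = x → (a * x)⁻¹ * Fr.β (a * x) = a⁻¹ * Fr.β a := by
      intro a x hx
      rw [map_mul, hx, show (a * x)⁻¹ * (Fr.β a * x) = x⁻¹ * ((a⁻¹ * Fr.β a) * x) by group,
        hcent x hx, inv_mul_cancel_left]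
    rcases hcases e with h | h | h | h
    · exact ⟨1, Or.inl rfl, by rw [h, inv_mul_cancel]⟩
    · refine ⟨m, Or.inr (Or.inr (Or.inr rfl)), ?_⟩
      have := hval y _ h
      rw [mul_inv_cancel_left] at this
      rw [this, ← hl, hyl]
    · refine ⟨y, Or.inr (Or.inl rfl), ?_⟩
      have := hval l _ h
      rw [mul_inv_cancel_left] at this
      rw [this, ← hm, hlinv, hcc, mul_assoc, hlm, ← mul_assoc, t1, one_mul]
    · refine ⟨l, Or.inr (Or.inr (Or.inl rfl)), ?_⟩
      have := hval m _ h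
      rw [mul_inv_cancel_left] at this
      rw [this, hbm, hminv, hcc, mul_assoc, hmy, ← mul_assoc, t1, one_mul]
  have hτy : Fr.τ y = c * y ∨ Fr.τ y = c * l ∨ Fr.τ y = c * m := by
    obtain ⟨s, hs, hse⟩ := hkval (Fr.τ e₀)
    have e1 : Fr.τ y = (Fr.τ e₀)⁻¹ * Fr.β (Fr.β (Fr.τ e₀)) := by
      rw [hy, map_mul, map_inv, Fr.inv]
    have e2 : Fr.τ y = s * Fr.β s := by
      rw [e1, ← hse, map_mul, map_inv]; group
    rcases hs with rfl | rfl | rfl | rfl
    · exfalso
      refine hyfix ?_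
      have h1 : Fr.τ y = 1 := by rw [e2, map_one, one_mul]
      rw [MulEquiv.map_eq_one_iff] at h1
      rw [hl, h1, map_one]
    · exact Or.inr (Or.inr (by rw [e2, ← hl, t5]))
    · exact Or.inl (by rw [e2, ← hm, hlm])
    · exact Or.inr (Or.inl (by rw [e2, hbm, hmy]))
  have hτX : ∀ e : ↥Fr.E, (e : X) ∈ frattini X → (Fr.τ e : X) ∈ frattini X := fun e he => by
    rw [conjAut_coe]; exact Normal.conj_mem inferInstance _ he _
  have hτc : Fr.τ y ≠ c * y := by
    intro h
    have h1 : Fr.τ l = c * m := by rw [hl, Fr.inv, h, map_mul, map_mul, hcfix, hcfix, ← hl, ← hm]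
    have h2 : Fr.τ m = c * l := by
      rw [hm, Fr.inv, h1, map_mul, map_mul, hcfix, hcfix, hbm, ← hl]
    by_cases hl' : (l : X) ∈ frattini X
    · refine hlm1 ⟨hl', ?_⟩
      have h4 := hτX l hl'
      rw [h1] at h4
      have h5 := mul_mem (inv_mem hcX) h4
      rwa [Subgroup.coe_mul, inv_mul_cancel_left] at h5
    · refine hl' ?_
      have h4 := hτX m (hlm2 hl')
      rw [h2] at h4
      have h5 := mul_mem (inv_mem hcX) h4
      rwa [Subgroup.coe_mul, inv_mul_cancel_left] at h5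
  obtain ⟨q, hq⟩ : ∃ q, q = Fr.τ y * y⁻¹ := ⟨_, rfl⟩
  have hqval : q = m ∨ q = c * l := by
    rcases hτy with h | h | h
    · exact absurd h hτc
    · left
      rw [hq, h, hyinv, hcc y, mul_assoc, ← mul_assoc l, hcc l, mul_assoc c l y, hly, ← mul_assoc,
        t1, one_mul]
    · right
      rw [hq, h, hyinv, hcc y, mul_assoc, ← mul_assoc m, hcc m, mul_assoc c m y, hmy,
        ← mul_assoc c c, t1, one_mul]
  have hqq : q * q = c := by
    rcases hqval with rfl | rfl
    · exact t3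
    · rw [mul_assoc, ← mul_assoc l, hcc, mul_assoc c l l, t2, t1, mul_one]
  have hqX' : (q : X) ∈ commutator X := by
    rw [hq, show ((Fr.τ y * y⁻¹ : ↥Fr.E) : X) = ⁅Fr.t, (y : X)⁆ from rfl]
    exact commutator_mem_commutator_top _ _
  have hqfix : Fr.β q ≠ q := by
    have h1 : m ≠ Fr.β m := fun h => hyfix (Fr.β.injective (Fr.β.injective h.symm))
    rcases hqval with rfl | rfl
    · exact h1.symm
    · intro h
      rw [map_mul, hcfix, ← hm, mul_right_inj] at h
      exact hyfix (Fr.β.injective h)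
  have hq1 : q ≠ 1 := fun h => hqfix (by rw [h, map_one])
  have hqc : q ≠ c := fun h => hqfix (by rw [h, hcfix])
  -- `E = C_E(y) ⟨q⟩`
  have hC : ∀ x, Fr.β x = x → Commute y x := fun x hx => hcent x hx y
  have hyc : Commute y c := hC c hcfix
  have hlm' : l⁻¹ * m = y := by rw [← hly, inv_mul_cancel_left]
  have hqa : ∀ a, a = l ∨ a = m → Commute y (q⁻¹ * a) := by
    intro a ha
    rcases hqval with rfl | rfl <;> rcases ha with rfl | rfl
    · rw [show m⁻¹ * l = (l⁻¹ * m)⁻¹ by group, hlm']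
      exact (Commute.refl y).inv_right
    · rw [inv_mul_cancel]; exact Commute.one_right y
    · rw [mul_inv_rev, mul_assoc, show c⁻¹ * l = l * c⁻¹ from
        ((show Commute l c from hcc l).inv_right).eq.symm, inv_mul_cancel_left]
      exact hyc.inv_right
    · rw [mul_inv_rev, show l⁻¹ * c⁻¹ = c⁻¹ * l⁻¹ from
        ((show Commute l⁻¹ c from hcc _).inv_right).eq, mul_assoc, hlm']
      exact hyc.inv_right.mul_right (Commute.refl y)
  have hsplit : ∀ e : ↥Fr.E, Commute y e ∨ Commute y (q⁻¹ * e) := by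
    intro e
    rcases hcases e with h | h | h | h
    · exact Or.inl (hC e h)
    · left
      rw [← mul_inv_cancel_left y e]
      exact (Commute.refl y).mul_right (hC _ h)
    · right
      rw [← mul_inv_cancel_left l e, ← mul_assoc]
      exact (hqa l (Or.inl rfl)).mul_right (hC _ h)
    · right
      rw [← mul_inv_cancel_left m e, ← mul_assoc]
      exact (hqa m (Or.inr rfl)).mul_right (hC _ h)
  have hqEW : ∀ g : X, g * (c : X) * g⁻¹ = c → g * (q : X) * g⁻¹ ∈ Fr.E := by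
    intro g hg
    have hqcX : (q : X) * q = c := congrArg Subtype.val hqq
    obtain ⟨w, hw⟩ : ∃ w, w = (q : X)⁻¹ * (g * q * g⁻¹) := ⟨_, rfl⟩
    have hgX := Normal.conj_mem (inferInstance : (commutator X).Normal) _ hqX' g
    have hwX : w ∈ commutator X := hw ▸ mul_mem (inv_mem hqX') hgX
    have hwW : w ∈ St.W := ⟨St.commutator_le hwX, by
      rw [hw, show (q : X)⁻¹ * (g * q * g⁻¹) * ((q : X)⁻¹ * (g * q * g⁻¹)) =
        (q : X)⁻¹ * ((g * q * g⁻¹) * (q : X)⁻¹) * (g * q * g⁻¹) by group,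
        St.comm_X' hgX (inv_mem hqX'),
        show (q : X)⁻¹ * ((q : X)⁻¹ * (g * q * g⁻¹)) * (g * q * g⁻¹) =
          ((q : X) * q)⁻¹ * (g * ((q : X) * q) * g⁻¹) by group, hqcX, hg, inv_mul_cancel]⟩
    rw [show g * (q : X) * g⁻¹ = (q : X) * w by rw [hw, mul_inv_cancel_left]]
    exact mul_mem q.2 (hWE hwW)
  have hτcc : Fr.τ c = c := by
    have hy2 : Fr.τ c = Fr.τ y * Fr.τ y := by rw [hc, map_mul]
    rcases hτy with h | h | h
    · exact absurd h hτc
    · rw [hy2, h, mul_assoc, ← mul_assoc l, hcc, mul_assoc c l l, t2, t1, mul_one]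
    · rw [hy2, h, mul_assoc, ← mul_assoc m, hcc, mul_assoc c m m, t3, t1, mul_one]
  have hte : ∀ e : ↥Fr.E, (Fr.τ (e * y * e⁻¹) : X) * (y : X)⁻¹ = (q : X) ∨
      (Fr.τ (e * y * e⁻¹) : X) * (y : X)⁻¹ = (q : X) * c := by
    intro e
    rcases hcomm e y with h | h <;> rw [h]
    · left; rw [hq]; rfl
    · right
      rw [map_mul, hτcc, hq]
      show ((Fr.τ y * c : ↥Fr.E) : X) * (y : X)⁻¹ = ((Fr.τ y * y⁻¹ * c : ↥Fr.E) : X)
      rw [← Subgroup.coe_inv, ← Subgroup.coe_mul, mul_assoc, ← hcc, ← mul_assoc]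
  -- the centraliser of `y` lies in `E`
  have hCy : ∀ g : X, g * y = y * g → g ∈ Fr.E := by
    intro g hg
    suffices hD : ∀ p ∈ frattini X, p * y = y * p → p ∈ Fr.E by
      rcases St.outer_centralizer hout (hyy ▸ hcW) hg with h | h
      · exact hD g h hg
      · rw [← mul_inv_cancel_left (y : X) g]
        refine mul_mem y.2 (hD _ h ?_)
        rw [mul_assoc, hg, inv_mul_cancel_left, mul_inv_cancel_left]
    by_contra hno
    push Not at hno
    set D : Subgroup X := frattini X ⊓ centralizer {(y : X)}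
    have hDE : D ⊓ Fr.E < D := lt_of_le_of_ne inf_le_left fun h => by
      obtain ⟨p, hp, hpy, hpE⟩ := hno
      exact hpE (h.ge ⟨hp, mem_centralizer_singleton_iff.2 hpy⟩).2
    haveI : Group.IsNilpotent ↥D := (St.isP.to_subgroup D).isNilpotent
    have hlt : (D ⊓ Fr.E).subgroupOf D < ⊤ := lt_top_iff_ne_top.2 fun h =>
      hDE.ne (le_antisymm inf_le_left (subgroupOf_eq_top.1 h))
    obtain ⟨⟨x, hxD⟩, hxN, hxB⟩ :=
      SetLike.exists_of_lt (Group.normalizerCondition_of_isNilpotent _ hlt)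
    have hxE : x ∉ Fr.E := fun h => hxB (mem_subgroupOf.2 ⟨hxD, h⟩)
    have hxy : x * y = y * x := mem_centralizer_singleton_iff.1 hxD.2
    have hxB' : ∀ b ∈ D ⊓ Fr.E, x * b * x⁻¹ ∈ Fr.E := fun b hb =>
      (mem_subgroupOf.1 ((mem_normalizer_iff.1 hxN ⟨b, hb.1⟩).1 (mem_subgroupOf.2 hb))).2
    have hxC : ∀ e : ↥Fr.E, Commute y e → x * (e : X) * x⁻¹ ∈ Fr.E := by
      intro e he
      have heX : (e : X) * y = y * e := congrArg Subtype.val he.eq.symm
      by_cases heΦ : (e : X) ∈ frattini X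
      · exact hxB' _ ⟨⟨heΦ, mem_centralizer_singleton_iff.2 heX⟩, e.2⟩
      · have h := St.inv_mul_mem Fr.ne_top y.2 hout e.2 heΦ
        have h' := hxB' _ ⟨⟨h, mem_centralizer_singleton_iff.2
          (by rw [mul_assoc, heX, inv_mul_cancel_left, mul_inv_cancel_left])⟩,
          Fr.E.mul_mem (Fr.E.inv_mem y.2) e.2⟩
        rw [show x * (e : X) * x⁻¹ = x * y * x⁻¹ * (x * ((y : X)⁻¹ * e) * x⁻¹) by group, hxy,
          mul_inv_cancel_right]
        exact mul_mem y.2 h'
    have hxq : x * (q : X) * x⁻¹ ∈ Fr.E := hqEW x (by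
      rw [← hyy, show x * ((y : X) * y) * x⁻¹ = x * y * x⁻¹ * (x * y * x⁻¹) by group, hxy,
        mul_inv_cancel_right])
    have hxN' : x ∈ normalizer (Fr.E : Set X) := mem_normalizer_of_conj fun e he => by
      rcases hsplit ⟨e, he⟩ with h | h
      · exact hxC ⟨e, he⟩ h
      · rw [show x * e * x⁻¹ = x * (q : X) * x⁻¹ * (x * ((q : X)⁻¹ * e) * x⁻¹) by group]
        exact mul_mem hxq (hxC _ h)
    rcases Fr.norm x hxN' with h | h
    · exact hxE h
    · have e1 : (Fr.τ (⟨_, h⟩ * y * (⟨_, h⟩ : ↥Fr.E)⁻¹) : X) * (y : X)⁻¹ = 1 := by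
        show Fr.t * (Fr.t⁻¹ * x * y * (Fr.t⁻¹ * x)⁻¹) * Fr.t⁻¹ * (y : X)⁻¹ = 1
        rw [show Fr.t * (Fr.t⁻¹ * x * y * (Fr.t⁻¹ * x)⁻¹) * Fr.t⁻¹ * (y : X)⁻¹ =
          x * y * x⁻¹ * (y : X)⁻¹ by group, hxy, mul_inv_cancel_right, mul_inv_cancel]
      rcases hte ⟨_, h⟩ with h' | h'
      · exact hq1 (Subtype.ext (h'.symm.trans e1))
      · refine hqc ?_
        have h2 : q * c = 1 := Subtype.ext (h'.symm.trans e1)
        rw [eq_inv_of_mul_eq_one_left h2, inv_eq_of_mul_eq_one_right t1]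
  -- the choice of `w`
  obtain ⟨w, hw, hw1, hwc, hwq, hwqc, g, hg⟩ : ∃ w ∈ St.W, w ≠ 1 ∧ w ≠ (c : X) ∧ w ≠ (q : X) ∧
      w ≠ (q : X) * c ∧ ∃ g : X, ⁅g, (y : X)⁆ = w := by
    by_cases hz : ∀ g : X, g * ((y : X) * y) = (y : X) * y * g
    · have hO := (St.central_case hout hz).2
      suffices h : ∃ w ∈ St.W, w ≠ 1 ∧ w ≠ (c : X) ∧ w ≠ (q : X) ∧ w ≠ (q : X) * c by
        obtain ⟨w, hw, h1, h2, h3, h4⟩ := h
        exact ⟨w, hw, h1, h2, h3, h4, hO w (St.W_le hw)⟩
      by_contra hall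
      push Not at hall
      classical
      have h4 := St.card_W
      by_cases hc1 : c = 1
      · let f : St.W → Bool := fun v => decide ((v : X) = 1)
        have hf : Function.Injective f := by
          intro a b e
          have hcase : ∀ v : St.W, (v : X) = 1 ∨ (v : X) = q := by
            intro v
            by_cases hv : (v : X) = 1
            · exact Or.inl hv
            · by_cases hv2 : (v : X) = c
              · exact Or.inl (by rw [hv2, hc1]; rfl)
              · by_cases hv3 : (v : X) = q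
                · exact Or.inr hv3
                · refine Or.inr ?_
                  rw [hall v v.2 hv hv2 hv3, hc1, OneMemClass.coe_one, mul_one]
          have hq1' : (q : X) ≠ 1 := fun h => hq1 (Subtype.ext h)
          rcases hcase a with ha | ha <;> rcases hcase b with hb | hb
          · exact Subtype.ext (ha.trans hb.symm)
          · exact absurd ((decide_eq_decide.1 e).1 ha) (hb ▸ hq1')
          · exact absurd ((decide_eq_decide.1 e).2 hb) (ha ▸ hq1')
          · exact Subtype.ext (ha.trans hb.symm)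
        have := Nat.card_le_card_of_injective f hf
        rw [h4, Nat.card_eq_fintype_card, Fintype.card_bool] at this
        omega
      · let f : St.W → Bool := fun v => decide ((v : X) = 1)
        have hf : Function.Injective f := by
          intro a b e
          have hcase : ∀ v : St.W, (v : X) = 1 ∨ (v : X) = c := by
            intro v
            by_cases hv : (v : X) = 1
            · exact Or.inl hv
            · by_cases hv2 : (v : X) = c
              · exact Or.inr hv2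
              · exfalso
                by_cases hv3 : (v : X) = q
                · refine hc1 (Subtype.ext ?_)
                  rw [← hqq, Subgroup.coe_mul, ← hv3]; exact v.2.2
                · have hv4 := hall v v.2 hv hv2 hv3
                  refine hc1 (Subtype.ext ?_)
                  have h5 : ((q * c) * (q * c) : ↥Fr.E) = c := by
                    rw [mul_assoc, ← mul_assoc c q c, ← hcc q, mul_assoc q c c, t1, mul_one, hqq]
                  rw [← h5, Subgroup.coe_mul, Subgroup.coe_mul, ← hv4]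
                  exact v.2.2
          have hc1' : (c : X) ≠ 1 := fun h => hc1 (Subtype.ext h)
          rcases hcase a with ha | ha <;> rcases hcase b with hb | hb
          · exact Subtype.ext (ha.trans hb.symm)
          · exact absurd ((decide_eq_decide.1 e).1 ha) (hb ▸ hc1')
          · exact absurd ((decide_eq_decide.1 e).2 hb) (ha ▸ hc1')
          · exact Subtype.ext (ha.trans hb.symm)
        have := Nat.card_le_card_of_injective f hf
        rw [h4, Nat.card_eq_fintype_card, Fintype.card_bool] at this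
        omega
    · obtain ⟨g, hg⟩ := St.outer_z0 hout (hyy ▸ hcW)
      have hzc : ¬ ∀ g : X, g * (c : X) = c * g := by rwa [← hyy]
      have hc1 : c ≠ 1 := fun h => hzc fun g => by rw [h]; simp
      refine ⟨St.z0, St.z0_mem, St.z0_ne, fun h => hzc (h ▸ St.z0_central), fun h => ?_, fun h => ?_,
        g, hg⟩
      · refine hc1 (Subtype.ext ?_)
        rw [← hqq, Subgroup.coe_mul, ← h]; exact St.z0_mem.2
      · refine hc1 (Subtype.ext ?_)
        have h5 : ((q * c) * (q * c) : ↥Fr.E) = c := by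
          rw [mul_assoc, ← mul_assoc c q c, ← hcc q, mul_assoc q c c, t1, mul_one, hqq]
        rw [← h5, Subgroup.coe_mul, Subgroup.coe_mul, ← h]; exact St.z0_mem.2
  have hgy : g * (y : X) * g⁻¹ = w * y := by
    rw [← hg, commutatorElement_def, inv_mul_cancel_right]
  have hgc : g * (c : X) * g⁻¹ = c := by
    rw [← hyy, show g * ((y : X) * y) * g⁻¹ = g * y * g⁻¹ * (g * y * g⁻¹) by group, hgy,
      show w * (y : X) * (w * y) = w * ((y : X) * w) * y by group, hyW w hw,
      show w * (w * (y : X)) * y = w * w * ((y : X) * y) by group, hw.2, one_mul]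
  have hy'E : w * (y : X) ∈ Fr.E := mul_mem (hWE hw) y.2
  set y' : ↥Fr.E := ⟨_, hy'E⟩ with hy'
  -- `g C(y) g⁻¹ = C(w y)` lies in `E`
  set S1 : Subgroup X := centralizer {(y : X)} with hS1
  set S2 : Subgroup X := centralizer {w * (y : X)} with hS2
  have hS1E : S1 ≤ Fr.E := fun x hx => hCy x (mem_centralizer_singleton_iff.1 hx)
  have hmap : S2 = S1.map (MulAut.conj g).toMonoidHom := by
    ext x
    constructor
    · intro hx
      refine ⟨g⁻¹ * x * g, mem_centralizer_singleton_iff.2 ?_, by simp; group⟩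
      have h1 := mem_centralizer_singleton_iff.1 hx
      rw [← hgy] at h1
      calc g⁻¹ * x * g * y = g⁻¹ * (x * (g * y * g⁻¹)) * g := by group
        _ = g⁻¹ * (g * y * g⁻¹ * x) * g := by rw [h1]
        _ = _ := by group
    · rintro ⟨v, hv, rfl⟩
      refine mem_centralizer_singleton_iff.2 ?_
      have h1 := mem_centralizer_singleton_iff.1 hv
      show g * v * g⁻¹ * (w * y) = w * y * (g * v * g⁻¹)
      rw [← hgy]
      calc g * v * g⁻¹ * (g * y * g⁻¹) = g * (v * y) * g⁻¹ := by group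
        _ = g * (y * v) * g⁻¹ := by rw [h1]
        _ = _ := by group
  set S3 : Subgroup X := S2 ⊓ Fr.E with hS3
  have hcard12 : Nat.card S2 = Nat.card S1 := by
    rw [hmap, card_map_of_injective (MulAut.conj g).injective]
  have hcard : Nat.card S1 ≤ Nat.card S3 := by
    have hmem3 : ∀ e : ↥Fr.E, e * y' = y' * e → (e : X) ∈ S3 := fun e h =>
      ⟨mem_centralizer_singleton_iff.2 (congrArg Subtype.val h), e.2⟩
    by_cases hy'c : ∀ e : ↥Fr.E, e * y' = y' * e
    · exact card_le_of_le fun x hx => hmem3 ⟨x, hS1E hx⟩ (hy'c _)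
    · push Not at hy'c
      obtain ⟨e1, he1⟩ := hy'c
      have hc1 : c ≠ 1 := by
        intro h
        refine he1 (mul_inv_eq_iff_eq_mul.1 ?_)
        rcases hcomm e1 y' with h' | h'
        · exact h'
        · rw [h', h, mul_one]
      have hlt : S1 < Fr.E := lt_of_le_of_ne hS1E fun h => by
        have h2 : q * y = y * q := Subtype.ext (mem_centralizer_singleton_iff.1 (h.ge q.2))
        apply hc1
        have h3 : l * y = y * l := by
          rcases hqval with rfl | rfl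
          · rw [← mul_inv_eq_iff_eq_mul] at h2
            have : Commute m y := mul_inv_eq_iff_eq_mul.1 h2
            have h4 : Commute (m * y) y := this.mul_left (Commute.refl y)
            rw [hmy] at h4
            have h5 := (hC c hcfix).symm.inv_left.mul_left h4
            rw [inv_mul_cancel_left] at h5
            exact h5.eq
          · rw [mul_assoc, ← mul_assoc y, hcc y, mul_assoc] at h2
            exact mul_left_cancel h2
        rw [h3, mul_inv_cancel_right, ← mul_eq_one_iff_eq_inv] at t4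
        rw [hc]; exact t4
      have h1 := two_mul_card_le hlt
      have h2 : Nat.card Fr.E ≤ 2 * Nat.card S3 := by
        have hstep : ∀ e : ↥Fr.E, e * y' = y' * e ∨ (e1⁻¹ * e) * y' = y' * (e1⁻¹ * e) := by
          intro e
          by_cases h : e * y' = y' * e
          · exact Or.inl h
          · refine Or.inr (mul_inv_eq_iff_eq_mul.1 ?_)
            have ha : e * y' * e⁻¹ = y' * c :=
              (hcomm e y').resolve_left fun h' => h (mul_inv_eq_iff_eq_mul.1 h')
            have hb : e1 * y' * e1⁻¹ = y' * c :=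
              (hcomm e1 y').resolve_left fun h' => he1 (mul_inv_eq_iff_eq_mul.1 h')
            calc e1⁻¹ * e * y' * (e1⁻¹ * e)⁻¹ = e1⁻¹ * (e * y' * e⁻¹) * e1 := by group
              _ = e1⁻¹ * (e1 * y' * e1⁻¹) * e1 := by rw [ha, hb]
              _ = y' := by group
        let f : Bool × S3 → ↥Fr.E := fun p =>
          if p.1 then e1 * ⟨(p.2 : X), p.2.2.2⟩ else ⟨(p.2 : X), p.2.2.2⟩
        have hf : Function.Surjective f := fun e => by
          rcases hstep e with h | h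
          · exact ⟨(false, ⟨e, hmem3 e h⟩), rfl⟩
          · exact ⟨(true, ⟨_, hmem3 _ h⟩), mul_inv_cancel_left e1 e⟩
        refine (Nat.card_le_card_of_surjective f hf).trans ?_
        rw [Nat.card_prod, Nat.card_eq_fintype_card (α := Bool), Fintype.card_bool]
      omega
  have hS2E : S2 ≤ Fr.E := by
    have := eq_of_le_of_card_ge (inf_le_left : S3 ≤ S2) (by rw [hcard12]; exact hcard)
    exact fun x hx => (this.ge hx).2
  have hgE : g ∈ normalizer (Fr.E : Set X) := mem_normalizer_of_conj fun e he => by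
    have hcomm' : ∀ v : ↥Fr.E, Commute y v → g * (v : X) * g⁻¹ ∈ Fr.E := fun v hv => by
      refine hS2E ?_
      rw [hmap]
      exact ⟨(v : X), mem_centralizer_singleton_iff.2 (congrArg Subtype.val hv.eq.symm), rfl⟩
    rcases hsplit ⟨e, he⟩ with h | h
    · exact hcomm' ⟨e, he⟩ h
    · rw [show g * e * g⁻¹ = g * (q : X) * g⁻¹ * (g * ((q : X)⁻¹ * e) * g⁻¹) by group]
      exact mul_mem (hqEW g hgc) (hcomm' _ h)
  rcases Fr.norm g hgE with h | h
  · have hw' : w = g * (y : X) * g⁻¹ * (y : X)⁻¹ := by rw [← hg, commutatorElement_def]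
    rcases hcomm ⟨g, h⟩ y with h' | h'
    · refine hw1 ?_
      rw [hw', show g * (y : X) * g⁻¹ = y from congrArg Subtype.val h', mul_inv_cancel]
    · refine hwc ?_
      rw [hw', show g * (y : X) * g⁻¹ = (y : X) * c from congrArg Subtype.val h',
        show (y : X) * c = c * y from congrArg Subtype.val (hcc y), mul_inv_cancel_right]
  · have hw' : (Fr.τ (⟨_, h⟩ * y * (⟨_, h⟩ : ↥Fr.E)⁻¹) : X) * (y : X)⁻¹ = w := by
      show Fr.t * (Fr.t⁻¹ * g * y * (Fr.t⁻¹ * g)⁻¹) * Fr.t⁻¹ * (y : X)⁻¹ = w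
      rw [← hg, commutatorElement_def]
      group
    rcases hte ⟨_, h⟩ with h' | h' <;> rw [hw'] at h'
    · exact hwq h'
    · exact hwqc h'

/-- `β` cannot be trivial on `Φ(E)`. -/
theorem caseT (St : Setup X) (htriv : ∀ f ∈ frattini ↥Fr.E, Fr.β f = f) : False := by
  haveI : Fact (Nat.Prime 2) := ⟨Nat.prime_two⟩
  obtain ⟨e₀, he₀⟩ := Fr.moves
  obtain ⟨k, hk⟩ : ∃ k, k = e₀⁻¹ * Fr.β e₀ := ⟨_, rfl⟩
  by_cases hk0 : (k : X) ∈ frattini X
  swap
  · exact Fr.caseT_outer St htriv e₀ he₀ (hk ▸ hk0)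
  have hk1 : (Fr.β e₀)⁻¹ * Fr.β (Fr.β e₀) = Fr.β k := by rw [hk, map_mul, map_inv]
  have hmoved : Fr.β k ∉ frattini ↥Fr.E := fun h => he₀ (by
    have := frattini_map_mem Fr.β⁻¹ h
    rw [MulAut.inv_apply_self] at this
    rwa [hk] at this)
  by_cases hl0 : (Fr.β k : X) ∈ frattini X
  swap
  · exact Fr.caseT_outer St htriv (Fr.β e₀) (hk1 ▸ hmoved) (hk1 ▸ hl0)
  obtain ⟨⟨t1, t2, t3, t4, t5⟩, hcases, hcent, hcomm, hmv, hkfix⟩ := Fr.triv_of St htriv e₀ he₀
  simp only [← hk] at t1 t2 t3 t4 t5 hcases hcomm hmv hkfix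
  -- `Φ(X)` has no quaternion subgroup
  have hkk : k * k = 1 := by
    by_contra hne
    exact St.no_inv hk0 hl0 (congrArg Subtype.val (show k ^ 4 = 1 by rw [← four_eq, t1]))
      (fun h => hne (Subtype.ext h)) (congrArg Subtype.val t4) (Or.inr (congrArg Subtype.val t2))
  have hEc : ∀ a b : ↥Fr.E, a * b = b * a := fun a b => by
    rcases hcomm a b with h | h
    · exact mul_inv_eq_iff_eq_mul.1 h
    · rw [hkk, mul_one] at h; exact mul_inv_eq_iff_eq_mul.1 h
  have hk1' : k ≠ 1 := fun h => hkfix (by rw [h, map_one])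
  have hkW : (k : X) ∈ St.W := ⟨hk0, congrArg Subtype.val hkk⟩
  have hlW : (Fr.β k : X) ∈ St.W := ⟨hl0, congrArg Subtype.val (t2.trans hkk)⟩
  have hWE : St.W ≤ Fr.E := fun w hw => by
    rcases St.W_cases hkW hlW (fun h => hk1' (Subtype.ext h))
      (fun h => hk1' (Fr.β.map_eq_one_iff.1 (Subtype.ext h)))
      (fun h => hkfix (Subtype.ext h).symm) hw with h | h | h | h <;> rw [h]
    · exact one_mem _
    · exact k.2
    · exact (Fr.β k).2
    · exact mul_mem k.2 (Fr.β k).2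
  have hEW : ∀ e ∈ Fr.E, ∀ w ∈ St.W, e * w = w * e := fun e he w hw =>
    congrArg Subtype.val (hEc ⟨e, he⟩ ⟨w, hWE hw⟩)
  have htW : ¬ ∀ w ∈ St.W, Fr.t * w = w * Fr.t := fun h => by
    have hfix : ∀ v : ↥Fr.E, (v : X) ∈ St.W → Fr.τ v = v := fun v hv => Subtype.ext (by
      rw [conjAut_coe, h _ hv, mul_inv_cancel_right])
    exact hkfix (Fr.fixed_of_τ (hfix k hkW) (hfix _ hlW))
  obtain ⟨hall, -, -, -⟩ := Fr.index_two St hEW htW
  have hττ : ∀ e, Fr.τ (Fr.τ e) = e := fun e => by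
    rw [Fr.τ_sq, hEc, inv_mul_cancel_left]
  let L : Subgroup ↥Fr.E :=
    { carrier := {e | Fr.β (e⁻¹ * Fr.τ e) = e⁻¹ * Fr.τ e}
      one_mem' := by simp
      mul_mem' := fun {a b} (ha : Fr.β (a⁻¹ * Fr.τ a) = a⁻¹ * Fr.τ a)
          (hb : Fr.β (b⁻¹ * Fr.τ b) = b⁻¹ * Fr.τ b) => by
        show Fr.β ((a * b)⁻¹ * Fr.τ (a * b)) = (a * b)⁻¹ * Fr.τ (a * b)
        rw [show (a * b)⁻¹ * Fr.τ (a * b) = (a⁻¹ * Fr.τ a) * (b⁻¹ * Fr.τ b) by
          rw [map_mul, mul_inv_rev, hEc b⁻¹ a⁻¹, mul_assoc, ← mul_assoc b⁻¹, hEc b⁻¹ (Fr.τ a)]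
          group, map_mul, ha, hb]
      inv_mem' := fun {a} (ha : Fr.β (a⁻¹ * Fr.τ a) = a⁻¹ * Fr.τ a) => by
        show Fr.β (a⁻¹⁻¹ * Fr.τ a⁻¹) = a⁻¹⁻¹ * Fr.τ a⁻¹
        rw [show a⁻¹⁻¹ * Fr.τ a⁻¹ = (a⁻¹ * Fr.τ a)⁻¹ by
          rw [map_inv, mul_inv_rev, inv_inv, hEc], map_inv, ha] }
  have hLτ : ∀ e ∈ L, Fr.τ e ∈ L := by
    intro e he
    show Fr.β ((Fr.τ e)⁻¹ * Fr.τ (Fr.τ e)) = (Fr.τ e)⁻¹ * Fr.τ (Fr.τ e)
    have he' : Fr.β (e⁻¹ * Fr.τ e) = e⁻¹ * Fr.τ e := he
    rw [hττ, show (Fr.τ e)⁻¹ * e = (e⁻¹ * Fr.τ e)⁻¹ by group, map_inv, he']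
  set LX : Subgroup X := L.map Fr.E.subtype
  haveI : LX.Normal := ⟨by
    rintro _ ⟨l, hl, rfl⟩ g
    have hfix : ∀ e ∈ Fr.E, e * (l : X) * e⁻¹ = l := fun e he => by
      rw [show e * (l : X) = (l : X) * e from congrArg Subtype.val (hEc ⟨e, he⟩ l),
        mul_inv_cancel_right]
    rcases hall g with h | h
    · exact ⟨l, hl, (hfix g h).symm⟩
    · refine ⟨Fr.τ l, hLτ l hl, ?_⟩
      show Fr.t * (l : X) * Fr.t⁻¹ = g * (l : X) * g⁻¹
      conv_lhs => rw [← hfix _ h]
      group⟩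
  have hsq : ∀ g : X, g ^ 2 ∈ LX := by
    intro g
    rcases hall g with h | h
    · refine ⟨⟨g, h⟩ * ⟨g, h⟩, ?_, (pow_two g).symm⟩
      obtain ⟨e, he⟩ : ∃ e : ↥Fr.E, e = ⟨g, h⟩ := ⟨_, rfl⟩
      rw [← he]
      show Fr.β _ = _
      have hF : e * e ∈ frattini ↥Fr.E := by
        rw [← pow_two]; exact Grp.pGroup_pow_mem_frattini (St.isP.to_subgroup _) e
      exact htriv _ (mul_mem (inv_mem hF) (frattini_map_mem _ hF))
    · set e : ↥Fr.E := ⟨_, h⟩ with he
      set v : ↥Fr.E := ⟨Fr.t * Fr.t, Fr.tt_mem⟩ with hv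
      refine ⟨Fr.τ e * v * e, ?_, ?_⟩
      · show Fr.β _ = _
        have hτv : Fr.τ v = v := Subtype.ext (by
          show Fr.t * (Fr.t * Fr.t) * Fr.t⁻¹ = Fr.t * Fr.t
          group)
        have : (Fr.τ e * v * e)⁻¹ * Fr.τ (Fr.τ e * v * e) = 1 := by
          rw [map_mul, map_mul, hττ, hτv, hEc e v, hEc (v * e) (Fr.τ e), ← mul_assoc]
          group
        rw [this, map_one]
      · rw [pow_two]
        show Fr.t * (Fr.t⁻¹ * g) * Fr.t⁻¹ * (Fr.t * Fr.t) * (Fr.t⁻¹ * g) = g * g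
        group
  have hle := frattini_le_of_sq LX hsq
  have hmemL : ∀ x : ↥Fr.E, (x : X) ∈ frattini X → x ∈ L := fun x hx => by
    obtain ⟨x', hx', e⟩ := hle hx
    have : x' = x := Subtype.ext e
    exact this ▸ hx'
  have hd : ∀ x, Fr.β x = x → Fr.β (Fr.β x) = x := fun x hx => by rw [hx, hx]
  set d := k⁻¹ * Fr.τ k
  have h1 : Fr.β d = d := hmemL k hk0
  have h2 : Fr.β ((Fr.β k)⁻¹ * Fr.τ (Fr.β k)) = (Fr.β k)⁻¹ * Fr.τ (Fr.β k) := hmemL _ hl0
  rw [Fr.inv] at h2
  have h3 : (Fr.β k)⁻¹ * Fr.β (Fr.β (Fr.τ k)) = (Fr.β k)⁻¹ * Fr.β (Fr.β k) * d := by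
    rw [show Fr.τ k = k * d from (mul_inv_cancel_left k _).symm, map_mul, map_mul, hd d h1,
      mul_assoc]
  rw [h3, map_mul, h1, mul_left_inj] at h2
  refine hmv ?_
  have h4 := congrArg (fun x => Fr.β (Fr.β x)) h2
  simp only [map_mul, map_inv, Fr.cube_apply] at h4 ⊢
  exact h4

/-- There is no frame. -/
theorem no_frame (Fr : Frame X) (St : Setup X) : False := by
  haveI : Fact (Nat.Prime 2) := ⟨Nat.prime_two⟩
  by_cases htriv : ∀ f ∈ frattini ↥Fr.E, Fr.β f = f
  · exact Fr.caseT St htriv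
  have hne : restrAut Fr.β (frattini ↥Fr.E) ≠ 1 := fun h => htriv fun f hf => by
    have := congrArg (fun a : MulAut ↥(frattini ↥Fr.E) => ((a ⟨f, hf⟩ : frattini ↥Fr.E) : ↥Fr.E)) h
    simpa [restrAut_coe] using this
  have hfΦ : ∀ f ∈ frattini ↥Fr.E, Fr.β f = f → f = 1 := fun f hf h =>
    congrArg Subtype.val (St.fpf_sub (Nat.card (frattini ↥Fr.E)) le_rfl
      (Fr.E.subtype.comp (frattini ↥Fr.E).subtype)
      (Fr.E.subtype_injective.comp (frattini ↥Fr.E).subtype_injective)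
      (fun m => St.frattini_sub Fr.E m.2) (restrAut Fr.β _) (restrAut_pow Fr.β _ 3 Fr.cube) hne
      ⟨f, hf⟩ (Subtype.ext h))
  have hΦ : frattini ↥Fr.E ≠ ⊥ := fun h => htriv fun f hf => by
    rw [h, mem_bot] at hf; rw [hf, map_one]
  by_cases hu : ∃ u : ↥Fr.E, u ∉ frattini ↥Fr.E ∧ Fr.β u = u
  · obtain ⟨u, hu1, hu2⟩ := hu
    exact Fr.caseB St hfΦ hΦ u hu1 hu2
  · push Not at hu
    refine Fr.fpf_false St fun e he => ?_
    by_cases h : e ∈ frattini ↥Fr.E
    · exact hfΦ e h he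
    · exact absurd he (hu e h)

end Frame

end Cfsg.Agent.Fus.Bicyclic
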