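import Cfsg.Agent.Lib.Fus.Bicyclic.FrameB

/-!
The case where `β` is trivial on `Φ(E)`: then `E` is a central product of a four-group or a
quaternion group with an abelian group, and this is impossible as well.
-/

set_option autoImplicit false
set_option linter.style.haveILetI false
set_option linter.unusedSectionVars false
set_option maxHeartbeats 1000000

open scoped commutatorElement

namespace Cfsg.Agent.Fus.Bicyclic

open Subgroup

universe u

variable {X : Type u} [Group X] [Finite X]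

theorem eq_one_of_cube {M : Type*} [Group M] [Finite M] (hM : IsPGroup 2 M) {x : M}
    (h : x * x * x = 1) : x = 1 := by
  haveI : Fact (Nat.Prime 2) := ⟨Nat.prime_two⟩
  obtain ⟨n, hn⟩ := IsPGroup.iff_orderOf.1 hM x
  have h3 : x ^ 3 = 1 := by rw [pow_succ, pow_two, h]
  have hd := orderOf_dvd_of_pow_eq_one h3
  rw [hn] at hd
  have h1 := Nat.Coprime.eq_one_of_dvd (Nat.Coprime.pow_left n (by norm_num : Nat.Coprime 2 3)) hd
  rw [← orderOf_eq_one_iff, hn, h1]

namespace Frame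

variable (Fr : Frame X)

/-- What is known when `β` is trivial on `Φ(E)`: `k = e⁻¹ β(e)`, its images `l`, `m`, the fixed
subgroup `C`. -/
structure Triv (e₀ : ↥Fr.E) : Prop where
  sq : let k := e₀⁻¹ * Fr.β e₀
    k * k * (k * k) = 1 ∧ Fr.β k * Fr.β k = k * k ∧ Fr.β (Fr.β k) * Fr.β (Fr.β k) = k * k ∧
      Fr.β k * k * (Fr.β k)⁻¹ = k⁻¹ ∧ k * Fr.β k = k * k * Fr.β (Fr.β k)
  cases : let k := e₀⁻¹ * Fr.β e₀
    ∀ e, Fr.β e = e ∨ Fr.β (k⁻¹ * e) = k⁻¹ * e ∨ Fr.β ((Fr.β k)⁻¹ * e) = (Fr.β k)⁻¹ * e ∨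
      Fr.β ((Fr.β (Fr.β k))⁻¹ * e) = (Fr.β (Fr.β k))⁻¹ * e
  central : ∀ x, Fr.β x = x → ∀ e : ↥Fr.E, e * x = x * e
  comm : let k := e₀⁻¹ * Fr.β e₀
    ∀ a b : ↥Fr.E, a * b * a⁻¹ = b ∨ a * b * a⁻¹ = b * (k * k)
  move : let k := e₀⁻¹ * Fr.β e₀
    Fr.β (k⁻¹ * Fr.β k) ≠ k⁻¹ * Fr.β k ∧ Fr.β k ≠ k

theorem triv_of (St : Setup X) (htriv : ∀ f ∈ frattini ↥Fr.E, Fr.β f = f) (e₀ : ↥Fr.E)
    (he₀ : e₀⁻¹ * Fr.β e₀ ∉ frattini ↥Fr.E) : Fr.Triv e₀ := by
  haveI : Fact (Nat.Prime 2) := ⟨Nat.prime_two⟩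
  have hEp : IsPGroup 2 ↥Fr.E := St.isP.to_subgroup _
  have hsqF : ∀ e : ↥Fr.E, e * e ∈ frattini ↥Fr.E := fun e => by
    rw [← pow_two]; exact Grp.pGroup_pow_mem_frattini hEp e
  obtain ⟨t1, t2, t3, t4, t5⟩ := triple_of_triv Fr.β Fr.cube hEp htriv e₀
  have hkc : ∀ f ∈ frattini ↥Fr.E, ∀ e : ↥Fr.E, Commute (e⁻¹ * Fr.β e) f := fun f hf e =>
    k_centralizes Fr.β Fr.cube htriv e hf
  obtain ⟨k, hk⟩ : ∃ k, k = e₀⁻¹ * Fr.β e₀ := ⟨_, rfl⟩
  rw [← hk] at t1 t2 t3 t4 t5 he₀
  set l := Fr.β k with hl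
  set m := Fr.β l with hm
  have hmk : Fr.β m = k := Fr.cube_apply k
  have hkF : ∀ f ∈ frattini ↥Fr.E, Commute k f := fun f hf => hk ▸ hkc f hf e₀
  have hlF : ∀ f ∈ frattini ↥Fr.E, Commute l f := fun f hf => by
    have := hkc f hf (Fr.β e₀)
    rwa [← map_inv, ← map_mul, ← hk] at this
  have hmF : ∀ f ∈ frattini ↥Fr.E, Commute m f := fun f hf => by
    have := hkc f hf (Fr.β (Fr.β e₀))
    rwa [← map_inv, ← map_mul, ← map_inv, ← map_mul, ← hk] at this
  have hrel : k * l * m = 1 := by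
    have := k_rel Fr.β Fr.cube e₀
    rwa [← hk] at this
  let C : Subgroup ↥Fr.E :=
    { carrier := {x | Fr.β x = x}
      one_mem' := map_one _
      mul_mem' := fun {a b} (ha : Fr.β a = a) (hb : Fr.β b = b) => by
        show Fr.β (a * b) = a * b
        rw [map_mul, ha, hb]
      inv_mem' := fun {a} (ha : Fr.β a = a) => by
        show Fr.β a⁻¹ = a⁻¹
        rw [map_inv, ha] }
  have hmemC : ∀ x, x ∈ C ↔ Fr.β x = x := fun x => Iff.rfl
  set F := frattini ↥Fr.E with hFdef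
  have hFC : F ≤ C := htriv
  haveI : C.Normal := Normal.of_commutator_le _ ((Grp.pGroup_commutator_le_frattini hEp).trans hFC)
  -- fixed classes consist of fixed elements
  have hfix : ∀ x : ↥Fr.E, x⁻¹ * Fr.β x ∈ C → x ∈ C := by
    intro x hx
    have hx' : Fr.β (x⁻¹ * Fr.β x) = x⁻¹ * Fr.β x := hx
    have h1 := k_rel Fr.β Fr.cube x
    rw [hx', hx'] at h1
    have h2 := eq_one_of_cube hEp h1
    show Fr.β x = x
    rw [inv_mul_eq_one] at h2
    exact h2.symm
  have hkC : k ∉ C := fun h => he₀ (by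
    have h' : Fr.β k = k := h
    rw [hm, hl, h', h'] at hrel
    rw [eq_one_of_cube hEp hrel]
    exact one_mem _)
  have hlC : l ∉ C := fun h => hkC (Fr.β.injective h)
  have hmC : m ∉ C := fun h => hlC (Fr.β.injective h)
  have hkl : k⁻¹ * l ∉ C := fun h => hkC (hfix k h)
  have hlm : l⁻¹ * m ∉ C := fun h => hlC (hfix l h)
  have hkm : k⁻¹ * m ∉ C := fun h => hmC (hfix m (by rw [hmk]; simpa using inv_mem h))
  have hidx8 : F.index ≤ 8 := St.frattini_index_le Fr.ne_top
  have hC4 : C.index = 4 := by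
    have hle : C.index ≤ 8 :=
      (Nat.le_of_dvd (Nat.pos_of_ne_zero index_ne_zero_of_finite) (index_dvd_of_le hFC)).trans hidx8
    have h4 : 4 ≤ C.index := four_le_card (1 : ↥Fr.E ⧸ C) (k : ↥Fr.E ⧸ C) (l : ↥Fr.E ⧸ C)
      (m : ↥Fr.E ⧸ C) (fun h => hkC ((QuotientGroup.eq_one_iff k).1 h.symm))
      (fun h => hlC ((QuotientGroup.eq_one_iff l).1 h.symm))
      (fun h => hmC ((QuotientGroup.eq_one_iff m).1 h.symm))
      (fun h => hkl (QuotientGroup.eq.1 h)) (fun h => hkm (QuotientGroup.eq.1 h))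
      (fun h => hlm (QuotientGroup.eq.1 h))
    obtain ⟨n, hn⟩ := hEp.index C
    rcases n with _ | _ | _ | _ | n
    · rw [hn] at h4; norm_num at h4
    · rw [hn] at h4; norm_num at h4
    · rw [hn]; norm_num
    · exfalso
      rw [hn] at hle h4
      have hCF : C = F := (eq_of_le_of_card_ge hFC (by
        have h1 := C.index_mul_card
        have h2 := F.index_mul_card
        rw [hn] at h1
        norm_num at h1
        have : 0 < Nat.card F := Nat.card_pos
        nlinarith)).symm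
      set V := ↥Fr.E ⧸ F
      have hV : IsPGroup 2 V := hEp.to_quotient F
      have hb : frattini V = ⊥ := le_bot_iff.1 (frattini_le_of_sq ⊥ fun q =>
        QuotientGroup.induction_on q fun e => by
          rw [mem_bot, pow_two, ← QuotientGroup.mk_mul]
          exact (QuotientGroup.eq_one_iff _).2 (hsqF e))
      have hVne : Nontrivial V := ⟨⟨(k : V), 1, fun h => he₀ ((QuotientGroup.eq_one_iff k).1 h)⟩⟩
      have hVc : Nat.card V = 8 := by
        show F.index = 8
        rw [← hCF, hn]; norm_num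
      have h4' := (fpf_abelian (autQ F Fr.β) (by rw [← map_pow, Fr.cube, map_one]) hV hVne
        (by rw [hb, index_bot, hVc]) fun q => QuotientGroup.induction_on q fun e he => by
          rw [autQ_mk, QuotientGroup.eq] at he
          have h1 := hfix e (hCF ▸ (by simpa using inv_mem he))
          exact (QuotientGroup.eq_one_iff e).2 (hCF ▸ h1)).1
      rw [hb, index_bot, hVc] at h4'
      omega
    · rw [hn, show n + 1 + 1 + 1 + 1 = n + 4 by ring, pow_add] at hle
      have : 1 ≤ 2 ^ n := Nat.one_le_two_pow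
      omega
  have hcases : ∀ e, e ∈ C ∨ k⁻¹ * e ∈ C ∨ l⁻¹ * e ∈ C ∨ m⁻¹ * e ∈ C := by
    intro e
    by_contra h
    push Not at h
    obtain ⟨h1, h2, h3, h4⟩ := h
    have := five_le_card (1 : ↥Fr.E ⧸ C) (k : ↥Fr.E ⧸ C) (l : ↥Fr.E ⧸ C) (m : ↥Fr.E ⧸ C)
      (e : ↥Fr.E ⧸ C) (fun h => hkC ((QuotientGroup.eq_one_iff k).1 h.symm))
      (fun h => hlC ((QuotientGroup.eq_one_iff l).1 h.symm))
      (fun h => hmC ((QuotientGroup.eq_one_iff m).1 h.symm))
      (fun h => h1 ((QuotientGroup.eq_one_iff e).1 h.symm))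
      (fun h => hkl (QuotientGroup.eq.1 h)) (fun h => hkm (QuotientGroup.eq.1 h))
      (fun h => h2 (QuotientGroup.eq.1 h)) (fun h => hlm (QuotientGroup.eq.1 h))
      (fun h => h3 (QuotientGroup.eq.1 h)) (fun h => h4 (QuotientGroup.eq.1 h))
    have h5 : Nat.card (↥Fr.E ⧸ C) = 4 := hC4
    omega
  -- `C` centralises `k`
  have hxk : ∀ x ∈ C, Commute x k ∧ Commute x l ∧ Commute x m := by
    intro x hx
    have hx' : Fr.β x = x := hx
    obtain ⟨f, hf⟩ : ∃ f, f = k⁻¹ * (x * k * x⁻¹) := ⟨_, rfl⟩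
    have hfF : f ∈ F := by
      rw [hf, show k⁻¹ * (x * k * x⁻¹) = ⁅k⁻¹, x⁆ by simp only [commutatorElement_def]; group]
      exact Grp.pGroup_commutator_le_frattini hEp (commutator_mem_commutator_top _ _)
    have e1 : x * k * x⁻¹ = k * f := by rw [hf, mul_inv_cancel_left]
    have e2 : x * l * x⁻¹ = l * f := by
      have := congrArg Fr.β e1
      rwa [map_mul, map_mul, map_inv, map_mul, hx', htriv f hfF, ← hl] at this
    have e3 : x * m * x⁻¹ = m * f := by
      have := congrArg Fr.β e2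
      rwa [map_mul, map_mul, map_inv, map_mul, hx', htriv f hfF, ← hm] at this
    have h1 : f * f * f = 1 := by
      have : x * k * x⁻¹ * (x * l * x⁻¹) * (x * m * x⁻¹) = 1 := by
        rw [show x * k * x⁻¹ * (x * l * x⁻¹) * (x * m * x⁻¹) = x * (k * l * m) * x⁻¹ by group, hrel]
        group
      rw [e1, e2, e3] at this
      calc f * f * f = (k * l * m) * (f * f * f) := by rw [hrel, one_mul]
        _ = k * f * (l * f) * (m * f) := by
          have hl' := (hlF f hfF).eq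
          have hm' := (hmF f hfF).eq
          have hm2 : m * (f * f) = f * f * m := by rw [← mul_assoc, hm', mul_assoc, hm', ← mul_assoc]
          calc k * l * m * (f * f * f) = k * l * (m * (f * f)) * f := by group
            _ = k * (l * f) * f * m * f := by rw [hm2]; group
            _ = k * f * (l * f) * (m * f) := by
              rw [show k * (l * f) = k * (f * l) by rw [hl']]
              group
        _ = 1 := this
    have hf1 := eq_one_of_cube hEp h1
    rw [hf1, mul_one] at e1 e2 e3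
    exact ⟨mul_inv_eq_iff_eq_mul.1 e1, mul_inv_eq_iff_eq_mul.1 e2, mul_inv_eq_iff_eq_mul.1 e3⟩
  set c := k * k with hc
  have hcF : c ∈ F := hsqF k
  have hcc : c * c = 1 := t1
  have hccentral : ∀ e : ↥Fr.E, Commute c e := by
    intro e
    have hC : ∀ x ∈ C, Commute c x := fun x hx => (((hxk x hx).1).mul_right (hxk x hx).1).symm
    rcases hcases e with h | h | h | h
    · exact hC e h
    · rw [← mul_inv_cancel_left k e]; exact (hkF c hcF).symm.mul_right (hC _ h)
    · rw [← mul_inv_cancel_left l e]; exact (hlF c hcF).symm.mul_right (hC _ h)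
    · rw [← mul_inv_cancel_left m e]; exact (hmF c hcF).symm.mul_right (hC _ h)
  -- `C` is abelian
  have hCab : ∀ x ∈ C, ∀ y ∈ C, Commute x y := by
    obtain ⟨u, hu, hcls⟩ : ∃ u ∈ C, ∀ x ∈ C, x ∈ F ∨ u⁻¹ * x ∈ F := by
      by_cases h : ∀ x ∈ C, x ∈ F
      · exact ⟨1, one_mem _, fun x hx => Or.inl (h x hx)⟩
      · push Not at h
        obtain ⟨u, hu, huF⟩ := h
        refine ⟨u, hu, fun x hx => ?_⟩
        by_contra h2
        push Not at h2
        have h3 : 3 ≤ (F.subgroupOf C).index := three_le_card (1 : ↥C ⧸ F.subgroupOf C)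
          ((⟨u, hu⟩ : ↥C) : ↥C ⧸ F.subgroupOf C) ((⟨x, hx⟩ : ↥C) : ↥C ⧸ F.subgroupOf C)
          (fun e => huF (mem_subgroupOf.1 ((QuotientGroup.eq_one_iff _).1 e.symm)))
          (fun e => h2.1 (mem_subgroupOf.1 ((QuotientGroup.eq_one_iff _).1 e.symm)))
          (fun e => h2.2 (mem_subgroupOf.1 (QuotientGroup.eq.1 e)))
        have h4 := relIndex_mul_index hFC
        rw [hC4] at h4
        have h5 : F.relIndex C = (F.subgroupOf C).index := rfl
        omega
    set ΦC : Subgroup ↥Fr.E := (frattini ↥C).map C.subtype with hΦC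
    have hΦCC : ΦC ≤ C := map_subtype_le _
    have hΦCn : ∀ g : ↥Fr.E, ∀ d ∈ ΦC, g * d * g⁻¹ ∈ ΦC := by
      have key : ∀ g ∈ C, ∀ d ∈ ΦC, g * d * g⁻¹ ∈ ΦC := by
        rintro g hg _ ⟨d, hd, rfl⟩
        exact ⟨⟨g, hg⟩ * d * ⟨g, hg⟩⁻¹, Normal.conj_mem inferInstance d hd _, rfl⟩
      intro g d hd
      have k3 : ∀ a, (∀ z ∈ C, Commute z a) → a⁻¹ * g ∈ C → g * d * g⁻¹ ∈ ΦC := fun a ha hag => by
        have h := key _ hag d hd
        rw [show g * d * g⁻¹ = a * (a⁻¹ * g * d * (a⁻¹ * g)⁻¹) * a⁻¹ by group,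
          ← (ha _ (hΦCC h)).eq, mul_inv_cancel_right]
        exact h
      rcases hcases g with h | h | h | h
      · exact key g h d hd
      · exact k3 k (fun z hz => (hxk z hz).1) h
      · exact k3 l (fun z hz => (hxk z hz).2.1) h
      · exact k3 m (fun z hz => (hxk z hz).2.2) h
    set R : Subgroup ↥Fr.E := ΦC ⊔ zpowers c with hR
    haveI : R.Normal := ⟨fun r hr g => by
      have : R.map (MulAut.conj g).toMonoidHom ≤ R := by
        rw [hR, Subgroup.map_sup, MonoidHom.map_zpowers]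
        refine sup_le (fun x hx => ?_) (zpowers_le.2 ?_)
        · obtain ⟨d, hd, rfl⟩ := hx
          exact mem_sup_left (hΦCn g d hd)
        · show g * c * g⁻¹ ∈ _
          rw [← (hccentral g).eq, mul_inv_cancel_right]
          exact mem_sup_right (mem_zpowers c)
      exact this ⟨r, hr, rfl⟩⟩
    have hsq : ∀ e : ↥Fr.E, e ^ 2 ∈ R := by
      intro e
      have hx2 : ∀ x ∈ C, x * x ∈ R := fun x hx =>
        mem_sup_left ⟨⟨x, hx⟩ ^ 2, Grp.pGroup_pow_mem_frattini (hEp.to_subgroup C) _, pow_two x⟩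
      have k2 : ∀ a x, x ∈ C → Commute x a → a * a = c → a * x * (a * x) ∈ R := fun a x hx hax ha => by
        rw [show a * x * (a * x) = a * (x * a) * x by group, hax.eq, show a * (a * x) * x =
          (a * a) * (x * x) by group, ha]
        exact mul_mem (mem_sup_right (mem_zpowers c)) (hx2 x hx)
      rw [pow_two]
      rcases hcases e with h | h | h | h
      · exact hx2 e h
      · have := k2 k _ h (hxk _ h).1 rfl
        rwa [mul_inv_cancel_left] at this
      · have := k2 l _ h (hxk _ h).2.1 t2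
        rwa [mul_inv_cancel_left] at this
      · have := k2 m _ h (hxk _ h).2.2 t3
        rwa [mul_inv_cancel_left] at this
    have hFR : F ≤ R := frattini_le_of_sq R hsq
    have hcC : c ∈ C := hFC hcF
    set D0 : Subgroup ↥C := zpowers (⟨u, hu⟩ : ↥C) ⊔ zpowers (⟨c, hcC⟩ : ↥C) with hD0
    have htop : D0 = ⊤ := frattini_nongenerating (eq_top_iff.2 fun x _ => by
      have hmap : R ≤ (D0 ⊔ frattini ↥C).map C.subtype := sup_le (map_mono le_sup_right)
        (zpowers_le.2 ⟨⟨c, hcC⟩, mem_sup_left (mem_sup_right (mem_zpowers _)), rfl⟩)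
      rcases hcls x x.2 with h | h
      · obtain ⟨y, hy, e⟩ := hmap (hFR h)
        have : y = x := Subtype.ext e
        exact this ▸ hy
      · obtain ⟨y, hy, e⟩ := hmap (hFR h)
        have : x = ⟨u, hu⟩ * y := Subtype.ext (by
          show (x : ↥Fr.E) = u * (y : ↥Fr.E)
          rw [show (y : ↥Fr.E) = u⁻¹ * x from e, mul_inv_cancel_left])
        rw [this]
        exact mul_mem (mem_sup_left (mem_sup_left (mem_zpowers _))) hy)
    intro x hx y hy
    have hgen : D0 ≤ center ↥C := sup_le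
      (zpowers_le.2 (mem_center_iff.2 fun z => by
        have : D0 ≤ centralizer {(⟨u, hu⟩ : ↥C)} := sup_le
          (zpowers_le.2 (mem_centralizer_singleton_iff.2 rfl))
          (zpowers_le.2 (mem_centralizer_singleton_iff.2 (Subtype.ext (hccentral u).eq)))
        exact mem_centralizer_singleton_iff.1 (this (htop.ge (mem_top z)))))
      (zpowers_le.2 (mem_center_iff.2 fun z => Subtype.ext (hccentral z).symm.eq))
    exact congrArg Subtype.val (mem_center_iff.1 (hgen (htop.ge (mem_top (⟨y, hy⟩ : ↥C)))) ⟨x, hx⟩)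
  have hcent : ∀ x, Fr.β x = x → ∀ e : ↥Fr.E, e * x = x * e := by
    intro x hx e
    obtain ⟨x1, x2, x3⟩ := hxk x hx
    rcases hcases e with h | h | h | h
    · exact (hCab e h x hx).eq
    · rw [← mul_inv_cancel_left k e]; exact (x1.symm.mul_left (hCab _ h x hx)).eq
    · rw [← mul_inv_cancel_left l e]; exact (x2.symm.mul_left (hCab _ h x hx)).eq
    · rw [← mul_inv_cancel_left m e]; exact (x3.symm.mul_left (hCab _ h x hx)).eq
  refine ⟨?_, ?_, hcent, ?_, ?_⟩
  · rw [← hk]; exact ⟨t1, t2, t3, t4, t5⟩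
  · rw [← hk]; exact hcases
  · rw [← hk]
    intro k' a b
    show a * b * a⁻¹ = b ∨ a * b * a⁻¹ = b * c
    set Z : Subgroup ↥Fr.E := zpowers c with hZ
    haveI : Z.Normal := ⟨fun r hr g => by
      obtain ⟨i, rfl⟩ := mem_zpowers_iff.1 hr
      rw [← ((hccentral g).zpow_left i).eq, mul_inv_cancel_right]
      exact zpow_mem (mem_zpowers c) i⟩
    have hlk : Commute (l : ↥Fr.E ⧸ Z) (k : ↥Fr.E ⧸ Z) := by
      show (l : ↥Fr.E ⧸ Z) * k = k * l
      rw [← QuotientGroup.mk_mul, ← QuotientGroup.mk_mul, QuotientGroup.eq,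
        mul_inv_eq_iff_eq_mul.1 t4, show (k⁻¹ * l)⁻¹ * (k * l) = l⁻¹ * c * l by rw [hc]; group,
        mul_assoc, (hccentral l).eq, inv_mul_cancel_left]
      exact mem_zpowers c
    have hmkl : m = (k * l)⁻¹ := eq_inv_of_mul_eq_one_right hrel
    have hall : ∀ x y : ↥Fr.E, Commute (x : ↥Fr.E ⧸ Z) (y : ↥Fr.E ⧸ Z) := by
      have hgen : ∀ e : ↥Fr.E ⧸ Z, Commute e (k : ↥Fr.E ⧸ Z) → Commute e (l : ↥Fr.E ⧸ Z) →
          (∀ x ∈ C, Commute e (x : ↥Fr.E ⧸ Z)) → ∀ y : ↥Fr.E, Commute e (y : ↥Fr.E ⧸ Z) := by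
        intro e he1 he2 he3 y
        rcases hcases y with h | h | h | h
        · exact he3 y h
        · rw [← mul_inv_cancel_left k y, QuotientGroup.mk_mul]; exact he1.mul_right (he3 _ h)
        · rw [← mul_inv_cancel_left l y, QuotientGroup.mk_mul]; exact he2.mul_right (he3 _ h)
        · rw [← mul_inv_cancel_left m y, QuotientGroup.mk_mul]
          refine Commute.mul_right ?_ (he3 _ h)
          rw [hmkl, QuotientGroup.mk_inv, QuotientGroup.mk_mul]
          exact (he1.mul_right he2).inv_right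
      intro x y
      have hC' : ∀ z ∈ C, ∀ w : ↥Fr.E, Commute (w : ↥Fr.E ⧸ Z) (z : ↥Fr.E ⧸ Z) := fun z hz w =>
        (show Commute w z from hcent z hz w).map (QuotientGroup.mk' Z)
      have hk' : Commute (x : ↥Fr.E ⧸ Z) (k : ↥Fr.E ⧸ Z) :=
        (hgen _ (Commute.refl _) hlk.symm (fun z hz => hC' z hz k) x).symm
      have hl' : Commute (x : ↥Fr.E ⧸ Z) (l : ↥Fr.E ⧸ Z) :=
        (hgen _ hlk (Commute.refl _) (fun z hz => hC' z hz l) x).symm
      exact hgen _ hk' hl' (fun z hz => hC' z hz x) y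
    have hmem : b⁻¹ * (a * b * a⁻¹) ∈ Z := by
      rw [← QuotientGroup.eq_one_iff]
      simp only [QuotientGroup.mk_mul, QuotientGroup.mk_inv]
      rw [(hall a b).eq, mul_inv_cancel_right, inv_mul_cancel]
    obtain ⟨i, hi⟩ := mem_zpowers_iff.1 hmem
    rcases Int.even_or_odd i with ⟨j, rfl⟩ | ⟨j, rfl⟩
    · left
      rw [← two_mul, zpow_mul, zpow_two, hcc, one_zpow, eq_comm, inv_mul_eq_one] at hi
      exact hi.symm
    · right
      rw [zpow_add_one, zpow_mul, zpow_two, hcc, one_zpow, one_mul] at hi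
      rw [hi, mul_inv_cancel_left]
  · rw [← hk]
    exact ⟨hkl, fun h => hkC h⟩

end Frame

end Cfsg.Agent.Fus.Bicyclic
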