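import Cfsg.Agent.Lib.Fus.Bicyclic.Basic

/-!
Bicyclic `2`-groups that are not metacyclic: the Frattini subgroup is metacyclic, the automorphism
group is a `2`-group, and some generator outside the Frattini subgroup squares into `ySub`.
-/

set_option autoImplicit false
set_option linter.style.haveILetI false
set_option linter.unusedSectionVars false

open scoped commutatorElement

namespace Cfsg.Agent.Fus.Bicyclic

open Subgroup

universe u

variable {X : Type u} [Group X]

/-- The automorphisms induced on a characteristic quotient. -/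
def autQ (N : Subgroup X) [N.Characteristic] : MulAut X →* MulAut (X ⧸ N) where
  toFun α := QuotientGroup.congr N N α (Subgroup.characteristic_iff_map_eq.1 inferInstance α)
  map_one' := MulEquiv.ext fun q => QuotientGroup.induction_on q fun g => rfl
  map_mul' α β := MulEquiv.ext fun q => QuotientGroup.induction_on q fun g => rfl

theorem autQ_mk (N : Subgroup X) [N.Characteristic] (α : MulAut X) (g : X) :
    autQ N α (g : X ⧸ N) = (α g : X ⧸ N) := rfl

theorem IsBic.symm {x y : X} (h : IsBic x y) : IsBic y x := fun g => by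
  obtain ⟨i, j, e⟩ := h g⁻¹
  exact ⟨-j, -i, by rw [zpow_neg, zpow_neg, ← _root_.mul_inv_rev, ← e, inv_inv]⟩

theorem IsBic.map {x y : X} (h : IsBic x y) {Y : Type*} [Group Y] (f : X →* Y)
    (hf : Function.Surjective f) : IsBic (f x) (f y) := fun q => by
  obtain ⟨g, rfl⟩ := hf q
  obtain ⟨i, j, rfl⟩ := h g
  exact ⟨i, j, by rw [map_mul, map_zpow, map_zpow]⟩

theorem commutator_mem_commutator_top (a b : X) : ⁅a, b⁆ ∈ commutator X := by
  rw [commutator_def]; exact Subgroup.commutator_mem_commutator (mem_top a) (mem_top b)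

/-- The pair of generators in a quotient killing `rSub`. -/
theorem pair_mk {x y : X} (hg : closure ({x, y} : Set X) = ⊤) (N : Subgroup X) [N.Normal]
    (hN : rSub X ≤ N) : Pair (x : X ⧸ N) (y : X ⧸ N) := by
  have h := mk_ne_zero_commutator hN (commutator_mem_commutator_top x y)
  have e : ⁅(x : X ⧸ N), (y : X ⧸ N)⁆ = ((⁅x, y⁆ : X) : X ⧸ N) :=
    (map_commutatorElement (QuotientGroup.mk' N) x y).symm
  refine ⟨?_, fun g => by rw [e]; exact h.1 g, by rw [e]; exact h.2⟩
  have := MonoidHom.map_closure (QuotientGroup.mk' N) ({x, y} : Set X)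
  rw [hg, Subgroup.map_top_of_surjective _ (QuotientGroup.mk'_surjective N), Set.image_pair] at this
  exact this.symm

/-- Fourth powers are products of fourth powers of the generators. -/
theorem Pair.pow_four_form {a b : X} (h : Pair a b) (hb : IsBic a b) (g : X) :
    ∃ i j : ℤ, g ^ 4 = a ^ (4 * i) * b ^ (4 * j) := by
  obtain ⟨i, j, rfl⟩ := hb g
  refine ⟨i, j, ?_⟩
  rw [show (4 : ℕ) = 2 * 2 from rfl, pow_mul, h.mul_zpow_sq]
  have hc : Commute (a ^ (2 * i) * b ^ (2 * j)) (⁅a, b⁆ ^ (i * j)) :=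
    ((show Commute _ _ from h.central _).zpow_left _).symm
  have hab : Commute (a ^ (2 * i)) (b ^ (2 * j)) := by
    rw [zpow_mul]
    exact ((show a ^ (2 : ℤ) = a ^ (2 : ℕ) from zpow_natCast a 2) ▸
      (h.commute_sq_left _)).zpow_left i
  have e : ∀ (v : X) (k : ℤ), (v ^ k) ^ 2 = v ^ (2 * k) := fun v k => by
    rw [pow_two, ← zpow_add, two_mul]
  rw [hc.mul_pow, hab.mul_pow, e, e, e, zpow_mul ⁅a, b⁆,
    show ⁅a, b⁆ ^ (2 : ℤ) = ⁅a, b⁆ ^ (2 : ℕ) from zpow_natCast _ 2, h.sq, one_zpow, mul_one,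
    show 2 * (2 * i) = 4 * i by ring, show 2 * (2 * j) = 4 * j by ring]

/-- The commutator of a non-metacyclic pair is no square of a generator times fourth powers. -/
theorem Pair.metacyclic_of_sq [Finite X] (hX : IsPGroup 2 X) {a b : X} (h : Pair a b)
    (h4 : ∀ g : X, ∃ i j : ℤ, g ^ 4 = a ^ (4 * i) * b ^ (4 * j)) {s : ℤ} {g : X}
    (hc : ⁅a, b⁆ = a ^ (2 * s) * g ^ 4) : IsMetacyclic X := by
  obtain ⟨i, j, e⟩ := h4 g
  refine h.metacyclic_aux hX _ 1 (s + 2 * i) (2 * j) le_rfl le_rfl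
    (Or.inr ⟨(s + 2 * i) * j, by ring⟩) ?_
  rw [hc, e, ← mul_assoc, ← zpow_add]
  congr 2 <;> ring

variable [Finite X]

theorem not_isCyclic_of_not_metacyclic (hm : ¬ IsMetacyclic X) : ¬ IsCyclic X := fun hc => by
  obtain ⟨g, hg⟩ := hc.exists_generator
  refine hm (MetaTwo.isMetacyclic_of_gens (n := g) (x := 1) ?_ fun q => ⟨0, ?_⟩)
  · rw [(eq_top_iff.2 fun q _ => hg q : zpowers g = ⊤)]; infer_instance
  · simpa using hg q

/-- The Frattini subgroup of a noncyclic bicyclic `2`-group has index four. -/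
theorem IsBic.frattini_index (hX : IsPGroup 2 X) {x y : X} (h : IsBic x y)
    (hc : ¬ IsCyclic X) : (frattini X).index = 4 ∧ x ∉ frattini X ∧ y ∉ frattini X ∧
      x * y ∉ frattini X ∧ x⁻¹ * y ∉ frattini X := by
  haveI : Fact (Nat.Prime 2) := ⟨Nat.prime_two⟩
  have hone : ∀ u v : X, closure ({u, v} : Set X) = ⊤ → u ∉ frattini X := by
    intro u v huv hu
    refine hc ⟨⟨v, fun q => ?_⟩⟩
    have : zpowers v = ⊤ := frattini_nongenerating (eq_top_iff.2 (huv ▸ (closure_le _).2 ?_))
    · exact mem_zpowers_iff.1 (this.symm ▸ mem_top q : q ∈ zpowers v)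
    · rintro w (rfl | rfl)
      · exact mem_sup_right hu
      · exact mem_sup_left (mem_zpowers _)
  have hx := hone x y h.closure_eq_top
  have hy := hone y x h.symm.closure_eq_top
  have hxy : x⁻¹ * y ∉ frattini X := hone _ x (eq_top_iff.2 fun q _ => by
    refine (h.closure_eq_top.ge.trans ?_) (mem_top q)
    rw [closure_le]
    rintro w (hw | hw) <;> rw [hw]
    · exact subset_closure (by simp)
    · rw [SetLike.mem_coe, ← mul_inv_cancel_left x y]
      exact mul_mem (subset_closure (by simp)) (subset_closure (by simp)))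
  have hxy' : x * y ∉ frattini X := fun hh => hxy (by
    rw [show x⁻¹ * y = (x ^ 2)⁻¹ * (x * y) by group]
    exact mul_mem (inv_mem (Grp.pGroup_pow_mem_frattini hX x)) hh)
  refine ⟨?_, hx, hy, hxy', hxy⟩
  haveI : (frattini X).Normal := inferInstance
  let f : Fin 2 × Fin 2 → X ⧸ frattini X := fun t =>
    (x : X ⧸ frattini X) ^ (t.1 : ℕ) * (y : X ⧸ frattini X) ^ (t.2 : ℕ)
  have hred : ∀ (u : X) (i : ℤ), (u : X ⧸ frattini X) ^ i = (u : X ⧸ frattini X) ^ ((i % 2).toNat) := by
    intro u i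
    have h2 : (u : X ⧸ frattini X) ^ (2 : ℤ) = 1 := by
      rw [show (2 : ℤ) = ((2 : ℕ) : ℤ) from rfl, zpow_natCast, ← QuotientGroup.mk_pow]
      exact (QuotientGroup.eq_one_iff _).2 (Grp.pGroup_pow_mem_frattini hX u)
    conv_lhs => rw [← Int.emod_add_mul_ediv i 2, zpow_add, zpow_mul, h2, one_zpow, mul_one,
      ← Int.toNat_of_nonneg (Int.emod_nonneg i (by norm_num : (2 : ℤ) ≠ 0)), zpow_natCast]
  have hf : Function.Surjective f := fun q => by
    obtain ⟨g, rfl⟩ := QuotientGroup.mk_surjective q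
    obtain ⟨i, j, rfl⟩ := h g
    refine ⟨⟨⟨(i % 2).toNat, by omega⟩, ⟨(j % 2).toNat, by omega⟩⟩, ?_⟩
    show _ * _ = _
    rw [← hred, ← hred, ← QuotientGroup.mk_zpow, ← QuotientGroup.mk_zpow, ← QuotientGroup.mk_mul]
  have hle := Nat.card_le_card_of_surjective f hf
  rw [Nat.card_prod, Nat.card_fin] at hle
  haveI : Finite (X ⧸ frattini X) := inferInstance
  have h3 : 3 ≤ Nat.card (X ⧸ frattini X) := by
    classical
    haveI : Fintype (X ⧸ frattini X) := Fintype.ofFinite _
    have h1 : ({1, (x : X ⧸ frattini X), (y : X ⧸ frattini X)} : Finset _).card = 3 := by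
      rw [Finset.card_eq_three]
      exact ⟨_, _, _, fun e => hx ((QuotientGroup.eq_one_iff _).1 e.symm),
        fun e => hy ((QuotientGroup.eq_one_iff _).1 e.symm),
        fun e => hxy (QuotientGroup.eq.1 e), rfl⟩
    rw [Nat.card_eq_fintype_card, ← h1]
    exact Finset.card_le_univ _
  obtain ⟨k, hk⟩ := hX.index (frattini X)
  have hidx : (frattini X).index = Nat.card (X ⧸ frattini X) := rfl
  rcases k with _ | _ | _ | k
  · rw [hk] at hidx; norm_num at hidx; omega
  · rw [hk] at hidx; norm_num at hidx; omega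
  · rw [hk]; norm_num
  · have : 2 ^ 3 ≤ 2 ^ (k + 3) := Nat.pow_le_pow_right (by norm_num) (by omega)
    rw [show k + 1 + 1 + 1 = k + 3 by ring] at hk
    omega

/-- The Frattini subgroup is the product of the cyclic groups generated by the squares. -/
theorem IsBic.frattini_form (hX : IsPGroup 2 X) {x y : X} (h : IsBic x y) (hc : ¬ IsCyclic X)
    {g : X} (hg : g ∈ frattini X) : ∃ i j : ℤ, g = x ^ (2 * i) * y ^ (2 * j) := by
  haveI : Fact (Nat.Prime 2) := ⟨Nat.prime_two⟩
  let T : Set X := {g | ∃ i j : ℤ, g = x ^ (2 * i) * y ^ (2 * j)}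
  have hTP : T ⊆ (frattini X : Set X) := by
    rintro _ ⟨i, j, rfl⟩
    have h2 : ∀ (u : X) (k : ℤ), u ^ (2 * k) ∈ frattini X := fun u k => by
      rw [zpow_mul, show u ^ (2 : ℤ) = u ^ (2 : ℕ) from zpow_natCast u 2]
      exact zpow_mem (Grp.pGroup_pow_mem_frattini hX u) k
    exact mul_mem (h2 x i) (h2 y j)
  let F : Fin 2 × T × Fin 2 → X := fun t => x ^ (t.1 : ℕ) * (t.2.1 : X) * y ^ (t.2.2 : ℕ)
  have hF : Function.Surjective F := fun q => by
    obtain ⟨i, j, rfl⟩ := h q
    refine ⟨⟨⟨(i % 2).toNat, by omega⟩, ⟨_, i / 2, j / 2, rfl⟩, ⟨(j % 2).toNat, by omega⟩⟩, ?_⟩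
    show x ^ (i % 2).toNat * (x ^ (2 * (i / 2)) * y ^ (2 * (j / 2))) * y ^ (j % 2).toNat = _
    rw [← zpow_natCast, ← zpow_natCast, Int.toNat_of_nonneg (Int.emod_nonneg i two_ne_zero),
      Int.toNat_of_nonneg (Int.emod_nonneg j two_ne_zero), ← mul_assoc, ← zpow_add, mul_assoc,
      ← zpow_add, Int.emod_add_mul_ediv i 2, add_comm (2 * (j / 2)), Int.emod_add_mul_ediv j 2]
  have hcard := Nat.card_le_card_of_surjective F hF
  have hidx := (h.frattini_index hX hc).1
  have hP := (frattini X).index_mul_card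
  rw [hidx] at hP
  rw [Nat.card_prod, Nat.card_prod, Nat.card_fin] at hcard
  have hT : T = (frattini X : Set X) := by
    refine Set.eq_of_subset_of_ncard_le hTP ?_ (Set.toFinite _)
    rw [← Nat.card_coe_set_eq, ← Nat.card_coe_set_eq, SetLike.coe_sort_coe]
    nlinarith
  have : g ∈ T := hT ▸ hg
  exact this

/-- Two automorphisms moving the lines of a four-group like transvections with different axes
generate an element of order three. -/
theorem no_order_three {V : Type*} [Group V] {α β : MulAut V} {a b : V} (hab : a ≠ b)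
    (hb1 : b ≠ 1) (hb2 : b * b = 1) (ha2 : a * a = 1) (hcm : b * a = a * b) (hαa : α a = a)
    (hαb : α b = a * b) (hβa : β a = a * b) (hβb : β b = b) {k : ℕ}
    (hk : (α * β) ^ (2 ^ k) = 1) : False := by
  have e1 : (α * β) a = b := by
    rw [MulAut.mul_apply, hβa, map_mul, hαa, hαb, ← mul_assoc, ha2, one_mul]
  have e2 : (α * β) b = a * b := by rw [MulAut.mul_apply, hβb, hαb]
  have h3 : ((α * β) ^ 3) a = a := by
    rw [pow_succ, MulAut.mul_apply, e1, pow_two, MulAut.mul_apply, e2, map_mul, e1, e2, ← mul_assoc,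
      hcm, mul_assoc, hb2, mul_one]
  have hmul : ∀ m, ((α * β) ^ (3 * m)) a = a := fun m => by
    induction m with
    | zero => simp
    | succ m ih => rw [Nat.mul_succ, pow_add, MulAut.mul_apply, h3, ih]
  obtain ⟨m, hm⟩ : ∃ m, 2 ^ k = 3 * m + 1 ∨ 2 ^ k = 3 * m + 2 := by
    have h0 : ¬ 3 ∣ 2 ^ k := fun hd => absurd (Nat.prime_three.dvd_of_dvd_pow hd) (by decide)
    exact ⟨2 ^ k / 3, by omega⟩
  have hid : ((α * β) ^ (2 ^ k)) a = a := by rw [hk]; rfl
  rcases hm with hm | hm
  · rw [hm, add_comm, pow_add, pow_one, MulAut.mul_apply, hmul, e1] at hid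
    exact hab hid.symm
  · rw [hm, add_comm, pow_add, MulAut.mul_apply, hmul, pow_two, MulAut.mul_apply, e1, e2] at hid
    exact hb1 (mul_eq_left.1 hid)

/-- The Frattini subgroup of a bicyclic `2`-group is metacyclic. -/
theorem IsBic.frattini_metacyclic (hX : IsPGroup 2 X) {x y : X} (h : IsBic x y)
    (hc : ¬ IsCyclic X) : IsMetacyclic ↥(frattini X) := by
  haveI : Fact (Nat.Prime 2) := ⟨Nat.prime_two⟩
  by_contra hm
  set P := frattini X
  let a : P := ⟨x ^ 2, Grp.pGroup_pow_mem_frattini hX x⟩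
  let b : P := ⟨y ^ 2, Grp.pGroup_pow_mem_frattini hX y⟩
  have hP : IsPGroup 2 P := hX.to_subgroup P
  have hbic : IsBic a b := fun g => by
    obtain ⟨i, j, e⟩ := h.frattini_form hX hc g.2
    refine ⟨i, j, Subtype.ext ?_⟩
    show (g : X) = ((a ^ i * b ^ j : P) : X)
    rw [Subgroup.coe_mul, SubgroupClass.coe_zpow, SubgroupClass.coe_zpow, e, zpow_mul, zpow_mul,
      zpow_two, zpow_two, ← pow_two, ← pow_two]
  obtain ⟨-, haΦ, hbΦ, habΦ, -⟩ := hbic.frattini_index hP (not_isCyclic_of_not_metacyclic hm)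
  haveI hPn : P.Normal := inferInstance
  let κ : X →* MulAut P := MulAut.conjNormal
  have hκx : κ x a = a := Subtype.ext (by
    show x * x ^ 2 * x⁻¹ = x ^ 2
    group)
  have hκy : κ y b = b := Subtype.ext (by
    show y * y ^ 2 * y⁻¹ = y ^ 2
    group)
  have hV2 : ∀ q : P ⧸ frattini P, q * q = 1 := fun q => QuotientGroup.induction_on q fun g => by
    rw [← QuotientGroup.mk_mul, ← pow_two]
    exact (QuotientGroup.eq_one_iff _).2 (Grp.pGroup_pow_mem_frattini hP g)
  set V := P ⧸ frattini P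
  have cls : ∀ q : V, q = 1 ∨ q = (a : V) ∨ q = (b : V) ∨ q = (a : V) * b := fun q =>
    QuotientGroup.induction_on q fun g => by
      obtain ⟨i, j, rfl⟩ := hbic g
      rw [QuotientGroup.mk_mul, QuotientGroup.mk_zpow, QuotientGroup.mk_zpow]
      have hred : ∀ (u : V) (i : ℤ), u ^ i = 1 ∨ u ^ i = u := fun u i => by
        rcases Int.even_or_odd i with ⟨k, rfl⟩ | ⟨k, rfl⟩
        · left
          rw [← two_mul, zpow_mul, show u ^ (2 : ℤ) = u * u from zpow_two u, hV2, one_zpow]
        · right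
          rw [zpow_add, zpow_mul, show u ^ (2 : ℤ) = u * u from zpow_two u, hV2, one_zpow,
            one_mul, zpow_one]
      rcases hred (a : V) i with e | e <;> rcases hred (b : V) j with e' | e' <;>
        rw [e, e'] <;> simp
  have ha0 : (a : V) ≠ 1 := fun e => haΦ ((QuotientGroup.eq_one_iff _).1 e)
  have hb0 : (b : V) ≠ 1 := fun e => hbΦ ((QuotientGroup.eq_one_iff _).1 e)
  have hab0 : (a : V) ≠ b := fun e => habΦ ((QuotientGroup.eq_one_iff _).1 (by
    rw [QuotientGroup.mk_mul, ← e]; exact hV2 _))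
  -- an automorphism fixing the class of `b` fixes or moves the class of `a` to the product
  have himg : ∀ (u w : V) (σ : MulAut V), u ≠ 1 → u ≠ w → σ w = w →
      (∀ q : V, q = 1 ∨ q = u ∨ q = w ∨ q = u * w) → σ u = u ∨ σ u = u * w := by
    intro u w σ hu huw hw hcls
    rcases hcls (σ u) with e | e | e | e
    · exact absurd ((map_eq_one_iff σ σ.injective).1 e) hu
    · exact Or.inl e
    · exact absurd (σ.injective (e.trans hw.symm)) huw
    · exact Or.inr e
  -- the trivial one gives a contradiction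
  have key : ∀ (u w : P) (g : X), Pair (u : P ⧸ ySub P) (w : P ⧸ ySub P) →
      IsBic u w → κ g w = w → κ g ^ 2 = MulAut.conj w →
      (κ g u : V) = (u : V) → False := by
    intro u w g hp hbuw hgw hg2 htriv
    set Q := P ⧸ ySub P
    set τ : MulAut Q := autQ (ySub P) (κ g)
    have hτw : τ (w : Q) = w := by rw [autQ_mk, hgw]
    have h4 : ∀ q : Q, q ^ 4 = 1 := fun q => QuotientGroup.induction_on q fun v =>
      (QuotientGroup.eq_one_iff _).2 (pow_four_mem v)
    obtain ⟨φ, hφ⟩ : ∃ φ : P, κ g u = u * φ := ⟨u⁻¹ * κ g u, (mul_inv_cancel_left _ _).symm⟩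
    have hφΦ : φ ∈ frattini P := by
      rw [← QuotientGroup.eq_one_iff]
      have := htriv
      rw [hφ, QuotientGroup.mk_mul] at this
      exact mul_eq_left.1 this
    obtain ⟨i, j, hij⟩ := hbuw.frattini_form hP (not_isCyclic_of_not_metacyclic hm) hφΦ
    have hτu : τ (u : Q) = (u : Q) * (φ : Q) := by rw [autQ_mk, hφ, QuotientGroup.mk_mul]
    have hφQ : (φ : Q) = ((u : Q) ^ 2) ^ i * ((w : Q) ^ 2) ^ j := by
      rw [hij, QuotientGroup.mk_mul, QuotientGroup.mk_zpow, QuotientGroup.mk_zpow, zpow_mul,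
        zpow_mul, zpow_two, zpow_two, pow_two, pow_two]
    have hcomm : Commute (u : Q) (φ : Q) := by
      rw [hφQ]
      exact ((hp.commute_sq_left _).symm.zpow_right i).mul_right
        ((hp.commute_sq_right _).symm.zpow_right j)
    have hφ2 : (φ : Q) ^ 2 = 1 := by
      rw [hφQ, ((hp.commute_sq_left _).zpow_left i |>.zpow_right j).mul_pow, ← zpow_natCast,
        ← zpow_natCast (((w : Q) ^ 2) ^ j), ← zpow_mul, ← zpow_mul, mul_comm i, mul_comm j,
        zpow_mul, zpow_mul, zpow_natCast, zpow_natCast, ← pow_mul, ← pow_mul, h4, h4, one_zpow,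
        one_zpow, one_mul]
    have hτu2 : τ ((u : Q) ^ 2) = (u : Q) ^ 2 := by
      rw [map_pow, hτu, hcomm.mul_pow, hφ2, mul_one]
    have hτφ : τ (φ : Q) = (φ : Q) := by
      rw [hφQ, map_mul, map_zpow, map_zpow, hτu2, map_pow, hτw]
    have h2 : (τ ^ 2) (u : Q) = (u : Q) := by
      rw [pow_two, MulAut.mul_apply, hτu, map_mul, hτu, hτφ, mul_assoc, ← pow_two, hφ2, mul_one]
    rw [← map_pow, hg2, autQ_mk] at h2
    have hc1 : ⁅(u : Q), (w : Q)⁆ = 1 := by
      refine commutatorElement_eq_one_iff_commute.2 ?_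
      rw [MulAut.conj_apply, QuotientGroup.mk_mul, QuotientGroup.mk_mul, QuotientGroup.mk_inv,
        mul_inv_eq_iff_eq_mul] at h2
      exact h2.symm
    have hmem : ⁅u, w⁆ ∈ ySub P := (QuotientGroup.eq_one_iff _).1
      ((map_commutatorElement (QuotientGroup.mk' (ySub P)) u w).trans hc1)
    let f := QuotientGroup.mk' (rSub P)
    have hp' : Pair (f u) (f w) := pair_mk hbuw.closure_eq_top _ le_rfl
    have hb' := hbuw.map f (QuotientGroup.mk'_surjective _)
    have : f ⁅u, w⁆ ∈ (ySub P).map f := mem_map_of_mem f hmem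
    rw [map_ySub f (QuotientGroup.mk'_surjective _)] at this
    have hR : rSub (P ⧸ rSub P) = ⊥ := by
      rw [← map_rSub f (QuotientGroup.mk'_surjective _), Subgroup.map_eq_bot_iff,
        QuotientGroup.ker_mk']
    rw [ySub, hR, bot_sup_eq] at this
    obtain ⟨i', j', e⟩ : ∃ i j : ℤ, f ⁅u, w⁆ = f u ^ (4 * i) * f w ^ (4 * j) := by
      generalize f ⁅u, w⁆ = q at this
      induction this using closure_induction with
      | mem v hv => obtain ⟨v', rfl⟩ := hv; exact hp'.pow_four_form hb' v'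
      | one => exact ⟨0, 0, by simp⟩
      | mul v v' _ _ h1 h2 =>
        obtain ⟨i1, j1, rfl⟩ := h1
        obtain ⟨i2, j2, rfl⟩ := h2
        refine ⟨i1 + i2, j1 + j2, ?_⟩
        have hcm : Commute (f w ^ (4 * j1)) (f u ^ (4 * i2)) := by
          rw [show (4 : ℤ) * i2 = 2 * (2 * i2) by ring, zpow_mul (f u), zpow_two, ← pow_two]
          exact ((hp'.commute_sq_left _).symm).zpow_right _
        rw [mul_assoc, ← mul_assoc (f w ^ (4 * j1)), hcm.eq, mul_assoc (f u ^ (4 * i2)),
          ← mul_assoc, ← zpow_add, ← zpow_add, mul_add, mul_add]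
      | inv v _ h1 =>
        obtain ⟨i1, j1, rfl⟩ := h1
        refine ⟨-i1, -j1, ?_⟩
        have hcm : Commute (f u ^ (4 * i1)) (f w ^ (4 * j1)) := by
          rw [show (4 : ℤ) * i1 = 2 * (2 * i1) by ring, zpow_mul (f u), zpow_two, ← pow_two]
          exact (hp'.commute_sq_left _).zpow_left _
        rw [_root_.mul_inv_rev, ← zpow_neg, ← zpow_neg, mul_neg, mul_neg]
        exact (by rw [zpow_neg, zpow_neg]; exact hcm.inv_left.inv_right.symm.eq)
    refine hm (metacyclic_of_quotient _ rfl hP ?_)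
    refine hp'.metacyclic_aux (hP.to_quotient _) _ 2 i' j' le_rfl (by norm_num) (Or.inl le_rfl) ?_
    rw [← map_commutatorElement, e]
    norm_num
  have hpair := pair_mk hbic.closure_eq_top (ySub P) rSub_le_ySub
  have hsqconj : ∀ (g : X) (w : P), (w : X) = g ^ 2 → κ g ^ 2 = MulAut.conj w := fun g w hw => by
    rw [← map_pow, ← hw]
    exact MulEquiv.ext fun v => Subtype.ext rfl
  have eV : ∀ (g : X) (q : P), autQ (frattini P) (κ g) (q : V) = (κ g q : V) := fun g q => rfl
  rcases himg (a : V) b (autQ (frattini P) (κ y)) ha0 hab0 (by rw [eV, hκy]) cls with hy | hy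
  · exact key a b y hpair hbic hκy (hsqconj y b rfl) hy
  rcases himg (b : V) a (autQ (frattini P) (κ x)) hb0 (Ne.symm hab0) (by rw [eV, hκx])
    (fun q => by
      rcases cls q with e | e | e | e
      · exact Or.inl e
      · exact Or.inr (Or.inr (Or.inl e))
      · exact Or.inr (Or.inl e)
      · refine Or.inr (Or.inr (Or.inr (e.trans ?_)))
        calc (a : V) * b = ((a : V) * b)⁻¹ := (inv_eq_of_mul_eq_one_right (hV2 _)).symm
          _ = _ := by rw [_root_.mul_inv_rev, inv_eq_of_mul_eq_one_right (hV2 _),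
            inv_eq_of_mul_eq_one_right (hV2 _)]) with hx | hx
  · exact key b a x hpair.symm hbic.symm hκx (hsqconj x a rfl) hx
  have hcab : (b : V) * a = (a : V) * b := by
    calc (b : V) * a = ((b : V) * a)⁻¹ := (inv_eq_of_mul_eq_one_right (hV2 _)).symm
      _ = _ := by rw [_root_.mul_inv_rev, inv_eq_of_mul_eq_one_right (hV2 _),
        inv_eq_of_mul_eq_one_right (hV2 _)]
  obtain ⟨k, hk⟩ := hX (x * y)
  refine no_order_three (α := autQ (frattini P) (κ x)) (β := autQ (frattini P) (κ y)) hab0 hb0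
    (hV2 _) (hV2 _) hcab (by rw [eV, hκx]) (hx.trans hcab) hy (by rw [eV, hκy]) (k := k) ?_
  rw [← map_mul, ← map_mul, ← map_pow, ← map_pow, hk, map_one, map_one]

end Cfsg.Agent.Fus.Bicyclic
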