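import Cfsg.Agent.Lib.Fus.Bicyclic.Extension
import Cfsg.Agent.Lib.Fus.PSLTwo

/-!
The models: `SL₂` and `PSL₂` over the field with `5 ^ (2 ^ m)` elements, twisted by a diagonal
automorphism and a Frobenius power; so cyclic derived subgroup gives a non-inner system.
-/

set_option autoImplicit false
set_option linter.style.haveILetI false
set_option linter.unusedSectionVars false
set_option maxHeartbeats 1000000

open scoped commutatorElement MatrixGroups

namespace Cfsg.Agent.Fus.Bicyclic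

open Subgroup

universe u

/-! ### Arithmetic of `5` modulo powers of `2` -/

theorem five_pow_two (j : ℕ) : ∃ o : ℕ, Odd o ∧ 5 ^ 2 ^ j = 1 + 2 ^ (j + 2) * o := by
  induction j with
  | zero => exact ⟨1, odd_one, by norm_num⟩
  | succ j ih =>
    obtain ⟨o, ho, e⟩ := ih
    refine ⟨o + 2 ^ (j + 1) * o * o, ?_, ?_⟩
    · exact ho.add_even ⟨2 ^ j * o * o, by ring⟩
    · rw [pow_succ, pow_mul, e]; ring

theorem orderOf_five (m : ℕ) : orderOf (5 : ZMod (2 ^ (m + 2))) = 2 ^ m := by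
  haveI : Fact (Nat.Prime 2) := ⟨Nat.prime_two⟩
  have h : ∀ j o : ℕ, 5 ^ 2 ^ j = 1 + 2 ^ (j + 2) * o →
      ((5 : ZMod (2 ^ (m + 2))) ^ 2 ^ j = 1 ↔ 2 ^ (m + 2) ∣ 2 ^ (j + 2) * o) := by
    intro j o e
    have e' : ((5 : ZMod (2 ^ (m + 2))) ^ 2 ^ j) =
        1 + ((2 ^ (j + 2) * o : ℕ) : ZMod (2 ^ (m + 2))) := by
      rw [show (5 : ZMod (2 ^ (m + 2))) = ((5 : ℕ) : ZMod (2 ^ (m + 2))) from (Nat.cast_ofNat).symm,
        ← Nat.cast_pow, e, Nat.cast_add, Nat.cast_one]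
    rw [e', add_eq_left, ZMod.natCast_eq_zero_iff]
  obtain ⟨o, -, e⟩ := five_pow_two m
  have htop := (h m o e).2 (dvd_mul_right _ _)
  rcases m with _ | m
  · rw [pow_zero, pow_one] at htop
    rw [htop, orderOf_one, pow_zero]
  · refine orderOf_eq_prime_pow (fun hc => ?_) htop
    obtain ⟨o', ho', e'⟩ := five_pow_two m
    have hd := (h m o' e').1 hc
    rw [show m + 1 + 2 = (m + 2) + 1 by ring, pow_succ] at hd
    obtain ⟨t, ht⟩ := Nat.dvd_of_mul_dvd_mul_left (by positivity) hd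
    obtain ⟨s, hs⟩ := ho'
    omega

theorem exists_five_pow (m : ℕ) {v : ℤ} (hv : (4 : ℤ) ∣ v - 1) :
    ∃ k : ℕ, (2 : ℤ) ^ (m + 2) ∣ 5 ^ k - v := by
  induction m with
  | zero =>
    obtain ⟨t, ht⟩ := hv
    exact ⟨0, -t, by rw [pow_zero]; norm_num; linarith⟩
  | succ m ih =>
    obtain ⟨k, w, hw⟩ := ih
    rcases Int.even_or_odd w with ⟨w', rfl⟩ | ⟨w', rfl⟩
    · exact ⟨k, w', by rw [hw]; ring⟩
    · obtain ⟨o, ⟨o', ho⟩, e⟩ := five_pow_two m
      obtain ⟨f, hf⟩ : Odd ((5 : ℤ) ^ k) := Odd.pow (by decide)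
      refine ⟨k + 2 ^ m, w' + f * o + o' + 1, ?_⟩
      have e' : (5 : ℤ) ^ (2 ^ m) = 1 + 2 ^ (m + 2) * (o : ℤ) := by exact_mod_cast e
      have ho' : (o : ℤ) = 2 * (o' : ℤ) + 1 := by exact_mod_cast ho
      have hw' : v = 5 ^ k - 2 ^ (m + 2) * (2 * w' + 1) := by linarith
      rw [pow_add, e', hw', hf, ho']
      ring

section SL

variable {F : Type} [Field F] [Fintype F]

local notation "SL₂" => Matrix.SpecialLinearGroup (Fin 2) F

open PSLTwo

/-- The diagonal torus. -/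
def dia : Fˣ →* SL₂ where
  toFun t := mk2 (t : F) 0 0 ((t⁻¹ : Fˣ) : F) (by simp)
  map_one' := Subtype.ext (by simp [Matrix.one_fin_two])
  map_mul' s t := Subtype.ext (by
    ext i j
    fin_cases i <;> fin_cases j <;> simp [Matrix.mul_apply, Fin.sum_univ_two, mul_comm])

theorem coe_dia (t : Fˣ) :
    (dia t : Matrix (Fin 2) (Fin 2) F) = !![(t : F), 0; 0, ((t⁻¹ : Fˣ) : F)] := rfl

theorem dia_injective : Function.Injective (dia (F := F)) := fun s t h =>
  Units.ext (congrFun (congrFun (congrArg Subtype.val h) 0) 0)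

/-- The twist of a field automorphism by a diagonal element, as a homomorphism. -/
def twistHom (w : Fˣ) (ρ : F →+* F) : SL₂ →* SL₂ :=
  MonoidHom.mk' (fun g : SL₂ => mk2 (ρ (g.1 0 0)) ((w : F) * ρ (g.1 0 1))
    (((w⁻¹ : Fˣ) : F) * ρ (g.1 1 0)) (ρ (g.1 1 1)) (by
      have h : g.1 0 0 * g.1 1 1 - g.1 0 1 * g.1 1 0 = 1 := by rw [← Matrix.det_fin_two]; exact g.2
      have h' := congrArg ρ h
      rw [map_sub, map_mul, map_mul, map_one] at h'
      have hw : (w : F) * ((w⁻¹ : Fˣ) : F) = 1 := Units.mul_inv w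
      linear_combination h' - ρ (g.1 0 1) * ρ (g.1 1 0) * hw)) (by
    intro g h
    refine Subtype.ext ?_
    ext i j
    fin_cases i <;> fin_cases j <;>
      simp [Matrix.mul_apply, Fin.sum_univ_two, map_add, map_mul, mul_add] <;>
      field_simp)

theorem twistHom_injective (w : Fˣ) (ρ : F →+* F) : Function.Injective (twistHom w ρ) := by
  intro g h e
  have e' : ∀ M : SL₂, (twistHom w ρ M).1 = !![ρ (M.1 0 0), (w : F) * ρ (M.1 0 1);
      ((w⁻¹ : Fˣ) : F) * ρ (M.1 1 0), ρ (M.1 1 1)] := fun M => rfl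
  have e'' := congrArg Subtype.val e
  rw [e', e'] at e''
  refine Subtype.ext ?_
  have c00 := congrFun (congrFun e'' 0) 0
  have c01 := congrFun (congrFun e'' 0) 1
  have c10 := congrFun (congrFun e'' 1) 0
  have c11 := congrFun (congrFun e'' 1) 1
  simp at c00 c01 c10 c11
  ext i j
  fin_cases i <;> fin_cases j <;> refine ρ.injective ?_ <;> simp [c00, c01, c10, c11]

/-- The twist of a field automorphism by a diagonal element. -/
noncomputable def twist (w : Fˣ) (ρ : F →+* F) : MulAut SL₂ :=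
  MulEquiv.ofBijective (twistHom w ρ) (Finite.injective_iff_bijective.1 (twistHom_injective w ρ))

theorem coe_twist (w : Fˣ) (ρ : F →+* F) (g : SL₂) :
    (twist w ρ g : Matrix (Fin 2) (Fin 2) F) = !![ρ (g.1 0 0), (w : F) * ρ (g.1 0 1);
      ((w⁻¹ : Fˣ) : F) * ρ (g.1 1 0), ρ (g.1 1 1)] := rfl

/-- The Weyl element. -/
def wey : SL₂ := mk2 0 1 (-1) 0 (by ring)

theorem coe_wey : ((wey : SL₂) : Matrix (Fin 2) (Fin 2) F) = !![0, 1; -1, 0] := rfl

theorem wey_dia (t : Fˣ) : wey * dia t * wey⁻¹ = (dia t)⁻¹ := by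
  rw [mul_inv_eq_iff_eq_mul, ← map_inv]
  refine Subtype.ext ?_
  ext i j
  fin_cases i <;> fin_cases j <;>
    simp [coe_wey, coe_dia, Matrix.mul_apply, Fin.sum_univ_two]

variable [CharP F 5] (m : ℕ) (hF : Fintype.card F = 5 ^ 2 ^ m) {η : Fˣ}
  (hη : orderOf η = 2 ^ (m + 2))

include hη in
theorem eta_half : ((η ^ (2 ^ (m + 1)) : Fˣ) : F) = -1 := by
  have h2 : ((η ^ (2 ^ (m + 1)) : Fˣ) : F) ^ 2 = 1 := by
    rw [← Units.val_pow_eq_pow_val, ← pow_mul, ← pow_succ, ← hη, pow_orderOf_eq_one, Units.val_one]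
  rcases sq_eq_one_iff.1 h2 with h | h
  · exfalso
    have := orderOf_dvd_of_pow_eq_one (Units.ext h : η ^ (2 ^ (m + 1)) = 1)
    rw [hη, Nat.pow_dvd_pow_iff_le_right (le_refl 2)] at this
    omega
  · exact h

include hη in
theorem wey_sq : wey * wey = dia (η ^ (2 ^ (m + 1))) := by
  refine Subtype.ext ?_
  have h := eta_half m hη
  have h' : (((η ^ (2 ^ (m + 1)))⁻¹ : Fˣ) : F) = -1 := by
    rw [Units.val_inv_eq_inv_val, h, inv_neg, inv_one]
  rw [coe_dia, h, h', Matrix.SpecialLinearGroup.coe_mul, coe_wey]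
  ext i j
  fin_cases i <;> fin_cases j <;> simp [Matrix.mul_apply, Fin.sum_univ_two]

include hη in
theorem exists_fused : ∃ g : SL₂, g * dia (η ^ (2 ^ m)) * g⁻¹ = wey := by
  have hh := eta_half m hη
  obtain ⟨i₀, hi₀⟩ : ∃ i₀ : F, i₀ = ((η ^ (2 ^ m) : Fˣ) : F) := ⟨_, rfl⟩
  have hsq : i₀ * i₀ = -1 := by
    rw [hi₀, ← Units.val_mul, ← pow_add, show 2 ^ m + 2 ^ m = 2 ^ (m + 1) by ring]
    exact hh
  have hinv : (((η ^ (2 ^ m))⁻¹ : Fˣ) : F) = -i₀ := by
    rw [Units.val_inv_eq_inv_val, ← hi₀]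
    exact inv_eq_of_mul_eq_one_right (by rw [mul_neg, hsq, neg_neg])
  have h2 : (2 : F) ≠ 0 := by
    intro h
    have := (CharP.cast_eq_zero_iff F 5 2).1 (by exact_mod_cast h)
    omega
  have hi0 : i₀ ≠ 0 := fun h => by rw [h, mul_zero] at hsq; exact one_ne_zero (neg_eq_zero.1 hsq.symm)
  obtain ⟨s, hs⟩ : ∃ s : F, -2 * i₀ * s = 1 :=
    ⟨(-2 * i₀)⁻¹, mul_inv_cancel₀ (mul_ne_zero (neg_ne_zero.2 h2) hi0)⟩
  refine ⟨mk2 s 1 (s * i₀) (-i₀) (by linear_combination hs), ?_⟩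
  rw [mul_inv_eq_iff_eq_mul]
  refine Subtype.ext ?_
  rw [Matrix.SpecialLinearGroup.coe_mul, Matrix.SpecialLinearGroup.coe_mul, coe_dia, coe_wey,
    coe_mk2, hinv, ← hi₀]
  ext i j
  fin_cases i <;> fin_cases j <;> simp [Matrix.mul_apply, Fin.sum_univ_two]
  · linear_combination s * hsq
  · linear_combination hsq

include hF hη in
theorem exists_aut {v i : ℤ} {r : ℕ} (hv : (4 : ℤ) ∣ v - 1)
    (hW : (2 : ℤ) ^ (m + 2) ∣ gsum v (2 ^ r) - 2 * i)
    (hvM : (2 : ℤ) ^ (m + 2) ∣ v ^ (2 ^ r) - 1) :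
    ∃ Θ : MulAut SL₂, Θ (dia η) = dia η ^ v ∧ Θ wey = dia η * wey ∧
      Θ ^ (2 ^ r) = MulAut.conj (dia η ^ i) := by
  haveI : Fact (Nat.Prime 5) := ⟨by norm_num⟩
  obtain ⟨k, hk⟩ := exists_five_pow m hv
  let ρ : F →+* F := iterateFrobenius F 5 k
  have hρ : ∀ x : F, ρ x = x ^ 5 ^ k := fun x => iterateFrobenius_def 5 k x
  have hηv : ∀ x : ℤ, (η ^ x) ^ (5 ^ k) = η ^ (v * x) := fun x => by
    rw [← zpow_natCast, ← zpow_mul]
    refine zpow_eq_zpow_iff_modEq.2 ?_
    rw [hη, Int.modEq_iff_dvd]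
    obtain ⟨w, hw⟩ := hk
    refine ⟨-w * x, ?_⟩
    push_cast
    linear_combination (-x) * hw
  have hval : ∀ x : ℤ, ρ ((η ^ x : Fˣ) : F) = ((η ^ (v * x) : Fˣ) : F) := fun x => by
    rw [hρ, ← Units.val_pow_eq_pow_val, hηv]
  refine ⟨twist η ρ, ?_, ?_, ?_⟩
  · rw [← map_zpow]
    refine Subtype.ext ?_
    rw [coe_twist, coe_dia, coe_dia]
    have h1 := hval 1
    have h2 := hval (-1)
    rw [zpow_one, mul_one] at h1
    rw [zpow_neg_one, mul_neg_one, zpow_neg] at h2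
    ext a b
    fin_cases a <;> fin_cases b <;> simp only [Matrix.of_apply, Matrix.cons_val', Matrix.cons_val_zero,
      Matrix.cons_val_one, Matrix.cons_val_fin_one, Fin.zero_eta, Fin.mk_one, map_zero, mul_zero]
    · exact h1
    · exact h2
  · refine Subtype.ext ?_
    rw [coe_twist, Matrix.SpecialLinearGroup.coe_mul, coe_wey, coe_dia]
    ext a b
    fin_cases a <;> fin_cases b <;> simp [Matrix.mul_apply, Fin.sum_univ_two]
  · have form : ∀ (l : ℕ) (g : SL₂), (((twist η ρ) ^ l) g : Matrix (Fin 2) (Fin 2) F) =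
        !![(g.1 0 0) ^ 5 ^ (k * l), ((η ^ gsum v l : Fˣ) : F) * (g.1 0 1) ^ 5 ^ (k * l);
          ((η ^ (-gsum v l) : Fˣ) : F) * (g.1 1 0) ^ 5 ^ (k * l), (g.1 1 1) ^ 5 ^ (k * l)] := by
      intro l
      induction l with
      | zero =>
        intro g
        rw [pow_zero]
        ext a b
        fin_cases a <;> fin_cases b <;> simp [gsum]
      | succ l ih =>
        intro g
        rw [pow_succ', MulAut.mul_apply, coe_twist, ih g]
        have e : 5 ^ (k * (l + 1)) = 5 ^ (k * l) * 5 ^ k := by rw [← pow_add, Nat.mul_succ]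
        ext a b
        fin_cases a <;> fin_cases b <;>
          simp only [Matrix.of_apply, Matrix.cons_val', Matrix.cons_val_zero, Matrix.cons_val_one,
            Matrix.cons_val_fin_one, Fin.zero_eta, Fin.mk_one, map_mul, hval, gsum]
        · rw [hρ, ← pow_mul, ← e]
        · rw [hρ (_ ^ _), ← pow_mul, ← e, ← mul_assoc, ← Units.val_mul]
          congr 2
          rw [← zpow_one_add]
        · rw [hρ (_ ^ _), ← pow_mul, ← e, ← mul_assoc, ← Units.val_mul]
          congr 2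
          rw [← zpow_neg_one, ← zpow_add]
          congr 1
          ring
        · rw [hρ, ← pow_mul, ← e]
    have hid : ∀ x : F, x ^ 5 ^ (k * 2 ^ r) = x := by
      have hd : 2 ^ m ∣ k * 2 ^ r := by
        rw [← orderOf_five m, orderOf_dvd_iff_pow_eq_one]
        have h1 : ((5 : ℤ) ^ k : ℤ) ≡ v [ZMOD (2 : ℤ) ^ (m + 2)] :=
          (Int.modEq_iff_dvd.2 (dvd_sub_comm.1 hk))
        have h2 : ((5 : ℤ) ^ (k * 2 ^ r) : ℤ) ≡ 1 [ZMOD (2 : ℤ) ^ (m + 2)] := by
          rw [pow_mul]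
          exact (h1.pow _).trans (Int.modEq_iff_dvd.2 (dvd_sub_comm.1 hvM))
        have h2' : ((5 : ℤ) ^ (k * 2 ^ r)) ≡ 1 [ZMOD ((2 ^ (m + 2) : ℕ) : ℤ)] := by
          push_cast; exact h2
        have h3 := (ZMod.intCast_eq_intCast_iff _ _ _).2 h2'
        exact_mod_cast h3
      obtain ⟨t, ht⟩ := hd
      intro x
      rw [ht, pow_mul, ← hF, FiniteField.pow_card_pow]
    refine MulEquiv.ext fun g => Subtype.ext ?_
    rw [form, MulAut.conj_apply, ← map_zpow, ← map_inv, Matrix.SpecialLinearGroup.coe_mul,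
      Matrix.SpecialLinearGroup.coe_mul, coe_dia, coe_dia, inv_inv]
    have hW' : η ^ gsum v (2 ^ r) = η ^ i * η ^ i := by
      rw [← zpow_add]
      refine zpow_eq_zpow_iff_modEq.2 ?_
      rw [hη, Int.modEq_iff_dvd]
      push_cast
      rw [dvd_sub_comm, ← two_mul]
      exact hW
    ext a b
    fin_cases a <;> fin_cases b <;>
      simp [Matrix.mul_apply, Matrix.vecMul, dotProduct, Fin.sum_univ_two, hid, hW', zpow_neg] <;>
      field_simp

include hF in
theorem card_not_dvd : ¬ 2 ^ (m + 4) ∣ Nat.card SL₂ := by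
  rw [PSLTwo.natCard_SL_two, hF]
  obtain ⟨o, ⟨o', ho⟩, e⟩ := five_pow_two m
  rw [e, Nat.add_sub_cancel_left, show 1 + 2 ^ (m + 2) * o + 1 = 2 * (1 + 2 ^ (m + 1) * o) by ring,
    show (1 + 2 ^ (m + 2) * o) * (2 ^ (m + 2) * o * (2 * (1 + 2 ^ (m + 1) * o))) =
      2 ^ (m + 3) * ((1 + 2 ^ (m + 2) * o) * o * (1 + 2 ^ (m + 1) * o)) by ring]
  intro h
  rw [show m + 4 = (m + 3) + 1 by ring, pow_succ] at h
  have h2 := Nat.dvd_of_mul_dvd_mul_left (by positivity) h
  have h1 : ¬ 2 ∣ (1 + 2 ^ (m + 2) * o) * o * (1 + 2 ^ (m + 1) * o) := by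
    rw [← even_iff_two_dvd, Nat.not_even_iff_odd]
    refine ((Odd.add_even odd_one ?_).mul ⟨o', ho⟩).mul (Odd.add_even odd_one ?_)
    · exact ⟨2 ^ (m + 1) * o, by ring⟩
    · exact ⟨2 ^ m * o, by ring⟩
  exact h1 h2

include hη in
theorem not_central (x : ℤ) (hx : dia η ^ x ∈ center SL₂) : η ^ (x + x) = 1 := by
  have h := (mem_center_iff.1 hx (mk2 1 1 0 1 (by ring)))
  rw [← map_zpow] at h
  have h01 := congrFun (congrFun (congrArg Subtype.val h) 0) 1
  simp only [Matrix.SpecialLinearGroup.coe_mul, coe_dia, coe_mk2] at h01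
  simp [Matrix.mul_apply, Fin.sum_univ_two] at h01
  rw [zpow_add]
  exact mul_eq_one_iff_eq_inv.2 (Units.ext (by simpa using h01.symm))

end SL

/-- A field with `5 ^ 2 ^ m` elements and a unit of order `2 ^ (m + 2)`. -/
theorem exists_field (m : ℕ) : ∃ (F : Type) (_ : Field F) (_ : Fintype F) (_ : CharP F 5) (η : Fˣ),
    Fintype.card F = 5 ^ 2 ^ m ∧ orderOf η = 2 ^ (m + 2) := by
  haveI : Fact (Nat.Prime 5) := ⟨by norm_num⟩
  let F := GaloisField 5 (2 ^ m)
  haveI : Fintype F := Fintype.ofFinite F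
  have hcard : Fintype.card F = 5 ^ 2 ^ m := by
    rw [← Nat.card_eq_fintype_card]; exact GaloisField.card 5 _ (by positivity)
  obtain ⟨g, hg⟩ := IsCyclic.exists_ofOrder_eq_natCard (α := Fˣ)
  obtain ⟨o, -, e⟩ := five_pow_two m
  refine ⟨F, inferInstance, inferInstance, inferInstance, g ^ o, hcard, ?_⟩
  have hc : orderOf g = 2 ^ (m + 2) * o := by
    rw [hg, Nat.card_units, Nat.card_eq_fintype_card, hcard, e, Nat.add_sub_cancel_left]
  have ho : o ≠ 0 := by
    rintro rfl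
    rw [mul_zero, orderOf_eq_zero_iff'] at hc
    exact hc _ Nat.card_pos (pow_card_eq_one' (x := g))
  rw [orderOf_pow' g ho, hc, Nat.gcd_mul_left_left, Nat.mul_div_cancel _ (by omega)]

/-- Cyclic derived subgroup gives a saturated system which is not inner. -/
theorem exists_noninner {Ω : Type*} [Group Ω] {S : Subgroup Ω} [Finite S] (hS : IsPGroup 2 S)
    {x y : ↥S} (h : IsBic x y) (hm : ¬ IsMetacyclic ↥S) (hcyc : IsCyclic ↥(commutator ↥S)) :
    ∃ F : FusionSystem S, F.IsSaturated 2 ∧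
      ¬ ∀ P : Subgroup Ω, F.Hom P = (innerFusionSystem S).Hom P := by
  haveI : Fact (Nat.Prime 2) := ⟨Nat.prime_two⟩
  obtain ⟨e, he⟩ := exists_good_ext hS h hm hcyc
  have hvM : ∀ N : ℕ, N ≤ e.n + 1 → (2 : ℤ) ^ N ∣ gsum e.v (2 ^ e.r) - 2 * e.i →
      (2 : ℤ) ^ N ∣ e.v ^ (2 ^ e.r) - 1 := by
    intro N hN hd
    rw [← gsum_mul_sub, show gsum e.v (2 ^ e.r) * (e.v - 1) =
      (gsum e.v (2 ^ e.r) - 2 * e.i) * (e.v - 1) + 2 * (e.i * (e.v - 1)) by ring]
    refine dvd_add (hd.mul_right _) ((pow_dvd_pow 2 hN).trans ?_)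
    rw [pow_succ']
    exact mul_dvd_mul_left 2 e.dvd_i
  rcases he with ⟨hn, hb⟩ | ⟨hb, hgood⟩
  · obtain ⟨m, hm⟩ : ∃ m, e.n = m + 2 := ⟨e.n - 2, by omega⟩
    obtain ⟨F, _, _, _, η, hF, hη⟩ := exists_field m
    have hW := hm ▸ e.dvd_gsum
    obtain ⟨Θ, h1, h2, h3⟩ := exists_aut m hF hη e.four_dvd hW (hvM _ (by omega) hW)
    obtain ⟨g, hg⟩ := exists_fused m hη
    refine exists_system (H := Matrix.SpecialLinearGroup (Fin 2) F) hS
      { C := dia η, B := wey, Θ := Θ, ε := ((2 ^ (m + 1) : ℕ) : ℤ), sq_b := ?_, sq_B := ?_,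
        order_C := ?_, not_mem := ?_, conj_BC := wey_dia η, aut_C := h1, aut_B := h2, aut_pow := h3,
        card := ?_, g := g, k := ((2 ^ m : ℕ) : ℤ), fused := ?_ }
    · rw [← pow_two, hb, zpow_natCast, hm, show m + 2 - 1 = m + 1 by omega]
    · rw [wey_sq m hη, zpow_natCast, map_pow]
    · rw [orderOf_injective _ dia_injective, hη, hm]
    · rintro ⟨l, hl⟩
      have := congrFun (congrFun (congrArg Subtype.val hl) 0) 0
      simp only at this
      rw [← map_zpow] at this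
      simp only [coe_dia, coe_wey, Matrix.of_apply, Matrix.cons_val', Matrix.cons_val_zero,
        Matrix.cons_val_fin_one] at this
      exact (η ^ l).ne_zero this
    · rw [hm]; exact card_not_dvd m hF
    · rw [zpow_natCast, ← map_pow]; exact hg
  · obtain ⟨m, hm⟩ : ∃ m, e.n = m + 1 := ⟨e.n - 1, by have := e.one_le_n; omega⟩
    obtain ⟨F, _, _, _, η, hF, hη⟩ := exists_field m
    have hW : (2 : ℤ) ^ (m + 2) ∣ gsum e.v (2 ^ e.r) - 2 * e.i := by rw [hm] at hgood; exact hgood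
    obtain ⟨Θ, h1, h2, h3⟩ := exists_aut m hF hη e.four_dvd hW (hvM _ (by omega) hW)
    set G := Matrix.SpecialLinearGroup (Fin 2) F
    obtain ⟨g, hg⟩ : ∃ g : G, g * dia (η ^ (2 ^ m)) * g⁻¹ = wey := exists_fused m hη
    let π : G →* G ⧸ center G := QuotientGroup.mk' (center G)
    have hhalf : dia (η ^ (2 ^ (m + 1))) ∈ center G := by
      refine mem_center_iff.2 fun u => Subtype.ext ?_
      have h' : (((η ^ (2 ^ (m + 1)))⁻¹ : Fˣ) : F) = -1 := by
        rw [Units.val_inv_eq_inv_val, eta_half m hη, inv_neg, inv_one]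
      rw [Matrix.SpecialLinearGroup.coe_mul, Matrix.SpecialLinearGroup.coe_mul, coe_dia,
        eta_half m hη, h']
      ext a b
      fin_cases a <;> fin_cases b <;> simp [Matrix.mul_apply, Fin.sum_univ_two]
    refine exists_system (H := G ⧸ center G) (e := e) hS
      { C := π (dia η), B := π wey, Θ := autQ (center G) Θ, ε := 0, sq_b := ?_, sq_B := ?_,
        order_C := ?_, not_mem := ?_, conj_BC := ?_, aut_C := ?_, aut_B := ?_, aut_pow := ?_,
        card := ?_, g := π g, k := ((2 ^ m : ℕ) : ℤ), fused := ?_ }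
    · rw [← pow_two, hb, zpow_zero]
    · rw [← map_mul, wey_sq m hη, zpow_zero]
      exact (QuotientGroup.eq_one_iff _).2 hhalf
    · rw [hm]
      refine orderOf_eq_prime_pow (fun hc => ?_) ?_
      · rw [← map_pow] at hc
        have := not_central m hη ((2 ^ m : ℕ) : ℤ)
          (by rw [zpow_natCast]; exact (QuotientGroup.eq_one_iff _).1 hc)
        rw [← orderOf_dvd_iff_zpow_eq_one, hη, ← Nat.cast_add, Int.natCast_dvd_natCast,
          show 2 ^ m + 2 ^ m = 2 ^ (m + 1) by ring, Nat.pow_dvd_pow_iff_le_right (le_refl 2)] at this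
        omega
      · rw [← map_pow, ← map_pow]
        exact (QuotientGroup.eq_one_iff _).2 hhalf
    · rintro ⟨l, hl⟩
      have hz : (dia η ^ l)⁻¹ * wey ∈ center G := by
        refine QuotientGroup.eq.1 ?_
        rw [QuotientGroup.mk_zpow]; exact hl
      have hc := mem_center_iff.1 hz (dia η)
      have h1' : dia η * wey = wey * dia η := by
        calc dia η * wey = dia η ^ l * (dia η * ((dia η ^ l)⁻¹ * wey)) := by group
          _ = dia η ^ l * (((dia η ^ l)⁻¹ * wey) * dia η) := by rw [hc]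
          _ = _ := by group
      have h2' := wey_dia η
      rw [← h1', mul_inv_cancel_right, ← map_inv] at h2'
      have h3' : η * η = 1 := mul_eq_one_iff_eq_inv.2 (dia_injective h2')
      rw [← pow_two] at h3'
      have := orderOf_dvd_of_pow_eq_one h3'
      rw [hη, show (2 : ℕ) = 2 ^ 1 from rfl, ← pow_mul, Nat.pow_dvd_pow_iff_le_right (le_refl 2)]
        at this
      omega
    · rw [← map_inv, ← map_mul, ← map_mul, wey_dia, map_inv]
    · rw [← map_zpow, ← h1]; rfl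
    · rw [← map_mul, ← h2]; rfl
    · rw [← map_pow, h3]
      refine MulEquiv.ext fun u => QuotientGroup.induction_on u fun w => ?_
      rw [autQ_mk, MulAut.conj_apply, MulAut.conj_apply, QuotientGroup.mk_mul, QuotientGroup.mk_mul,
        QuotientGroup.mk_inv, QuotientGroup.mk_zpow]
      rfl
    · intro hd
      refine card_not_dvd m hF (F := F) ?_
      have hlag := card_eq_card_quotient_mul_card_subgroup (center G)
      have h2c : 2 ∣ Nat.card (center G) := by
        have hord : orderOf (⟨_, hhalf⟩ : center G) = 2 := by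
          rw [← orderOf_coe, orderOf_injective _ dia_injective, orderOf_pow, hη,
            Nat.gcd_eq_right (pow_dvd_pow 2 (by omega)), Nat.pow_div (by omega) two_pos,
            show m + 2 - (m + 1) = 1 by omega, pow_one]
        have h2d := orderOf_dvd_natCard (⟨_, hhalf⟩ : center G)
        rwa [hord] at h2d
      rw [hlag, show m + 4 = (e.n + 2) + 1 by omega, pow_succ]
      exact Nat.mul_dvd_mul hd h2c
    · rw [zpow_natCast, ← map_pow, ← map_pow, ← map_inv, ← map_mul, ← map_mul, hg]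

end Cfsg.Agent.Fus.Bicyclic
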