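import Cfsg.Agent.Lib.Fus.Bicyclic.Frattini

/-!
A bicyclic non-metacyclic `2`-group: its automorphism group is a `2`-group and it has generators
`a`, `b` with `b ^ 2 ∈ rSub`.
-/

set_option autoImplicit false
set_option linter.style.haveILetI false
set_option linter.unusedSectionVars false

open scoped commutatorElement

namespace Cfsg.Agent.Fus.Bicyclic

open Subgroup

universe u

variable {X : Type u} [Group X] [Finite X]

theorem Pair.commute_zpow_four {a b : X} (h : Pair a b) (i : ℤ) (g : X) :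
    Commute (a ^ (4 * i)) g := by
  rw [show (4 : ℤ) * i = 2 * (2 * i) by ring, zpow_mul, show a ^ (2 : ℤ) = a ^ (2 : ℕ) from
    zpow_natCast a 2]
  exact (h.commute_sq_left g).zpow_left _

theorem four_form_mul {a b : X} (h : Pair a b)
    (h4 : ∀ g : X, ∃ i j : ℤ, g ^ 4 = a ^ (4 * i) * b ^ (4 * j)) :
    ∀ g : X, ∃ i j : ℤ, g ^ 4 = (a * b) ^ (4 * i) * b ^ (4 * j) := fun g => by
  obtain ⟨i, j, e⟩ := h4 g
  refine ⟨i, j - i, ?_⟩
  have e4 : (a * b) ^ (4 : ℤ) = a ^ (4 : ℤ) * b ^ (4 : ℤ) := by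
    rw [show (4 : ℤ) = ((2 * 2 : ℕ) : ℤ) from rfl, zpow_natCast, zpow_natCast, zpow_natCast,
      pow_mul, pow_mul, pow_mul, h.mul_sq,
      ((show Commute ⁅a, b⁆ _ from h.central _).symm).mul_pow,
      (h.commute_sq_left _).mul_pow, h.sq, mul_one]
  have hc : Commute (a ^ (4 : ℤ)) (b ^ (4 : ℤ)) := by
    have := h.commute_zpow_four 1 (b ^ (4 : ℤ))
    simpa using this
  rw [e, zpow_mul (a * b), e4, hc.mul_zpow, ← zpow_mul, ← zpow_mul, mul_assoc, ← zpow_add]
  congr 2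
  ring

theorem pair_mul {a b : X} (h : Pair a b) : Pair (a * b) b ∧ ⁅a * b, b⁆ = ⁅a, b⁆ := by
  have e : ⁅a * b, b⁆ = ⁅a, b⁆ := by simp only [commutatorElement_def]; group
  refine ⟨⟨?_, fun g => by rw [e]; exact h.central g, by rw [e]; exact h.sq⟩, e⟩
  rw [eq_top_iff, ← h.gen, closure_le]
  rintro u (hu | hu) <;> rw [hu]
  · rw [SetLike.mem_coe, ← mul_inv_cancel_right a b]
    exact mul_mem (subset_closure (by simp)) (inv_mem (subset_closure (by simp)))
  · exact subset_closure (by simp)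

/-- The fourth powers in `X ⧸ rSub X` form the image of `ySub X`. -/
theorem ySub_quot (x y : X) (h : IsBic x y) {q : X ⧸ rSub X} (hq : q ∈ ySub (X ⧸ rSub X)) :
    ∃ g : X ⧸ rSub X, q = g ^ 4 := by
  let f := QuotientGroup.mk' (rSub X)
  have hp : Pair (f x) (f y) := pair_mk h.closure_eq_top _ le_rfl
  have hb := h.map f (QuotientGroup.mk'_surjective _)
  have hR : rSub (X ⧸ rSub X) = ⊥ := by
    rw [← map_rSub f (QuotientGroup.mk'_surjective _), Subgroup.map_eq_bot_iff,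
      QuotientGroup.ker_mk']
  rw [ySub, hR, bot_sup_eq] at hq
  have hval : ∀ i j : ℤ, (f x ^ i * f y ^ j) ^ 4 = f x ^ (4 * i) * f y ^ (4 * j) := fun i j => by
    have hc : Commute (f x ^ (2 * i) * f y ^ (2 * j)) (⁅f x, f y⁆ ^ (i * j)) :=
      ((show Commute _ _ from hp.central _).zpow_left _).symm
    have hab : Commute (f x ^ (2 * i)) (f y ^ (2 * j)) := by
      rw [zpow_mul, show f x ^ (2 : ℤ) = f x ^ (2 : ℕ) from zpow_natCast _ 2]
      exact (hp.commute_sq_left _).zpow_left _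
    have e : ∀ (v : X ⧸ rSub X) (k : ℤ), (v ^ k) ^ 2 = v ^ (2 * k) := fun v k => by
      rw [pow_two, ← zpow_add, two_mul]
    rw [show (4 : ℕ) = 2 * 2 from rfl, pow_mul, hp.mul_zpow_sq, hc.mul_pow, hab.mul_pow, e, e, e,
      zpow_mul ⁅f x, f y⁆, show ⁅f x, f y⁆ ^ (2 : ℤ) = ⁅f x, f y⁆ ^ (2 : ℕ) from zpow_natCast _ 2,
      hp.sq, one_zpow, mul_one, show 2 * (2 * i) = 4 * i by ring, show 2 * (2 * j) = 4 * j by ring]
  induction hq using closure_induction with
  | mem v hv => obtain ⟨g, rfl⟩ := hv; exact ⟨g, rfl⟩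
  | one => exact ⟨1, by rw [one_pow]⟩
  | mul v v' _ _ h1 h2 =>
    obtain ⟨g, rfl⟩ := h1
    obtain ⟨g', rfl⟩ := h2
    obtain ⟨i, j, e⟩ := hp.pow_four_form hb g
    obtain ⟨i', j', e'⟩ := hp.pow_four_form hb g'
    refine ⟨f x ^ (i + i') * f y ^ (j + j'), ?_⟩
    rw [hval, e, e', mul_assoc, ← mul_assoc (f y ^ (4 * j)), (hp.commute_zpow_four i' _).symm.eq,
      mul_assoc (f x ^ (4 * i')), ← mul_assoc, ← zpow_add, ← zpow_add, mul_add, mul_add]
  | inv v _ h1 => obtain ⟨g, rfl⟩ := h1; exact ⟨g⁻¹, by rw [inv_pow]⟩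

/-- The facts about squares in the quotient by `ySub`. -/
theorem IsBic.sq_facts (hX : IsPGroup 2 X) {x y : X} (h : IsBic x y) (hm : ¬ IsMetacyclic X)
    {a b : X ⧸ ySub X} (ha : a = x) (hb : b = y) :
    Pair a b ∧ ⁅a, b⁆ ≠ 1 ∧
      a ^ 2 ≠ b ^ 2 ∧ a ^ 2 ≠ (a * b) ^ 2 ∧ b ^ 2 ≠ (a * b) ^ 2 ∧
      (a ^ 2 ≠ ⁅a, b⁆ ∧ b ^ 2 ≠ ⁅a, b⁆ ∧ (a * b) ^ 2 ≠ ⁅a, b⁆) ∧
      (a ^ 2 = 1 ∨ b ^ 2 = 1 ∨ (a * b) ^ 2 = 1) ∧
      (∀ φ ∈ frattini (X ⧸ ySub X), φ = 1 ∨ φ = ⁅a, b⁆ ∨ φ = a ^ 2 ∨ φ = b ^ 2 ∨ φ = (a * b) ^ 2) := by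
  classical
  haveI : Fact (Nat.Prime 2) := ⟨Nat.prime_two⟩
  subst ha hb
  set Q := X ⧸ ySub X
  set a : Q := (x : Q) with ha
  set b : Q := (y : Q) with hb
  have hp : Pair a b := pair_mk h.closure_eq_top _ rSub_le_ySub
  have hbic : IsBic a b := h.map (QuotientGroup.mk' (ySub X)) (QuotientGroup.mk'_surjective _)
  let f := QuotientGroup.mk' (rSub X)
  have hpR : Pair (f x) (f y) := pair_mk h.closure_eq_top _ le_rfl
  have hbR := h.map f (QuotientGroup.mk'_surjective _)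
  -- a commutator congruent to a power of a square gives a metacyclic group
  have hno : ∀ (u v : X) (s : ℤ), Pair (f u) (f v) →
      (∀ g : X ⧸ rSub X, ∃ i j : ℤ, g ^ 4 = f u ^ (4 * i) * f v ^ (4 * j)) →
      ⁅(u : Q), (v : Q)⁆ ≠ (u : Q) ^ (2 * s) := by
    intro u v s hp' h4 e
    have hmem : (u ^ (2 * s))⁻¹ * ⁅u, v⁆ ∈ ySub X := by
      refine QuotientGroup.eq.1 ?_
      rw [QuotientGroup.mk_zpow, ← e]
      exact (map_commutatorElement (QuotientGroup.mk' (ySub X)) u v).symm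
    have := mem_map_of_mem f hmem
    rw [map_ySub f (QuotientGroup.mk'_surjective _)] at this
    obtain ⟨g, hg⟩ := ySub_quot x y h this
    refine hm (metacyclic_of_quotient _ rfl hX ?_)
    refine hp'.metacyclic_of_sq (hX.to_quotient _) h4 (s := s) (g := g) ?_
    rw [← hg, map_mul, map_inv, map_zpow, mul_inv_cancel_left, map_commutatorElement]
  have hc1 : ⁅a, b⁆ ≠ 1 := by
    have := hno x y 0 hpR (hpR.pow_four_form hbR)
    simpa using this
  have hA : a ^ 2 ≠ ⁅a, b⁆ := fun e => hno x y 1 hpR (hpR.pow_four_form hbR) (by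
    rw [mul_one, show (x : Q) ^ (2 : ℤ) = (x : Q) ^ (2 : ℕ) from zpow_natCast _ 2]
    exact e.symm)
  have hcinv : ⁅a, b⁆⁻¹ = ⁅a, b⁆ :=
    inv_eq_of_mul_eq_one_right ((pow_two _).symm.trans hp.sq)
  have hB : b ^ 2 ≠ ⁅a, b⁆ := fun e => hno y x 1 hpR.symm (fun g => by
      obtain ⟨i, j, e'⟩ := hpR.pow_four_form hbR g
      exact ⟨j, i, by rw [e', (hpR.commute_zpow_four i _).eq]⟩) (by
    rw [mul_one, show (y : Q) ^ (2 : ℤ) = (y : Q) ^ (2 : ℕ) from zpow_natCast _ 2]
    rw [← commutatorElement_inv, ← ha, ← hb, hcinv]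
    exact e.symm)
  have hC : (a * b) ^ 2 ≠ ⁅a, b⁆ := fun e => by
    have e1 : f (x * y) = f x * f y := map_mul f x y
    refine hno (x * y) y 1 (e1 ▸ (pair_mul hpR).1) (e1 ▸ four_form_mul hpR (hpR.pow_four_form hbR)) ?_
    rw [mul_one, show ((x * y : X) : Q) ^ (2 : ℤ) = ((x * y : X) : Q) ^ (2 : ℕ) from zpow_natCast _ 2,
      QuotientGroup.mk_mul, ← ha, ← hb, (pair_mul hp).2]
    exact e.symm
  have h4 : ∀ q : Q, q ^ 4 = 1 := fun q => QuotientGroup.induction_on q fun g =>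
    (QuotientGroup.eq_one_iff _).2 (pow_four_mem g)
  have hsq2 : ∀ q : Q, (q ^ 2) * (q ^ 2) = 1 := fun q => by rw [← pow_add]; exact h4 q
  have hAB : a ^ 2 ≠ b ^ 2 := fun e => hC (by rw [hp.mul_sq, ← e, hsq2, one_mul])
  have hAC : a ^ 2 ≠ (a * b) ^ 2 := fun e => hB (by
    rw [hp.mul_sq, mul_assoc] at e
    have e' := mul_eq_left.1 e.symm
    rw [← hcinv]
    exact eq_inv_of_mul_eq_one_left e')
  have hBC : b ^ 2 ≠ (a * b) ^ 2 := fun e => hA (by
    rw [hp.mul_sq, (hp.commute_sq_left _).eq, mul_assoc] at e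
    have e' := mul_eq_left.1 e.symm
    rw [← hcinv]
    exact eq_inv_of_mul_eq_one_left e')
  have hQ : IsPGroup 2 Q := hX.to_quotient _
  have hnc : ¬ IsCyclic Q := fun hcy => hc1
    (commutatorElement_eq_one_iff_commute.2 (by
      letI := IsCyclic.commGroup (α := Q)
      exact mul_comm a b))
  obtain ⟨hidx, -⟩ := hbic.frattini_index hQ hnc
  -- the Frattini subgroup has order at most four
  have hcardQ : Nat.card Q ≤ 16 := by
    let F : Fin 4 × Fin 4 → Q := fun t => a ^ (t.1 : ℕ) * b ^ (t.2 : ℕ)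
    have hF : Function.Surjective F := fun q => by
      obtain ⟨i, j, rfl⟩ := hbic q
      refine ⟨⟨⟨(i % 4).toNat, by omega⟩, ⟨(j % 4).toNat, by omega⟩⟩, ?_⟩
      have hred : ∀ (u : Q) (k : ℤ), u ^ (k % 4).toNat = u ^ k := fun u k => by
        conv_rhs => rw [← Int.emod_add_mul_ediv k 4, zpow_add, zpow_mul,
          show u ^ (4 : ℤ) = u ^ (4 : ℕ) from zpow_natCast u 4, h4, one_zpow, mul_one]
        rw [← zpow_natCast, Int.toNat_of_nonneg (Int.emod_nonneg k (by norm_num))]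
      show _ * _ = _
      rw [hred, hred]
    refine (Nat.card_le_card_of_surjective F hF).trans ?_
    rw [Nat.card_prod, Nat.card_fin]
  have hcardΦ : Nat.card (frattini Q) ≤ 4 := by
    have := (frattini Q).index_mul_card
    rw [hidx] at this
    omega
  have hcom : ⁅a, b⁆ ∈ frattini Q := Grp.pGroup_commutator_le_frattini hQ
    (commutator_mem_commutator_top a b)
  let Z : Finset Q := {⁅a, b⁆, a ^ 2, b ^ 2, (a * b) ^ 2}
  have hZcard : Z.card = 4 := by
    rw [Finset.card_eq_four]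
    exact ⟨_, _, _, _, hA.symm, hB.symm, hC.symm, hAB, hAC, hBC, rfl⟩
  haveI : Fintype Q := Fintype.ofFinite _
  have hZeq : Z = Finset.univ.filter (fun q => q ∈ frattini Q) := by
    refine Finset.eq_of_subset_of_card_le (fun q hq => ?_) ?_
    · refine Finset.mem_filter.2 ⟨Finset.mem_univ _, ?_⟩
      simp only [Z, Finset.mem_insert, Finset.mem_singleton] at hq
      rcases hq with rfl | rfl | rfl | rfl
      exacts [hcom, Grp.pGroup_pow_mem_frattini hQ a, Grp.pGroup_pow_mem_frattini hQ b,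
        Grp.pGroup_pow_mem_frattini hQ _]
    · rw [hZcard, ← Fintype.card_subtype, ← Nat.card_eq_fintype_card]
      exact hcardΦ
  have hmem : ∀ φ ∈ frattini Q, φ = ⁅a, b⁆ ∨ φ = a ^ 2 ∨ φ = b ^ 2 ∨ φ = (a * b) ^ 2 := by
    intro φ hφ
    have : φ ∈ Z := hZeq ▸ Finset.mem_filter.2 ⟨Finset.mem_univ _, hφ⟩
    simpa [Z] using this
  refine ⟨hp, hc1, hAB, hAC, hBC, ⟨hA, hB, hC⟩, ?_, fun φ hφ => Or.inr (hmem φ hφ)⟩
  rcases hmem 1 (one_mem _) with e | e | e | e
  · exact absurd e.symm hc1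
  · exact Or.inl e.symm
  · exact Or.inr (Or.inl e.symm)
  · exact Or.inr (Or.inr e.symm)

/-- The automorphism group of a bicyclic non-metacyclic `2`-group is a `2`-group. -/
theorem IsBic.isPGroup_aut (hX : IsPGroup 2 X) {x y : X} (h : IsBic x y) (hm : ¬ IsMetacyclic X) :
    IsPGroup 2 (MulAut X) := by
  haveI : Fact (Nat.Prime 2) := ⟨Nat.prime_two⟩
  by_contra hA
  obtain ⟨α, q, hα⟩ := MetaTwo.exists_oddAut hA
  refine hα.moves hX fun g => ?_
  set Q := X ⧸ ySub X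
  obtain ⟨hp, hc1, hAB, hAC, hBC, ⟨hA', hB', hC'⟩, hone, hmem⟩ := h.sq_facts hX hm rfl rfl
  set a : Q := (x : Q)
  set b : Q := (y : Q)
  set β : MulAut Q := autQ (ySub X) α with hβ
  have hQ : IsPGroup 2 Q := hX.to_quotient _
  have hbic : IsBic a b := h.map (QuotientGroup.mk' (ySub X)) (QuotientGroup.mk'_surjective _)
  have hnc : ¬ IsCyclic Q := fun hcy => hc1
    (commutatorElement_eq_one_iff_commute.2 (by
      letI := IsCyclic.commGroup (α := Q)
      exact mul_comm a b))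
  have hc : β ⁅a, b⁆ = ⁅a, b⁆ := by
    have h1 : β ⁅a, b⁆ ∈ zpowers ⁅a, b⁆ := by
      haveI : (zpowers ⁅a, b⁆).Normal := ⟨fun n hn q => by
        obtain ⟨i, rfl⟩ := hn
        show q * ⁅a, b⁆ ^ i * q⁻¹ ∈ _
        rw [((show Commute _ _ from (hp.central q)).zpow_left i).symm.eq, mul_inv_cancel_right]
        exact zpow_mem (mem_zpowers _) i⟩
      refine commutator_le_of_gens (N := zpowers ⁅a, b⁆) hp.gen ?_
        (by rw [map_commutatorElement]; exact commutator_mem_commutator_top _ _)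
      rintro u (hu | hu) w (hw | hw) <;> rw [hu, hw]
      · rw [commutatorElement_self]; exact one_mem _
      · exact mem_zpowers _
      · rw [← zpowers_inv, commutatorElement_inv]; exact mem_zpowers _
      · rw [commutatorElement_self]; exact one_mem _
    obtain ⟨i, hi⟩ := mem_zpowers_iff.1 h1
    rcases Int.even_or_odd i with ⟨k, rfl⟩ | ⟨k, rfl⟩
    · rw [← two_mul, zpow_mul, show ⁅a, b⁆ ^ (2 : ℤ) = ⁅a, b⁆ ^ (2 : ℕ) from zpow_natCast _ 2,
        hp.sq, one_zpow] at hi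
      exact absurd ((map_eq_one_iff β β.injective).1 hi.symm) hc1
    · rw [zpow_add, zpow_mul, show ⁅a, b⁆ ^ (2 : ℤ) = ⁅a, b⁆ ^ (2 : ℕ) from zpow_natCast _ 2,
        hp.sq, one_zpow, one_mul, zpow_one] at hi
      exact hi.symm
  have hΦfix : ∀ φ ∈ frattini Q, β φ = φ := by
    intro φ hφ
    by_contra hne
    have h1 : φ ≠ 1 := fun e => hne (by rw [e, map_one])
    have hcφ : φ ≠ ⁅a, b⁆ := fun e => hne (by rw [e, hc])
    have hmov : ∀ ψ ∈ frattini Q, β ψ ∈ frattini Q := fun ψ hψ =>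
      ((inferInstance : (frattini Q).Characteristic).fixed β).ge hψ
    have h1' : β φ ≠ 1 := fun e => h1 ((map_eq_one_iff β β.injective).1 e)
    have hcφ' : β φ ≠ ⁅a, b⁆ := fun e => hcφ (β.injective (e.trans hc.symm))
    -- at most two candidates
    have two : ∀ u v w : Q, u ∈ frattini Q → v ∈ frattini Q → w ∈ frattini Q →
        u ≠ 1 → v ≠ 1 → w ≠ 1 → u ≠ ⁅a, b⁆ → v ≠ ⁅a, b⁆ → w ≠ ⁅a, b⁆ → u = v ∨ u = w ∨ v = w := by
      intro u v w hu hv hw hu1 hv1 hw1 huc hvc hwc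
      rcases hmem u hu with e | e | e | e | e <;> rcases hmem v hv with e' | e' | e' | e' | e' <;>
        rcases hmem w hw with e'' | e'' | e'' | e'' | e'' <;> rcases hone with o | o | o <;>
        first
          | exact absurd e hu1 | exact absurd e huc | exact absurd e' hv1 | exact absurd e' hvc
          | exact absurd e'' hw1 | exact absurd e'' hwc
          | exact Or.inl (e.trans e'.symm) | exact Or.inr (Or.inl (e.trans e''.symm))
          | exact Or.inr (Or.inr (e'.trans e''.symm))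
          | exact absurd (e.trans o) hu1 | exact absurd (e'.trans o) hv1
          | exact absurd (e''.trans o) hw1
    have h2 := hmov _ (hmov φ hφ)
    have hβ2 : β (β φ) = φ := by
      rcases two φ (β φ) (β (β φ)) hφ (hmov φ hφ) h2 h1 h1'
        (fun e => h1' ((map_eq_one_iff β β.injective).1 e)) hcφ hcφ'
        (fun e => hcφ' (β.injective (e.trans hc.symm))) with e | e | e
      · exact absurd e.symm hne
      · exact e.symm
      · exact absurd (β.injective e).symm hne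
    have hiter : ∀ k, (β ^ (2 * k)) φ = φ := fun k => by
      induction k with
      | zero => simp
      | succ k ih => rw [Nat.mul_succ, pow_add, MulAut.mul_apply, pow_two, MulAut.mul_apply, hβ2, ih]
    obtain ⟨k, hk⟩ := hα.prime.odd_of_ne_two hα.ne_two
    have hq : (β ^ q) φ = φ := by rw [hβ, ← map_pow, hα.pow_eq, map_one]; rfl
    rw [hk, add_comm, pow_add, pow_one, MulAut.mul_apply, hiter] at hq
    exact hne hq
  -- classes
  have hcls : ∀ q : Q, ∃ φ ∈ frattini Q, q = φ ∨ q = a * φ ∨ q = b * φ ∨ q = a * b * φ := by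
    intro q
    obtain ⟨i, j, rfl⟩ := hbic q
    have hpar : ∀ (u : Q) (k : ℤ), ∃ k' : ℤ, u ^ k = (u ^ 2) ^ k' ∨ u ^ k = u * (u ^ 2) ^ k' := by
      intro u k
      rw [← show u ^ (2 : ℤ) = u ^ (2 : ℕ) from zpow_natCast u 2]
      rcases Int.even_or_odd k with ⟨k', rfl⟩ | ⟨k', rfl⟩
      · exact ⟨k', Or.inl (by rw [← zpow_mul, two_mul])⟩
      · exact ⟨k', Or.inr (by rw [← zpow_mul, ← zpow_one_add, add_comm])⟩
    obtain ⟨i', hi⟩ := hpar a i
    obtain ⟨j', hj⟩ := hpar b j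
    have hcm : ∀ g : Q, Commute ((a ^ 2) ^ i') g := fun g => (hp.commute_sq_left g).zpow_left i'
    refine ⟨(a ^ 2) ^ i' * (b ^ 2) ^ j', mul_mem (zpow_mem (Grp.pGroup_pow_mem_frattini hQ a) _)
      (zpow_mem (Grp.pGroup_pow_mem_frattini hQ b) _), ?_⟩
    rcases hi with e | e <;> rcases hj with e' | e' <;> rw [e, e']
    · exact Or.inl rfl
    · exact Or.inr (Or.inr (Or.inl (by rw [← mul_assoc, (hcm b).eq, mul_assoc])))
    · exact Or.inr (Or.inl (by rw [mul_assoc]))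
    · refine Or.inr (Or.inr (Or.inr ?_))
      rw [mul_assoc, ← mul_assoc ((a ^ 2) ^ i'), (hcm b).eq]
      simp only [mul_assoc]
  have hsq : ∀ u φ : Q, φ ∈ frattini Q → (u * φ) ^ 2 = u ^ 2 := by
    intro u φ hφ
    obtain ⟨i, j, rfl⟩ := hbic.frattini_form hQ hnc hφ
    have hc2 : Commute u (a ^ (2 * i) * b ^ (2 * j)) := by
      rw [zpow_mul, zpow_mul, show a ^ (2 : ℤ) = a ^ (2 : ℕ) from zpow_natCast a 2,
        show b ^ (2 : ℤ) = b ^ (2 : ℕ) from zpow_natCast b 2]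
      exact ((hp.commute_sq_left u).symm.zpow_right _).mul_right
        ((hp.commute_sq_right u).symm.zpow_right _)
    have h4 : ∀ q : Q, q ^ 4 = 1 := fun q => QuotientGroup.induction_on q fun g =>
      (QuotientGroup.eq_one_iff _).2 (pow_four_mem g)
    rw [hc2.mul_pow]
    have : (a ^ (2 * i) * b ^ (2 * j)) ^ 2 = (a ^ i * b ^ j) ^ 4 := by
      rw [show (4 : ℕ) = 2 * 2 from rfl, pow_mul, hp.mul_zpow_sq i j,
        ((show Commute _ _ from hp.central _).zpow_left _).symm.mul_pow,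
        show (⁅a, b⁆ ^ (i * j)) ^ 2 = 1 by
          rw [← zpow_natCast, ← zpow_mul, mul_comm, zpow_mul, zpow_natCast, hp.sq, one_zpow],
        mul_one]
    rw [this, h4, mul_one]
  -- the class is fixed
  have hfixcls : ∀ q : Q, q⁻¹ * β q ∈ frattini Q := by
    intro q
    obtain ⟨φ, hφ, hqe⟩ := hcls q
    obtain ⟨ψ, hψ, hqe'⟩ := hcls (β q)
    have hchar : ∀ {r}, β r ∈ frattini Q → r ∈ frattini Q := fun {r} hr => by
      have := ((inferInstance : (frattini Q).Characteristic).fixed β.symm).ge hr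
      simpa using this
    have hsame : (β q) ^ 2 = q ^ 2 := by
      rw [← map_pow]; exact hΦfix _ (Grp.pGroup_pow_mem_frattini hQ q)
    have hΦ : q ∈ frattini Q ↔ β q ∈ frattini Q :=
      ⟨fun hq => ((inferInstance : (frattini Q).Characteristic).fixed β).ge hq, hchar⟩
    have hout : ∀ {u ρ : Q}, ρ ∈ frattini Q → u ∉ frattini Q → u * ρ ∉ frattini Q :=
      fun {u ρ} hρ hu hh => hu ((Subgroup.mul_mem_cancel_right _ hρ).1 hh)
    obtain ⟨-, haΦ, hbΦ, habΦ, -⟩ := hbic.frattini_index hQ hnc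
    have fin : ∀ u : Q, q = u * φ → β q = u * ψ → q⁻¹ * β q ∈ frattini Q := fun u e e' => by
      rw [e', e, show (u * φ)⁻¹ * (u * ψ) = φ⁻¹ * ψ by group]
      exact mul_mem (inv_mem hφ) hψ
    rcases hqe with e | e | e | e <;> rcases hqe' with e' | e' | e' | e'
    all_goals first
      | exact fin 1 (by rw [one_mul]; exact e) (by rw [one_mul]; exact e')
      | exact fin _ e e'
      | (exfalso
         rw [e', e] at hΦ hsame
         first
           | exact hout hψ haΦ (hΦ.1 hφ) | exact hout hψ hbΦ (hΦ.1 hφ) | exact hout hψ habΦ (hΦ.1 hφ)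
           | exact hout hφ haΦ (hΦ.2 hψ) | exact hout hφ hbΦ (hΦ.2 hψ) | exact hout hφ habΦ (hΦ.2 hψ)
           | (rw [hsq _ _ hφ, hsq _ _ hψ] at hsame
              first
                | exact hAB hsame | exact hAB hsame.symm | exact hAC hsame | exact hAC hsame.symm
                | exact hBC hsame | exact hBC hsame.symm))
  obtain ⟨i, j, e⟩ := hbic.frattini_form hQ hnc (hfixcls (g : Q))
  rw [hβ, autQ_mk, ← QuotientGroup.mk_inv, ← QuotientGroup.mk_mul, ← QuotientGroup.mk_zpow,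
    ← QuotientGroup.mk_zpow, ← QuotientGroup.mk_mul] at e
  have hy : ySub X ≤ frattini X := sup_le (rSub_le_commutator.trans
      (Grp.pGroup_commutator_le_frattini hX)) ((closure_le _).2 (by
    rintro _ ⟨u, rfl⟩
    show u ^ 4 ∈ frattini X
    rw [show (4 : ℕ) = 2 * 2 from rfl, pow_mul]
    exact Grp.pGroup_pow_mem_frattini hX _))
  have h2 : ∀ (u : X) (k : ℤ), u ^ (2 * k) ∈ frattini X := fun u k => by
    rw [zpow_mul, show u ^ (2 : ℤ) = u ^ (2 : ℕ) from zpow_natCast u 2]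
    exact zpow_mem (Grp.pGroup_pow_mem_frattini hX u) k
  exact (Subgroup.mul_mem_cancel_left _ (inv_mem (mul_mem (h2 x i) (h2 y j)))).1
    (by have := hy (QuotientGroup.eq.1 e.symm); exact this)

/-- Generators `a`, `b` with `b ^ 2 ∈ rSub X`. -/
theorem IsBic.exists_gens_sq (hX : IsPGroup 2 X) {x y : X} (h : IsBic x y) (hm : ¬ IsMetacyclic X) :
    ∃ a b : X, closure ({a, b} : Set X) = ⊤ ∧ b ^ 2 ∈ rSub X := by
  obtain ⟨-, -, -, -, -, -, hone, -⟩ := h.sq_facts hX hm rfl rfl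
  set R := X ⧸ rSub X
  let f := QuotientGroup.mk' (rSub X)
  have hpR : Pair (f x) (f y) := pair_mk h.closure_eq_top _ le_rfl
  have hbR := h.map f (QuotientGroup.mk'_surjective _)
  have main : ∀ a g : X, closure ({a, g} : Set X) = ⊤ → Pair (f a) (f g) →
      (∀ q : R, ∃ i j : ℤ, q ^ 4 = f a ^ (4 * i) * f g ^ (4 * j)) → g ^ 2 ∈ ySub X →
      ∃ a b : X, closure ({a, b} : Set X) = ⊤ ∧ b ^ 2 ∈ rSub X := by
    intro a g hgen hp h4 hg
    have := mem_map_of_mem f hg
    rw [map_ySub f (QuotientGroup.mk'_surjective _)] at this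
    obtain ⟨q, hq⟩ := ySub_quot x y h this
    obtain ⟨i, j, e⟩ := h4 q
    refine ⟨a, g ^ (1 - 2 * j) * a ^ (-2 * i), ?_, ?_⟩
    · rw [eq_top_iff, ← hgen, closure_le]
      have haC : a ∈ closure ({a, g ^ (1 - 2 * j) * a ^ (-2 * i)} : Set X) :=
        subset_closure (by simp)
      rintro u (hu | hu) <;> rw [hu]
      · exact haC
      · refine (zpowers_le.2 ?_) (mem_zpowers_zpow_odd hX g (i := 1 - 2 * j) ⟨-j, by ring⟩)
        have hb : g ^ (1 - 2 * j) * a ^ (-2 * i) ∈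
            closure ({a, g ^ (1 - 2 * j) * a ^ (-2 * i)} : Set X) := subset_closure (by simp)
        have := mul_mem hb (inv_mem (zpow_mem haC (-2 * i)))
        rwa [mul_inv_cancel_right] at this
    · refine (QuotientGroup.eq_one_iff _).1 ?_
      show f _ = 1
      have hc : Commute (f g ^ (1 - 2 * j)) (f a ^ (-2 * i)) := by
        rw [zpow_mul (f a), zpow_neg, show f a ^ (2 : ℤ) = f a ^ (2 : ℕ) from zpow_natCast _ 2]
        exact ((hp.commute_sq_left _).inv_left.zpow_left i).symm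
      have e2 : ∀ (v : R) (k : ℤ), (v ^ k) ^ 2 = v ^ (2 * k) := fun v k => by
        rw [pow_two, ← zpow_add, two_mul]
      have hg2 : f g ^ (2 : ℤ) = f a ^ (4 * i) * f g ^ (4 * j) := by
        rw [show f g ^ (2 : ℤ) = f g ^ (2 : ℕ) from zpow_natCast _ 2, ← map_pow, hq, e]
      rw [map_pow, map_mul, map_zpow, map_zpow, hc.mul_pow, e2, e2,
        show 2 * (1 - 2 * j) = 2 + -(4 * j) by ring, zpow_add, hg2,
        show 2 * (-2 * i) = -(4 * i) by ring, zpow_neg, zpow_neg, mul_inv_cancel_right, mul_inv_cancel]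
  have hone' : x ^ 2 ∈ ySub X ∨ y ^ 2 ∈ ySub X ∨ (x * y) ^ 2 ∈ ySub X := by
    simpa only [← QuotientGroup.mk_mul, ← QuotientGroup.mk_pow, QuotientGroup.eq_one_iff] using hone
  rcases hone' with hx | hy | hxy
  · exact main y x h.symm.closure_eq_top hpR.symm (fun q => by
      obtain ⟨i, j, e⟩ := hpR.pow_four_form hbR q
      exact ⟨j, i, by rw [e, (hpR.commute_zpow_four i _).eq]⟩) hx
  · exact main x y h.closure_eq_top hpR (hpR.pow_four_form hbR) hy
  · have e1 : f (x * y) = f x * f y := map_mul f x y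
    refine main y (x * y) ?_ (e1 ▸ (pair_mul hpR).1.symm) (fun q => ?_) hxy
    · rw [eq_top_iff, ← h.closure_eq_top, closure_le]
      rintro u (hu | hu) <;> rw [hu]
      · rw [SetLike.mem_coe, ← mul_inv_cancel_right x y]
        exact mul_mem (subset_closure (by simp)) (inv_mem (subset_closure (by simp)))
      · exact subset_closure (by simp)
    · obtain ⟨i, j, e⟩ := four_form_mul hpR (hpR.pow_four_form hbR) q
      refine ⟨j, i, ?_⟩
      rw [e1, e, (show Commute ((f x * f y) ^ (4 * i)) _ from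
        (pair_mul hpR).1.commute_zpow_four i _).eq]

end Cfsg.Agent.Fus.Bicyclic
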