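import Cfsg.Agent.Lib.Fus.Bicyclic.OuterElement

/-!
An element `y` outside `Φ` with `y ^ 2` in `W`: it centralises `W`, the central involution is a
commutator with `y`, and its centraliser lies in `Φ ⟨y⟩`.
-/

set_option autoImplicit false
set_option linter.style.haveILetI false
set_option linter.unusedSectionVars false
set_option maxHeartbeats 1000000

open scoped commutatorElement

namespace Cfsg.Agent.Fus.Bicyclic

open Subgroup

universe u

variable {X : Type u} [Group X] [Finite X]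

/-- A proper subgroup has at most half the order. -/
theorem two_mul_card_le {H K : Subgroup X} (h : H < K) : 2 * Nat.card H ≤ Nat.card K := by
  obtain ⟨k, hk⟩ := card_dvd_of_le h.le
  have hK : 0 < Nat.card K := Nat.card_pos
  rcases k with _ | _ | k
  · rw [mul_zero] at hk; omega
  · rw [zero_add, mul_one] at hk
    exact absurd (eq_of_le_of_card_ge h.le (le_of_eq hk)) h.ne
  · rw [hk, mul_comm 2]
    exact Nat.mul_le_mul_left _ (by omega)

namespace Setup

variable (St : Setup X)

include St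

/-- The central involution. -/
noncomputable def z0 : X := St.exists_z0.choose

theorem z0_mem : St.z0 ∈ St.W := St.exists_z0.choose_spec.1

theorem z0_ne : St.z0 ≠ 1 := St.exists_z0.choose_spec.2.1

theorem z0_central (g : X) : g * St.z0 = St.z0 * g := St.exists_z0.choose_spec.2.2.1 g

theorem W_move {w : X} (hw : w ∈ St.W) (g : X) : g * w * g⁻¹ = w ∨ g * w * g⁻¹ = w * St.z0 :=
  St.exists_z0.choose_spec.2.2.2 w hw g

/-- The data of a noncentral square: `a` and `y` generate, `z = y ^ 2`. -/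
theorem noncentral_gen {a y : X} (hgen : closure ({a, y} : Set X) = ⊤) (hyy : y * y ∈ St.W)
    (hz : ¬ ∀ g : X, g * (y * y) = y * y * g) :
    a * (y * y) * a⁻¹ = y * y * St.z0 ∧ y * y ≠ St.z0 ∧ ∀ w ∈ St.W, y * w = w * y := by
  have hza : a * (y * y) * a⁻¹ = y * y * St.z0 := by
    rcases St.W_move hyy a with h | h
    · refine absurd (fun g => ?_) hz
      have : closure ({a, y} : Set X) ≤ centralizer {y * y} := (closure_le _).2 (by
        rintro u (rfl | rfl)
        · exact mem_centralizer_singleton_iff.2 (mul_inv_eq_iff_eq_mul.1 h)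
        · exact mem_centralizer_singleton_iff.2 (mul_assoc u u u).symm)
      exact mem_centralizer_singleton_iff.1 (this (hgen.ge (mem_top g)))
    · exact h
  have hne : y * y ≠ St.z0 := fun e => hz (by rw [e]; exact St.z0_central)
  refine ⟨hza, hne, fun w hw => ?_⟩
  by_cases hy1 : y * y = 1
  · exact absurd (fun g => by rw [hy1, mul_one, one_mul]) hz
  rcases St.W_cases hyy St.z0_mem hy1 St.z0_ne hne hw with rfl | rfl | rfl | rfl
  · rw [mul_one, one_mul]
  · exact (mul_assoc y y y).symm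
  · exact St.z0_central y
  · rw [mul_assoc (y * y) St.z0, ← St.z0_central y]; group

/-- An element outside `Φ` squaring into `W` centralises `W`. -/
theorem outer_commute_W {y : X} (hy : y ∉ frattini X) (hyy : y * y ∈ St.W) {w : X} (hw : w ∈ St.W) :
    y * w = w * y := by
  by_cases hz : ∀ g : X, g * (y * y) = y * y * g
  · have := St.inverts hy hz w (St.W_le hw)
    rw [inv_eq_of_mul_eq_one_right hw.2] at this
    exact mul_inv_eq_iff_eq_mul.1 this
  · obtain ⟨a, hgen, -, -⟩ := St.exists_gen hy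
    exact (St.noncentral_gen hgen hyy hz).2.2 w hw

/-- The centraliser of `y` lies in `Φ ⟨y⟩`. -/
theorem outer_centralizer {y g : X} (hy : y ∉ frattini X) (hyy : y * y ∈ St.W)
    (hg : g * y = y * g) : g ∈ frattini X ∨ y⁻¹ * g ∈ frattini X := by
  by_cases hz : ∀ g : X, g * (y * y) = y * y * g
  · exact St.centralizer_central hy hz hg
  obtain ⟨a, hgen, ha, hay⟩ := St.exists_gen hy
  obtain ⟨hza, -, -⟩ := St.noncentral_gen hgen hyy hz
  have hgz : g * (y * y) = y * y * g := by rw [← mul_assoc, hg, mul_assoc, hg, ← mul_assoc]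
  have hbad : ∀ p ∈ frattini X, g * p⁻¹ = a → False := by
    intro p hp e
    have h1 : a * (y * y) = y * y * a := by
      rw [← e, mul_assoc, St.commute_W hyy (inv_mem hp), ← mul_assoc, hgz, mul_assoc]
    rw [h1, mul_inv_cancel_right] at hza
    exact St.z0_ne (mul_eq_left.1 hza.symm)
  rcases St.four_cosets ha hy hay g with h | h | h | h
  · exact Or.inl h
  · exact Or.inr h
  · exact (hbad _ h (by group)).elim
  · exfalso
    set p := (a * y)⁻¹ * g with hp
    have e : g = a * y * p := by rw [hp]; group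
    have hyz : y * (y * y) = y * y * y := (mul_assoc y y y).symm
    have h1 : a * (y * y) = y * y * a := by
      have h2 := hgz
      rw [e] at h2
      calc a * (y * y) = (a * y * p * (y * y)) * p⁻¹ * y⁻¹ := by
            rw [mul_assoc (a * y), St.commute_W hyy h, mul_assoc a, ← mul_assoc y, hyz]; group
        _ = y * y * a := by rw [h2]; group
    rw [h1, mul_inv_cancel_right] at hza
    exact St.z0_ne (mul_eq_left.1 hza.symm)

/-- The central involution is a commutator with `y`. -/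
theorem outer_z0 {y : X} (hy : y ∉ frattini X) (hyy : y * y ∈ St.W) : ∃ g : X, ⁅g, y⁆ = St.z0 := by
  by_cases hz : ∀ g : X, g * (y * y) = y * y * g
  · exact (St.central_case hy hz).2 _ (St.W_le St.z0_mem)
  haveI : Fact (Nat.Prime 2) := ⟨Nat.prime_two⟩
  obtain ⟨a, hgen, ha, hay⟩ := St.exists_gen hy
  obtain ⟨hza, hzne, hyW⟩ := St.noncentral_gen hgen hyy hz
  by_contra hno
  push Not at hno
  set c := ⁅a, y⁆ with hc
  set z0 := St.z0 with hz0
  have hz01 : z0 * z0 = 1 := St.z0_mem.2
  have hzc : ∀ g, g * z0 = z0 * g := St.z0_central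
  have hcX : c ∈ commutator X := commutator_mem_commutator_top a y
  have hconjX : ∀ g, ∀ t ∈ commutator X, g * t * g⁻¹ ∈ commutator X := fun g t ht =>
    Normal.conj_mem inferInstance t ht g
  have hcy : y * c * y⁻¹ = c⁻¹ * z0 := by
    have e : a * (y * y) * a⁻¹ * (y * y)⁻¹ = c * (y * c * y⁻¹) := by
      rw [hc, commutatorElement_def]; group
    rw [hza, show y * y * z0 * (y * y)⁻¹ = z0 by rw [hzc, mul_inv_cancel_right]] at e
    rw [e, inv_mul_cancel_left]
  -- `y` inverts the derived subgroup modulo `z0`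
  let T : Subgroup X :=
    { carrier := {t | t ∈ commutator X ∧ (y * t * y⁻¹ = t⁻¹ ∨ y * t * y⁻¹ = t⁻¹ * z0)}
      one_mem' := ⟨one_mem _, Or.inl (by simp)⟩
      mul_mem' := fun {s t} hs ht => ⟨mul_mem hs.1 ht.1, by
        have e : y * (s * t) * y⁻¹ = y * t * y⁻¹ * (y * s * y⁻¹) := by
          rw [St.comm_X' hs.1 ht.1]; group
        rcases hs.2 with h1 | h1 <;> rcases ht.2 with h2 | h2 <;> rw [e, h1, h2]
        · left; rw [mul_inv_rev]
        · right; rw [mul_inv_rev, mul_assoc, ← hzc, ← mul_assoc]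
        · right; rw [mul_inv_rev, ← mul_assoc]
        · left
          rw [mul_inv_rev, mul_assoc, ← mul_assoc z0, ← hzc s⁻¹, mul_assoc s⁻¹, hz01, mul_one]⟩
      inv_mem' := fun {s} hs => ⟨inv_mem hs.1, by
        rcases hs.2 with h | h
        · left; rw [← conj_inv, h]
        · right; rw [← conj_inv, h, mul_inv_rev, inv_eq_of_mul_eq_one_right hz01, ← hzc]⟩ }
  haveI : T.Normal := ⟨fun t ht g => ⟨hconjX g t ht.1, by
    rw [St.conj_comm ht.1]
    rcases ht.2 with h | h <;> rw [h]
    · left; rw [conj_inv]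
    · right; rw [← conj_mul, conj_inv, show g * z0 * g⁻¹ = z0 by rw [hzc, mul_inv_cancel_right]]⟩⟩
  have hTle : commutator X ≤ T := commutator_le_of_gens hgen (by
    have hcT : c ∈ T := ⟨hcX, Or.inr hcy⟩
    rintro u (rfl | rfl) v (rfl | rfl)
    · rw [commutatorElement_self]; exact one_mem _
    · exact hcT
    · rw [← commutatorElement_inv]; exact inv_mem hcT
    · rw [commutatorElement_self]; exact one_mem _)
  have hQinv : ∀ q ∈ St.Q, y * q * y⁻¹ = q⁻¹ := by
    rintro _ ⟨s, hs, rfl⟩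
    rw [← conj_mul]
    rcases (hTle hs).2 with h | h <;> rw [h]
    · rw [mul_inv_rev]
    · rw [mul_inv_rev, mul_assoc, ← mul_assoc z0, ← hzc s⁻¹, mul_assoc s⁻¹, hz01, mul_one]
  -- `y` centralises every root of `z0`
  have hroot : ∀ t ∈ commutator X, t * t = z0 → y * t * y⁻¹ = t := by
    intro t ht htt
    rcases (hTle ht).2 with h | h
    · refine absurd ?_ (hno t)
      rw [commutatorElement_def, show t * y * t⁻¹ * y⁻¹ = t * (y * t⁻¹ * y⁻¹) by group,
        ← conj_inv, h, inv_inv, htt]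
    · rw [h, ← htt, inv_mul_cancel_left]
  have hcW : c ∉ St.W := fun h => by
    have h1 := mul_inv_eq_iff_eq_mul.2 (hyW c h)
    rw [hcy, inv_eq_of_mul_eq_one_right h.2, mul_eq_left] at h1
    exact St.z0_ne h1
  have hcc : c * c ≠ 1 := fun h => hcW ⟨St.commutator_le hcX, h⟩
  haveI := St.Q_normal
  -- central involutions of `X'`
  have hcentW : ∀ w ∈ St.W, (∀ g, g * w = w * g) → w = 1 ∨ w = z0 := by
    intro w hw hwc
    by_cases hy1 : y * y = 1
    · exact absurd (fun g => by rw [hy1, mul_one, one_mul]) hz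
    rcases St.W_cases hyy St.z0_mem hy1 St.z0_ne hzne hw with rfl | rfl | rfl | rfl
    · exact Or.inl rfl
    · exact absurd hwc hz
    · exact Or.inr rfl
    · refine absurd (fun g => ?_) hz
      have h1 := hwc g
      rw [mul_assoc (y * y), ← hzc g, ← mul_assoc g (y * y) z0, ← mul_assoc (y * y) g z0] at h1
      exact mul_right_cancel h1
  have hz0Q : z0 ∈ St.Q := by
    obtain ⟨v, hv, hv2, hv1, hvc⟩ := exists_central_invol St.isP St.Q
      (fun e => hcc (mem_bot.1 (e ▸ ⟨c, hcX, rfl⟩)))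
    rcases hcentW v ⟨St.commutator_le (St.Q_le hv), hv2⟩ hvc with rfl | rfl
    · exact absurd rfl hv1
    · exact hv
  obtain ⟨s₀, hs₀, hs₀2⟩ := hz0Q
  have hQW : ∀ q ∈ St.Q, q * q = 1 := by
    let Q2 : Subgroup X :=
      { carrier := {u | ∃ q ∈ St.Q, q * q = u}
        one_mem' := ⟨1, one_mem _, one_mul 1⟩
        mul_mem' := by
          rintro _ _ ⟨s, hs, rfl⟩ ⟨t, ht, rfl⟩
          refine ⟨s * t, mul_mem hs ht, ?_⟩
          rw [show s * t * (s * t) = s * (t * s) * t by group,
            St.comm_X' (St.Q_le ht) (St.Q_le hs)]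
          group
        inv_mem' := by
          rintro _ ⟨s, hs, rfl⟩; exact ⟨s⁻¹, inv_mem hs, by rw [mul_inv_rev]⟩ }
    haveI : Q2.Normal := ⟨by
      rintro _ ⟨s, hs, rfl⟩ g
      exact ⟨g * s * g⁻¹, St.Q_normal.conj_mem s hs g, by group⟩⟩
    intro q hq
    by_contra hqq
    obtain ⟨v, ⟨r, hr, rfl⟩, hv2, hv1, hvc⟩ := exists_central_invol St.isP Q2
      (fun e => hqq (mem_bot.1 (e ▸ ⟨q, hq, rfl⟩)))
    have hrX := St.Q_le hr
    rcases hcentW _ ⟨St.commutator_le (mul_mem hrX hrX), hv2⟩ hvc with h | h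
    · exact hv1 h
    · have h1 := hroot r hrX h
      rw [hQinv r hr] at h1
      exact hv1 (inv_eq_iff_mul_eq_one.1 h1)
  obtain ⟨hC1, hCne, hswap, hcls⟩ := St.classes hgen (fun t ht => by
    rw [← mul_inv_eq_iff_eq_mul, ← QuotientGroup.mk_inv, ← QuotientGroup.mk_mul,
      ← QuotientGroup.mk_mul]
    rcases (hTle ht).2 with h | h <;> rw [h, QuotientGroup.eq]
    · rw [inv_inv]; exact ⟨t, ht, rfl⟩
    · rw [mul_inv_rev, inv_inv, mul_assoc]
      exact mul_mem (inv_mem ⟨s₀, hs₀, hs₀2⟩) ⟨t, ht, rfl⟩)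
  have hzQ : y * y ∉ St.Q := by
    intro hzQ
    have hWQ : ∀ w ∈ St.W, w ∈ St.Q := by
      intro w hw
      by_cases hy1 : y * y = 1
      · exact absurd (fun g => by rw [hy1, mul_one, one_mul]) hz
      rcases St.W_cases hyy St.z0_mem hy1 St.z0_ne hzne hw with rfl | rfl | rfl | rfl
      · exact one_mem _
      · exact hzQ
      · exact ⟨s₀, hs₀, hs₀2⟩
      · exact mul_mem hzQ ⟨s₀, hs₀, hs₀2⟩
    have hfix : ((a * s₀ * a⁻¹ : X) : X ⧸ St.Q) = (s₀ : X ⧸ St.Q) := by
      refine (QuotientGroup.eq.2 (hWQ _ ⟨St.commutator_le (mul_mem (inv_mem hs₀) (hconjX a s₀ hs₀)), ?_⟩)).symm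
      have h1 := St.comm_X' (hconjX a s₀ hs₀) (inv_mem hs₀)
      rw [show s₀⁻¹ * (a * s₀ * a⁻¹) * (s₀⁻¹ * (a * s₀ * a⁻¹)) =
        s₀⁻¹ * ((a * s₀ * a⁻¹) * s₀⁻¹) * (a * s₀ * a⁻¹) by group, h1,
        show s₀⁻¹ * (s₀⁻¹ * (a * s₀ * a⁻¹)) * (a * s₀ * a⁻¹) =
          (s₀ * s₀)⁻¹ * (a * (s₀ * s₀) * a⁻¹) by group, hs₀2, hzc, mul_inv_cancel_right,
        inv_mul_cancel]
    rw [QuotientGroup.mk_mul, QuotientGroup.mk_mul, QuotientGroup.mk_inv] at hfix
    rcases hcls s₀ hs₀ with h | h | h | h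
    · have h1 : s₀ * s₀ = 1 := hQW _ ((QuotientGroup.eq_one_iff s₀).1 h)
      exact St.z0_ne (hs₀2.symm.trans h1)
    · rw [h] at hfix; exact hCne hfix
    · rw [h, hswap] at hfix; exact hCne hfix.symm
    · set c' := a * c * a⁻¹ with hc'
      have hc'X : c' ∈ commutator X := hconjX a c hcX
      obtain ⟨q, hq, hqe⟩ : ∃ q ∈ St.Q, c * c' * q = s₀ := by
        refine ⟨(c * c')⁻¹ * s₀, QuotientGroup.eq.1 ?_, by group⟩
        rw [h, QuotientGroup.mk_mul, hc', QuotientGroup.mk_mul, QuotientGroup.mk_mul,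
          QuotientGroup.mk_inv]
      have hc'y : y * c' * y⁻¹ = c'⁻¹ * z0 := by
        rw [hc', St.conj_comm hcX, hcy, ← conj_mul, conj_inv,
          show a * z0 * a⁻¹ = z0 by rw [hzc, mul_inv_cancel_right]]
      have h1 : y * s₀ * y⁻¹ = s₀⁻¹ := by
        rw [← hqe, show y * (c * c' * q) * y⁻¹ = y * c * y⁻¹ * (y * c' * y⁻¹) * (y * q * y⁻¹) by
          group, hcy, hc'y, hQinv q hq, mul_assoc c⁻¹, ← mul_assoc z0, ← hzc c'⁻¹,
          mul_assoc c'⁻¹, hz01, mul_one, St.comm_X' (inv_mem hcX) (inv_mem hc'X), ← mul_inv_rev,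
          St.comm_X' (inv_mem (mul_mem hcX hc'X)) (inv_mem (St.Q_le hq)), ← mul_inv_rev]
      rw [hroot s₀ hs₀ hs₀2, eq_inv_iff_mul_eq_one, hs₀2] at h1
      exact St.z0_ne h1
  have hQcases : ∀ q ∈ St.Q, q = 1 ∨ q = z0 := by
    intro q hq
    by_cases hy1 : y * y = 1
    · exact absurd (fun g => by rw [hy1, mul_one, one_mul]) hz
    rcases St.W_cases hyy St.z0_mem hy1 St.z0_ne hzne ⟨St.commutator_le (St.Q_le hq), hQW q hq⟩
      with h | h | h | h
    · exact Or.inl h
    · exact absurd (h ▸ hq) hzQ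
    · exact Or.inr h
    · refine absurd ?_ hzQ
      have := mul_mem (h ▸ hq : y * y * z0 ∈ St.Q) ⟨s₀, hs₀, hs₀2⟩
      rwa [mul_assoc, hz01, mul_one] at this
  have hcz : c * c = z0 := (hQcases _ ⟨c, hcX, rfl⟩).resolve_left hcc
  set w := c⁻¹ * (a * c * a⁻¹) with hw
  have hwX : w ∈ commutator X := mul_mem (inv_mem hcX) (hconjX a c hcX)
  have hwW : w ∈ St.W := by
    refine ⟨St.commutator_le hwX, ?_⟩
    have h1 := St.comm_X' (hconjX a c hcX) (inv_mem hcX)
    rw [hw, show c⁻¹ * (a * c * a⁻¹) * (c⁻¹ * (a * c * a⁻¹)) =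
      c⁻¹ * ((a * c * a⁻¹) * c⁻¹) * (a * c * a⁻¹) by group, h1,
      show c⁻¹ * (c⁻¹ * (a * c * a⁻¹)) * (a * c * a⁻¹) = (c * c)⁻¹ * (a * (c * c) * a⁻¹) by group,
      hcz, hzc, mul_inv_cancel_right, inv_mul_cancel]
  have hwa : a * w * a⁻¹ = w * z0 := by
    rcases St.W_move hwW a with h | h
    · exfalso
      have hwc : ∀ g, g * w = w * g := fun g => by
        have : closure ({a, y} : Set X) ≤ centralizer {w} := (closure_le _).2 (by
          rintro u (rfl | rfl)
          · exact mem_centralizer_singleton_iff.2 (mul_inv_eq_iff_eq_mul.1 h)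
          · exact mem_centralizer_singleton_iff.2 (hyW w hwW))
        exact mem_centralizer_singleton_iff.1 (this (hgen.ge (mem_top g)))
      apply hCne
      rw [← QuotientGroup.mk_inv, ← QuotientGroup.mk_mul, ← QuotientGroup.mk_mul]
      refine (QuotientGroup.eq.2 ?_).symm
      rcases hcentW w hwW hwc with h1 | h1
      · rw [← hw, h1]; exact one_mem _
      · rw [← hw, h1]; exact ⟨s₀, hs₀, hs₀2⟩
    · exact h
  have ha2c : a * a * c * (a * a)⁻¹ = c * z0 := by
    rw [show a * a * c * (a * a)⁻¹ = a * (c * w) * a⁻¹ by rw [hw]; group, ← conj_mul, hwa,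
      show a * c * a⁻¹ = c * w by rw [hw, mul_inv_cancel_left], mul_assoc, ← mul_assoc w, hwW.2,
      one_mul]
  have hX'cases : ∀ t ∈ commutator X, t ∈ St.W ∨ c⁻¹ * t ∈ St.W := by
    intro t ht
    rcases hQcases _ ⟨t, ht, rfl⟩ with h | h
    · exact Or.inl ⟨St.commutator_le ht, h⟩
    · refine Or.inr ⟨St.commutator_le (mul_mem (inv_mem hcX) ht), ?_⟩
      rw [show c⁻¹ * t * (c⁻¹ * t) = c⁻¹ * (t * c⁻¹) * t by group,
        St.comm_X' ht (inv_mem hcX), show c⁻¹ * (c⁻¹ * t) * t = (c * c)⁻¹ * (t * t) by group,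
        h, hcz, inv_mul_cancel]
  -- the Frattini subgroup is `⟨a ^ 2⟩ X'`
  set M1 : Subgroup X := zpowers (a * a) ⊔ commutator X
  haveI : M1.Normal := Normal.of_commutator_le X le_sup_right
  have hΦM : frattini X ≤ M1 := by
    let K : Subgroup X :=
      { carrier := {g | g * g ∈ M1}
        one_mem' := by simpa using one_mem M1
        mul_mem' := fun {g h} hg hh => by
          show g * h * (g * h) ∈ M1
          rw [show g * h * (g * h) = g * ⁅h, g⁆ * g⁻¹ * ((g * g) * (h * h)) by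
            simp only [commutatorElement_def]; group]
          exact mul_mem (mem_sup_right (hconjX g _ (commutator_mem_commutator_top h g))) (mul_mem hg hh)
        inv_mem' := fun {g} hg => by
          show g⁻¹ * g⁻¹ ∈ M1
          rw [← mul_inv_rev]; exact inv_mem hg }
    refine frattini_le_of_sq M1 fun g => ?_
    have : closure ({a, y} : Set X) ≤ K := (closure_le _).2 (by
      rintro u (rfl | rfl)
      · exact mem_sup_left (mem_zpowers _)
      · exact mem_sup_right (St.W_le hyy))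
    rw [pow_two]
    exact this (hgen.ge (mem_top g))
  set A2 := a * a with hA2
  have hA2Φ : A2 ∈ frattini X := St.sq_mem a
  have hA4c : A2 * A2 * c * (A2 * A2)⁻¹ = c := by
    rw [show A2 * A2 * c * (A2 * A2)⁻¹ = A2 * (A2 * c * A2⁻¹) * A2⁻¹ by group, ha2c, ← conj_mul,
      ha2c, hzc A2, mul_inv_cancel_right, mul_assoc, hz01, mul_one]
  set N : Subgroup X := zpowers (A2 * A2) ⊔ zpowers z0 with hN
  have hNΦ : N ≤ frattini X :=
    sup_le (zpowers_le.2 (mul_mem hA2Φ hA2Φ)) (zpowers_le.2 St.z0_mem.1)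
  have hNc : ∀ u : X, u * (A2 * A2) = A2 * A2 * u → ∀ n ∈ N, n * u = u * n := by
    intro u hu n hn
    have : N ≤ centralizer {u} := sup_le
      (zpowers_le.2 (mem_centralizer_singleton_iff.2 hu.symm))
      (zpowers_le.2 (mem_centralizer_singleton_iff.2 (hzc u).symm))
    exact mem_centralizer_singleton_iff.1 (this hn)
  have hA4X : ∀ t ∈ commutator X, t * (A2 * A2) = A2 * A2 * t := by
    intro t ht
    rcases hX'cases t ht with h | h
    · exact (St.commute_W h (mul_mem hA2Φ hA2Φ)).symm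
    · have h1 := St.commute_W h (mul_mem hA2Φ hA2Φ)
      have h2 := mul_inv_eq_iff_eq_mul.1 hA4c
      calc t * (A2 * A2) = c * (c⁻¹ * t * (A2 * A2)) := by group
        _ = c * (A2 * A2) * (c⁻¹ * t) := by rw [← h1]; group
        _ = A2 * A2 * t := by rw [← h2]; group
  have hform : ∀ p ∈ frattini X, ∃ i : ℤ, ∃ t ∈ commutator X, A2 ^ i * t = p := fun p hp => by
    obtain ⟨u, hu, t, ht, e⟩ := mem_sup_of_normal_right.1 (hΦM hp)
    obtain ⟨i, rfl⟩ := mem_zpowers_iff.1 hu
    exact ⟨i, t, ht, e⟩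
  have hA4 : A2 * A2 * A2 = A2 * (A2 * A2) := mul_assoc _ _ _
  have hNcent : ∀ p ∈ frattini X, ∀ n ∈ N, n * p = p * n := by
    intro p hp n hn
    obtain ⟨i, t, ht, rfl⟩ := hform p hp
    have h1 : n * A2 = A2 * n := hNc A2 hA4.symm n hn
    rw [← mul_assoc, ((Commute.zpow_right h1 i) : n * A2 ^ i = A2 ^ i * n), mul_assoc,
      hNc t (hA4X t ht) n hn, mul_assoc]
  haveI : (N.subgroupOf (frattini X)).Normal := ⟨fun n hn p => by
    rw [mem_subgroupOf] at hn ⊢
    show (p : X) * n * (p : X)⁻¹ ∈ N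
    rw [← hNcent p p.2 n hn, mul_inv_cancel_right]; exact hn⟩
  have hsqN : ∀ p : ↥(frattini X), p ^ 2 ∈ N.subgroupOf (frattini X) := by
    intro p
    obtain ⟨i, t, ht, e⟩ := hform p p.2
    rw [mem_subgroupOf, pow_two, Subgroup.coe_mul, ← e]
    have hmove : (A2 ^ i)⁻¹ * t * A2 ^ i = t ∨ (A2 ^ i)⁻¹ * t * A2 ^ i = t * z0 := by
      have key : ∀ v, v ∈ frattini X → v * c * v⁻¹ = c ∨ v * c * v⁻¹ = c * z0 := by
        intro v hv
        let Kc : Subgroup X :=
          { carrier := {v | v * c * v⁻¹ = c ∨ v * c * v⁻¹ = c * z0}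
            one_mem' := Or.inl (by simp)
            mul_mem' := fun {u v} hu hv => by
              show _ ∨ _
              rcases hu with hu | hu <;> rcases hv with hv | hv <;>
                rw [show u * v * c * (u * v)⁻¹ = u * (v * c * v⁻¹) * u⁻¹ by group, hv]
              · exact Or.inl hu
              · right; rw [← conj_mul, hu, hzc u, mul_inv_cancel_right]
              · exact Or.inr hu
              · left; rw [← conj_mul, hu, hzc u, mul_inv_cancel_right, mul_assoc, hz01, mul_one]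
            inv_mem' := fun {u} hu => by
              show _ ∨ _
              rcases hu with hu | hu
              · left; conv_lhs => rw [← hu]
                group
              · right
                have h1 : u⁻¹ * (c * z0) * u⁻¹⁻¹ = c := by rw [← hu]; group
                rw [← conj_mul, hzc u⁻¹, mul_inv_cancel_right] at h1
                rw [eq_mul_inv_of_mul_eq h1, inv_eq_of_mul_eq_one_right hz01] }
        have : zpowers A2 ⊔ commutator X ≤ Kc := sup_le (zpowers_le.2 (Or.inr ha2c))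
          fun t ht => Or.inl (by rw [St.comm_X' ht hcX, mul_inv_cancel_right])
        exact this (hΦM hv)
      have hv := inv_mem (zpow_mem hA2Φ i)
      rcases hX'cases t ht with h | h
      · left; rw [St.commute_W h hv, mul_assoc, inv_mul_cancel, mul_one]
      · have h1 : (A2 ^ i)⁻¹ * (c⁻¹ * t) * A2 ^ i = c⁻¹ * t := by
          rw [St.commute_W h hv, mul_assoc, inv_mul_cancel, mul_one]
        have h2 : (A2 ^ i)⁻¹ * t * A2 ^ i =
            ((A2 ^ i)⁻¹ * c * (A2 ^ i)⁻¹⁻¹) * ((A2 ^ i)⁻¹ * (c⁻¹ * t) * A2 ^ i) := by group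
        rw [h1] at h2
        rcases key _ hv with h3 | h3 <;> rw [h3] at h2
        · left; rw [h2, mul_inv_cancel_left]
        · right; rw [h2, mul_assoc, ← hzc (c⁻¹ * t), ← mul_assoc, mul_inv_cancel_left]
    have e2 : A2 ^ i * t * (A2 ^ i * t) = A2 ^ i * A2 ^ i * ((A2 ^ i)⁻¹ * t * A2 ^ i * t) := by
      group
    rw [e2]
    refine mul_mem (mem_sup_left ?_) ?_
    · rw [← ((Commute.refl A2).mul_zpow i)]
      exact zpow_mem (mem_zpowers _) i
    · have hin : ∀ q ∈ St.Q, q ∈ N := fun q hq => by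
        rcases hQcases q hq with rfl | rfl
        · exact one_mem _
        · exact mem_sup_right (mem_zpowers _)
      rcases hmove with h | h <;> rw [h]
      · exact hin _ ⟨t, ht, rfl⟩
      · rw [mul_assoc, ← hzc t, ← mul_assoc]
        exact mul_mem (hin _ ⟨t, ht, rfl⟩) (mem_sup_right (mem_zpowers _))
  have hidx := St.index_le_four (frattini X).subtype (frattini X).subtype_injective (fun m => m.2)
    (N.subgroupOf (frattini X)) hsqN
  -- a chain of three strict inclusions
  set N1 := N ⊔ zpowers (y * y)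
  set N2 := N1 ⊔ zpowers c
  have hzA4 := St.commute_W hyy (mul_mem hA2Φ hA2Φ)
  have h1 : N < N1 := lt_of_le_of_ne le_sup_left fun e => by
    have hzN : y * y ∈ N := e ▸ mem_sup_right (mem_zpowers _)
    have := hNc a (by rw [hA2]; group) _ hzN
    rw [← this, mul_inv_cancel_right] at hza
    exact St.z0_ne (mul_eq_left.1 hza.symm)
  have hcA : A2 * c ≠ c * A2 := fun e => by
    rw [e, mul_inv_cancel_right] at ha2c
    exact St.z0_ne (mul_eq_left.1 ha2c.symm)
  have h2 : N1 < N2 := lt_of_le_of_ne le_sup_left fun e => by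
    have hcN : c ∈ N1 := e ▸ mem_sup_right (mem_zpowers _)
    have : N1 ≤ centralizer {A2} := sup_le
      (fun n hn => mem_centralizer_singleton_iff.2 (hNc A2 hA4.symm n hn))
      (zpowers_le.2 (mem_centralizer_singleton_iff.2 (St.commute_W hyy hA2Φ).symm))
    exact hcA (mem_centralizer_singleton_iff.1 (this hcN)).symm
  have h3 : N2 < frattini X := lt_of_le_of_ne
    (sup_le (sup_le hNΦ (zpowers_le.2 hyy.1)) (zpowers_le.2 (St.commutator_le hcX))) fun e => by
    have : N2 ≤ centralizer {c} := sup_le (sup_le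
      (fun n hn => mem_centralizer_singleton_iff.2 (hNc c (hA4X c hcX) n hn))
      (zpowers_le.2 (mem_centralizer_singleton_iff.2 (St.comm_X' (St.W_le hyy) hcX))))
      (zpowers_le.2 (mem_centralizer_singleton_iff.2 rfl))
    exact hcA (mem_centralizer_singleton_iff.1 (this (e ▸ hA2Φ)))
  have := two_mul_card_le h1; have := two_mul_card_le h2; have := two_mul_card_le h3
  have hmul := (N.subgroupOf (frattini X)).index_mul_card
  rw [Nat.card_congr (subgroupOfEquivOfLe hNΦ).toEquiv] at hmul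
  have hpos : 0 < Nat.card N := Nat.card_pos
  nlinarith

end Setup

end Cfsg.Agent.Fus.Bicyclic
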