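import Cfsg.Agent.Lib.Fus.Bicyclic.Facts
import Cfsg.Agent.Lib.Fus.EssentialSmall

/-!
Automorphisms of order three of `2`-groups, and of order seven: fixed-point-free ones force abelian
groups, and a metacyclic group without dihedral or quaternion subgroups admitting one is abelian.
-/

set_option autoImplicit false
set_option linter.style.haveILetI false
set_option linter.unusedSectionVars false
set_option maxHeartbeats 1000000

open scoped commutatorElement

namespace Cfsg.Agent.Fus.Bicyclic

open Subgroup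

universe u v

/-- A permutation of prime order `q` of a set of size prime to `q` has a fixed point. -/
theorem exists_fixed {T : Type*} [Finite T] (σ : Equiv.Perm T) {q : ℕ} (hq : q.Prime) (hσ : σ ^ q = 1)
    (hT : ¬ q ∣ Nat.card T) : ∃ t, σ t = t := by
  classical
  haveI := Fintype.ofFinite T
  haveI : Fact q.Prime := ⟨hq⟩
  rw [Nat.card_eq_fintype_card] at hT
  exact Equiv.Perm.exists_fixed_point_of_prime hT (n := 1) (by rwa [pow_one])

variable {M : Type v} [Group M] [Finite M]

/-- A class fixed by an automorphism of odd prime order contains a fixed element. -/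
theorem exists_fixed_rep (hM : IsPGroup 2 M) (β : MulAut M) {q : ℕ} (hq : q.Prime) (hq2 : q ≠ 2)
    (hβ : β ^ q = 1) (N : Subgroup M) (hN : ∀ x ∈ N, β x ∈ N) {x : M} (hx : x⁻¹ * β x ∈ N) :
    ∃ y, x⁻¹ * y ∈ N ∧ β y = y := by
  let T := {y : M // x⁻¹ * y ∈ N}
  have hiff : ∀ y, x⁻¹ * y ∈ N → x⁻¹ * β y ∈ N := fun y hy => by
    rw [show x⁻¹ * β y = x⁻¹ * β x * β (x⁻¹ * y) by rw [map_mul, map_inv]; group]
    exact mul_mem hx (hN _ hy)
  let f : T → T := fun y => ⟨β y.1, hiff _ y.2⟩
  have hf : Function.Bijective f :=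
    Finite.injective_iff_bijective.1 fun a b e => Subtype.ext (β.injective (congrArg Subtype.val e))
  let σ : Equiv.Perm T := Equiv.ofBijective f hf
  have hσn : ∀ n : ℕ, ∀ y : T, ((σ ^ n) y : M) = (β ^ n) y.1 := fun n => by
    induction n with
    | zero => intro y; rfl
    | succ n ih => intro y; rw [pow_succ, Equiv.Perm.mul_apply, ih, pow_succ]; rfl
  have hσ : σ ^ q = 1 := Equiv.ext fun y => Subtype.ext (by rw [hσn, hβ]; rfl)
  have hT : ¬ q ∣ Nat.card T := by
    haveI : Fact (Nat.Prime 2) := ⟨Nat.prime_two⟩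
    rw [show Nat.card T = Nat.card N from Nat.card_congr
      { toFun := fun y => ⟨x⁻¹ * y.1, y.2⟩
        invFun := fun z => ⟨x * z.1, by rw [inv_mul_cancel_left]; exact z.2⟩
        left_inv := fun y => Subtype.ext (mul_inv_cancel_left x y.1)
        right_inv := fun z => Subtype.ext (inv_mul_cancel_left x z.1) }]
    obtain ⟨n, hn⟩ := IsPGroup.iff_card.1 (hM.to_subgroup N)
    rw [hn]
    exact fun hd => hq2 ((Nat.prime_dvd_prime_iff_eq hq Nat.prime_two).1 (hq.dvd_of_dvd_pow hd))
  obtain ⟨y, hy⟩ := exists_fixed σ hq hσ hT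
  exact ⟨y.1, y.2, congrArg Subtype.val hy⟩

/-- Restriction of an automorphism to a characteristic subgroup. -/
noncomputable def restrAut (β : MulAut M) (N : Subgroup M) [N.Characteristic] : MulAut ↥N :=
  MulEquiv.ofBijective
    ((β.toMonoidHom.comp N.subtype).codRestrict N fun x => by
      have h := (inferInstance : N.Characteristic).fixed β
      exact h.ge x.2)
    (Finite.injective_iff_bijective.1 fun a b e => Subtype.ext (β.injective (congrArg Subtype.val e)))

theorem restrAut_coe (β : MulAut M) (N : Subgroup M) [N.Characteristic] (x : N) :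
    (restrAut β N x : M) = β x := rfl

theorem restrAut_pow (β : MulAut M) (N : Subgroup M) [N.Characteristic] (n : ℕ) (hn : β ^ n = 1) :
    restrAut β N ^ n = 1 := by
  have : ∀ k : ℕ, ∀ x : N, ((restrAut β N ^ k) x : M) = (β ^ k) x := fun k => by
    induction k with
    | zero => intro x; rfl
    | succ k ih => intro x; rw [pow_succ, MulAut.mul_apply, ih, pow_succ, MulAut.mul_apply,
        restrAut_coe]
  exact MulEquiv.ext fun x => Subtype.ext (by rw [this, hn]; rfl)

theorem frattini_ne_top (hM : Nontrivial M) : frattini M ≠ ⊤ := fun h => by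
  have : (⊥ : Subgroup M) = ⊤ := frattini_nongenerating (by rw [bot_sup_eq, h])
  exact bot_ne_top this

theorem frattini_map_mem (β : MulAut M) {x : M} (hx : x ∈ frattini M) : β x ∈ frattini M :=
  ((inferInstance : (frattini M).Characteristic).fixed β).ge hx

section Three

variable (β : MulAut M) (h3 : β ^ 3 = 1)

include h3

theorem cube (x : M) : β (β (β x)) = x := by
  have := congrArg (fun f : MulAut M => f x) h3
  simpa [pow_succ] using this

/-- For `k = e⁻¹ β(e)` the three images multiply to one. -/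
theorem k_rel (e : M) : e⁻¹ * β e * β (e⁻¹ * β e) * β (β (e⁻¹ * β e)) = 1 := by
  simp only [map_mul, map_inv]
  rw [cube β h3]
  group

/-- Three elements as in a four-group or a quaternion group. -/
theorem triple {k : M} (hM : IsPGroup 2 M) (hk : k * β k * β (β k) = 1) (hu : β (k * k) = k * k)
    (hul : Commute (k * k) (β k)) (hck : Commute ⁅k, β k⁆ k) :
    k * k * (k * k) = 1 ∧ β k * β k = k * k ∧ β (β k) * β (β k) = k * k ∧
      β k * k * (β k)⁻¹ = k⁻¹ ∧ k * β k = k * k * β (β k) := by
  set l := β k with hl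
  set c := ⁅k, l⁆ with hc
  set u := k * k with hudef
  have hll : l * l = u := by rw [hl, ← map_mul, hu]
  have hmm : β l * β l = u := by rw [← map_mul, hll, hu]
  have hcc : c * c = 1 := by
    have h1 : ⁅u, l⁆ = 1 := commutatorElement_eq_one_iff_commute.2 hul
    rw [show ⁅u, l⁆ = k * c * k⁻¹ * c by
      rw [hc, hudef]; simp only [commutatorElement_def]; group, ← hck.eq,
      mul_inv_cancel_right] at h1
    exact h1
  have hm : β l = (k * l)⁻¹ := eq_inv_of_mul_eq_one_right hk
  have hlk : l * k = c * (k * l) := by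
    rw [show l * k = c⁻¹ * (k * l) by rw [hc]; simp only [commutatorElement_def]; group,
      inv_eq_of_mul_eq_one_right hcc]
  have hsq : k * l * (k * l) = c * (u * u) := by
    calc k * l * (k * l) = k * (l * k) * l := by group
      _ = k * c * k * (l * l) := by rw [hlk]; group
      _ = c * k * k * (l * l) := by rw [← hck.eq]
      _ = c * (u * u) := by rw [hll, hudef]; group
  have h1 : c * (u * u) = u⁻¹ := by
    rw [← hsq]
    rw [hm, ← mul_inv_rev] at hmm
    exact inv_eq_iff_eq_inv.1 hmm
  have hcu : Commute c u := by rw [hudef]; exact hck.mul_right hck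
  have h6 : u ^ 6 = 1 := by
    have h2 : c = (u ^ 3)⁻¹ := by
      rw [eq_mul_inv_of_mul_eq h1, ← mul_inv_rev]; congr 1; rw [pow_succ, pow_two]
    rw [h2, ← mul_inv_rev, inv_eq_one] at hcc
    rw [← hcc]; group
  haveI : Fact (Nat.Prime 2) := ⟨Nat.prime_two⟩
  obtain ⟨n, hn⟩ := IsPGroup.iff_orderOf.1 hM u
  have hd := orderOf_dvd_of_pow_eq_one h6
  rw [hn, show 6 = 2 * 3 from rfl] at hd
  have hd2 := (Nat.Coprime.pow_left n (by norm_num : Nat.Coprime 2 3)).dvd_of_dvd_mul_right hd
  rw [← hn] at hd2
  have huu : u * u = 1 := by rw [← pow_two]; exact orderOf_dvd_iff_pow_eq_one.1 hd2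
  have hcu' : c = u := by
    rw [huu, mul_one] at h1
    rw [h1, inv_eq_of_mul_eq_one_right huu]
  refine ⟨huu, hll, hmm, ?_, ?_⟩
  · rw [hlk, hcu', show u * (k * l) * l⁻¹ = u * k by group]
    refine eq_inv_of_mul_eq_one_left ?_
    rw [mul_assoc, ← hudef, huu]
  · rw [hm, ← hll]
    refine eq_mul_inv_iff_mul_eq.2 ?_
    rw [hsq, hcu', huu, mul_one, hll]

/-- A fixed-point-free automorphism of order three commutes each element with its image. -/
theorem fpf_comm (hf : ∀ x, β x = x → x = 1) (x : M) : Commute x (β x) := by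
  have hinj : Function.Injective fun e : M => e⁻¹ * β e := fun a b e => by
    have : β (a * b⁻¹) = a * b⁻¹ := by
      have e' : a⁻¹ * β a = b⁻¹ * β b := e
      rw [map_mul, map_inv, eq_comm, show β a = a * (b⁻¹ * β b) by rw [← e', mul_inv_cancel_left]]
      group
    exact mul_inv_eq_one.1 (hf _ this)
  have hall : ∀ m : M, m * β m * β (β m) = 1 := fun m => by
    obtain ⟨e, rfl⟩ := (Finite.injective_iff_surjective.1 hinj) m
    exact k_rel β h3 e
  have h1 := eq_inv_of_mul_eq_one_right (hall x)
  have h2 := hall x⁻¹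
  rw [map_inv, map_inv, ← mul_inv_rev, ← mul_inv_rev, inv_eq_one] at h2
  have h3' := eq_inv_of_mul_eq_one_left h2
  rw [h1, inv_inj] at h3'
  exact h3'

/-- A `2`-group of rank at most three with a fixed-point-free automorphism of order three is
abelian of rank two. -/
theorem fpf_abelian (hM : IsPGroup 2 M) (hne : Nontrivial M) (hi : (frattini M).index ≤ 8)
    (hf : ∀ x, β x = x → x = 1) :
    (frattini M).index = 4 ∧ (∀ x y : M, x * y = y * x) ∧
      ∀ x ∉ frattini M, closure ({x, β x} : Set M) = ⊤ := by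
  haveI : Fact (Nat.Prime 2) := ⟨Nat.prime_two⟩
  set Φ := frattini M
  have hmove : ∀ x, x⁻¹ * β x ∈ Φ → x ∈ Φ := fun x hx => by
    obtain ⟨y, hy, hfy⟩ := exists_fixed_rep hM β Nat.prime_three (by norm_num) h3 Φ
      (fun z hz => frattini_map_mem β hz) hx
    rw [hf y hfy, mul_one] at hy
    exact inv_mem_iff.1 hy
  have h4 : Φ.index = 4 := by
    let T := {v : M ⧸ Φ // v ≠ 1}
    let σ : Equiv.Perm T := Equiv.subtypeEquiv (autQ Φ β).toEquiv fun v =>
      ((autQ Φ β).map_ne_one_iff).symm
    have hσn : ∀ n : ℕ, ∀ y : T, ((σ ^ n) y : M ⧸ Φ) = (autQ Φ (β ^ n)) y.1 := fun n => by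
      induction n with
      | zero => intro y; rw [pow_zero, pow_zero, map_one]; rfl
      | succ n ih => intro y; rw [pow_succ, Equiv.Perm.mul_apply, ih, pow_succ, map_mul]; rfl
    have hσ : σ ^ 3 = 1 := Equiv.ext fun y => Subtype.ext (by rw [hσn, h3, map_one]; rfl)
    have hd : 3 ∣ Nat.card T := by
      by_contra hd
      obtain ⟨⟨v, hv⟩, hy⟩ := exists_fixed σ Nat.prime_three hσ hd
      obtain ⟨x, rfl⟩ := QuotientGroup.mk_surjective v
      have h1 : ((β x : M) : M ⧸ Φ) = x := congrArg Subtype.val hy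
      exact hv ((QuotientGroup.eq_one_iff x).2 (hmove x (QuotientGroup.eq.1 h1.symm)))
    have hT : Nat.card T + 1 = Φ.index := by
      classical
      haveI := Fintype.ofFinite (M ⧸ Φ)
      rw [Subgroup.index, Nat.card_eq_fintype_card, Nat.card_eq_fintype_card,
        Fintype.card_subtype_compl, Fintype.card_subtype_eq,
        Nat.sub_add_cancel Fintype.card_pos]
    obtain ⟨k, hk⟩ := hM.index Φ
    have h1 : Φ.index ≠ 1 := fun e => frattini_ne_top hne (index_eq_one.1 e)
    rcases k with _ | _ | _ | _ | k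
    · omega
    · rw [hk] at hT hi h1; norm_num at hT; omega
    · rw [hk]; norm_num
    · rw [hk] at hT hi h1; norm_num at hT; omega
    · rw [hk, show k + 1 + 1 + 1 + 1 = k + 4 by ring, pow_add] at hi
      have : 1 ≤ 2 ^ k := Nat.one_le_two_pow
      omega
  have hgen : ∀ x ∉ Φ, closure ({x, β x} : Set M) = ⊤ := by
    intro x hx
    refine frattini_nongenerating (eq_top_iff.2 fun g _ => ?_)
    set D := closure ({x, β x} : Set M) ⊔ Φ
    have hxD : x ∈ D := mem_sup_left (subset_closure (by simp))
    have hbD : β x ∈ D := mem_sup_left (subset_closure (by simp))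
    haveI : D.Normal := Normal.of_commutator_le M
      ((Grp.pGroup_commutator_le_frattini hM).trans le_sup_right)
    by_contra hg
    classical
    have hbx : β x ∉ Φ := fun e => hx (by
      have := frattini_map_mem β⁻¹ e
      rwa [MulAut.inv_apply_self] at this)
    have hb2 : x * β x ∉ Φ := fun e => hx (hmove x (by
      have := Grp.pGroup_pow_mem_frattini hM x
      rw [pow_two] at this
      rw [show x⁻¹ * β x = (x * x)⁻¹ * (x * β x) by group]
      exact mul_mem (inv_mem this) e))
    have e1 : ∀ u : M, u ∉ Φ → (u : M ⧸ Φ) ≠ 1 := fun u hu e => hu ((QuotientGroup.eq_one_iff u).1 e)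
    have e2 : ∀ u v : M, u⁻¹ * v ∉ Φ → (u : M ⧸ Φ) ≠ v := fun u v hu e => hu (QuotientGroup.eq.1 e)
    have hgD : ∀ u ∈ D, (u : M ⧸ Φ) ≠ (g : M ⧸ Φ) := fun u hu e => hg (by
      rw [← mul_inv_cancel_left u g]
      exact mul_mem hu (mem_sup_right (QuotientGroup.eq.1 e)))
    have := five_le_card (1 : M ⧸ Φ) (x : M ⧸ Φ) ((β x : M) : M ⧸ Φ) ((x * β x : M) : M ⧸ Φ)
      (g : M ⧸ Φ) (e1 x hx).symm (e1 _ hbx).symm (e1 _ hb2).symm
      (fun e => hgD 1 (one_mem _) (by rw [QuotientGroup.mk_one]; exact e))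
      (e2 x _ (fun e => hx (hmove x e))) (e2 x (x * β x) (by rwa [inv_mul_cancel_left]))
      (hgD x hxD)
      (e2 (β x) (x * β x) fun e => hx (by
        have h' := Normal.conj_mem (inferInstance : Φ.Normal) _ e (β x)
        rwa [show β x * ((β x)⁻¹ * (x * β x)) * (β x)⁻¹ = x by group] at h'))
      (hgD _ hbD) (hgD _ (mul_mem hxD hbD))
    rw [Subgroup.index] at h4
    omega
  refine ⟨h4, ?_, hgen⟩
  obtain ⟨x, hx⟩ : ∃ x, x ∉ Φ := by
    by_contra h; push Not at h
    exact frattini_ne_top hne (eq_top_iff.2 fun x _ => h x)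
  have hc : closure ({x, β x} : Set M) ≤ center M := (closure_le _).2 (by
    have hcx : ∀ w ∈ ({x, β x} : Set M), ∀ w' ∈ ({x, β x} : Set M), w * w' = w' * w := by
      have := fpf_comm β h3 hf x
      rintro w (rfl | rfl) w' (rfl | rfl) <;> first | rfl | exact this.eq | exact this.eq.symm
    intro w hw
    refine mem_center_iff.2 fun g => ?_
    have : closure ({x, β x} : Set M) ≤ centralizer {w} := (closure_le _).2 fun w' hw' =>
      mem_centralizer_singleton_iff.2 (hcx w' hw' w hw)
    exact mem_centralizer_singleton_iff.1 (this ((hgen x hx).ge (mem_top g))))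
  rw [hgen x hx] at hc
  exact fun a b => (mem_center_iff.1 (hc (mem_top b)) a)

/-- With `β` trivial on the Frattini subgroup, `k = e⁻¹ β(e)` centralises it. -/
theorem k_centralizes (htriv : ∀ f ∈ frattini M, β f = f) (e : M) {f : M} (hf : f ∈ frattini M) :
    Commute (e⁻¹ * β e) f := by
  have h1 : e * f * e⁻¹ ∈ frattini M := Normal.conj_mem inferInstance f hf e
  have h2 := htriv _ h1
  rw [map_mul, map_mul, map_inv, htriv f hf] at h2
  calc e⁻¹ * β e * f = e⁻¹ * (β e * f * (β e)⁻¹) * β e := by group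
    _ = f * (e⁻¹ * β e) := by rw [h2]; group

/-- The triple in the case of trivial action on the Frattini subgroup. -/
theorem triple_of_triv (hM : IsPGroup 2 M) (htriv : ∀ f ∈ frattini M, β f = f) (e : M) :
    let k := e⁻¹ * β e
    k * k * (k * k) = 1 ∧ β k * β k = k * k ∧ β (β k) * β (β k) = k * k ∧
      β k * k * (β k)⁻¹ = k⁻¹ ∧ k * β k = k * k * β (β k) := by
  haveI : Fact (Nat.Prime 2) := ⟨Nat.prime_two⟩
  intro k
  have hk2 : k * k ∈ frattini M := by rw [← pow_two]; exact Grp.pGroup_pow_mem_frattini hM k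
  have hc : ⁅k, β k⁆ ∈ frattini M :=
    Grp.pGroup_commutator_le_frattini hM (commutator_mem_commutator_top _ _)
  have hbk : β k = (β e)⁻¹ * β (β e) := by simp only [k, map_mul, map_inv]
  refine triple β h3 hM (k_rel β h3 e) (htriv _ hk2) ?_ (k_centralizes β h3 htriv e hc).symm
  rw [hbk]
  exact (k_centralizes β h3 htriv (β e) hk2).symm

end Three

end Cfsg.Agent.Fus.Bicyclic
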