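import Cfsg.Agent.Lib.Fus.Bicyclic.Facts

/-!
An element `y` outside the Frattini subgroup `Φ` whose square lies in `W`: it centralises `W`, some
commutator `⁅g, y⁆` is the central involution, and if `y ^ 2` is central then `y` inverts the
derived subgroup and every element of it is a commutator with `y`.
-/

set_option autoImplicit false
set_option linter.style.haveILetI false
set_option linter.unusedSectionVars false
set_option maxHeartbeats 1000000

open scoped commutatorElement

namespace Cfsg.Agent.Fus.Bicyclic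

open Subgroup

universe u

variable {X : Type u} [Group X] [Finite X]

theorem mem_normalizer_of_conj {G : Type*} [Group G] [Finite G] {N : Subgroup G} {g : G}
    (h : ∀ x ∈ N, g * x * g⁻¹ ∈ N) : g ∈ normalizer (N : Set G) := by
  have h1 : N.map (MulAut.conj g).toMonoidHom = N := by
    refine eq_of_le_of_card_ge ?_ (card_map_of_injective (MulAut.conj g).injective).ge
    rintro _ ⟨x, hx, rfl⟩
    exact h x hx
  refine mem_normalizer_iff.2 fun u => ⟨h u, fun hu => ?_⟩
  rw [← h1] at hu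
  obtain ⟨w, hw, hwe⟩ := hu
  rwa [← (MulAut.conj g).injective (show (MulAut.conj g) w = (MulAut.conj g) u from hwe)]

namespace Setup

variable (St : Setup X)

include St

theorem exists_gen {y : X} (hy : y ∉ frattini X) :
    ∃ a : X, closure ({a, y} : Set X) = ⊤ ∧ a ∉ frattini X ∧ a⁻¹ * y ∉ frattini X := by
  obtain ⟨x₀, y₀, h⟩ := St.bic
  have hnc := not_isCyclic_of_not_metacyclic St.not_meta
  obtain ⟨-, hx, hy0, -, -⟩ := h.frattini_index St.isP hnc
  have hgen : ∃ a : X, closure ({a, y} : Set X) = ⊤ := by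
    obtain ⟨i, j, hij⟩ := h y
    have h2 : ∀ (u : X) (k : ℤ), u ^ (2 * k) ∈ frattini X := fun u k => by
      rw [zpow_mul, zpow_two]; exact zpow_mem (St.sq_mem u) k
    rcases Int.even_or_odd j with ⟨l, hl⟩ | ⟨l, hl⟩
    · rcases Int.even_or_odd i with ⟨k, hk⟩ | ⟨k, hk⟩
      · exfalso
        refine hy ?_
        rw [hij, hk, hl, ← two_mul, ← two_mul]
        exact mul_mem (h2 _ _) (h2 _ _)
      · refine ⟨y₀, frattini_nongenerating (eq_top_iff.2 (h.closure_eq_top.ge.trans ((closure_le _).2 ?_)))⟩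
        rintro w (rfl | rfl)
        · have hyc : y ∈ closure ({y₀, y} : Set X) ⊔ frattini X :=
            mem_sup_left (subset_closure (by simp))
          have e : w = (w ^ (2 * k))⁻¹ * (y * (y₀ ^ j)⁻¹) := by
            rw [hij, hk, zpow_add, zpow_one]; group
          rw [SetLike.mem_coe, e]
          refine mul_mem (inv_mem (mem_sup_right (h2 w k))) (mul_mem hyc (inv_mem ?_))
          exact mem_sup_left (zpow_mem (subset_closure (by simp)) j)
        · exact mem_sup_left (subset_closure (by simp))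
    · refine ⟨x₀, frattini_nongenerating (eq_top_iff.2 (h.closure_eq_top.ge.trans ((closure_le _).2 ?_)))⟩
      rintro w (rfl | rfl)
      · exact mem_sup_left (subset_closure (by simp))
      · have hyc : y ∈ closure ({x₀, y} : Set X) ⊔ frattini X :=
          mem_sup_left (subset_closure (by simp))
        have e : w = (w ^ (2 * l))⁻¹ * ((x₀ ^ i)⁻¹ * y) := by
          rw [hij, hl, zpow_add, zpow_one]; group
        rw [SetLike.mem_coe, e]
        exact mul_mem (inv_mem (mem_sup_right (h2 w l)))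
          (mul_mem (inv_mem (mem_sup_left (zpow_mem (subset_closure (by simp)) i))) hyc)
  obtain ⟨a, ha⟩ := hgen
  refine ⟨a, ha, ?_, ?_⟩
  · intro haΦ
    refine hnc ⟨⟨y, fun q => ?_⟩⟩
    have : zpowers y = ⊤ := frattini_nongenerating (eq_top_iff.2 (ha ▸ (closure_le _).2 ?_))
    · exact mem_zpowers_iff.1 (this.symm ▸ mem_top q : q ∈ zpowers y)
    · rintro w (rfl | rfl)
      · exact mem_sup_right haΦ
      · exact mem_sup_left (mem_zpowers _)
  · intro haΦ
    refine hnc ⟨⟨a, fun q => ?_⟩⟩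
    have : zpowers a = ⊤ := frattini_nongenerating (eq_top_iff.2 (ha ▸ (closure_le _).2 ?_))
    · exact mem_zpowers_iff.1 (this.symm ▸ mem_top q : q ∈ zpowers a)
    · rintro w (rfl | rfl)
      · exact mem_sup_left (mem_zpowers _)
      · rw [SetLike.mem_coe, ← mul_inv_cancel_left a w]
        exact mul_mem (mem_sup_left (mem_zpowers _)) (mem_sup_right haΦ)

/-- The four cosets of the Frattini subgroup. -/
theorem four_cosets {a y : X} (ha : a ∉ frattini X) (hy : y ∉ frattini X)
    (hay : a⁻¹ * y ∉ frattini X) (g : X) :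
    g ∈ frattini X ∨ y⁻¹ * g ∈ frattini X ∨ a⁻¹ * g ∈ frattini X ∨ (a * y)⁻¹ * g ∈ frattini X := by
  classical
  by_contra h
  push Not at h
  obtain ⟨h1, h2, h3, h4⟩ := h
  have hyinv : (a * y)⁻¹ * a ∉ frattini X := fun e => hy (inv_mem_iff.1 (by
    rwa [show (a * y)⁻¹ * a = y⁻¹ by group] at e))
  have hayy : (a * y)⁻¹ * y ∉ frattini X := fun e => ha (inv_mem_iff.1 (by
    have := Normal.conj_mem (inferInstance : (frattini X).Normal) _ e y
    rwa [show y * ((a * y)⁻¹ * y) * y⁻¹ = a⁻¹ by group] at this))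
  have hayΦ : a * y ∉ frattini X := fun e => hay (by
    rw [show a⁻¹ * y = (a * a)⁻¹ * (a * y) by group]
    exact mul_mem (inv_mem (St.sq_mem a)) e)
  let l : Fin 5 → X ⧸ frattini X := ![1, y, a, ((a * y : X) : X ⧸ frattini X), g]
  have e1 : ∀ u : X, u ∉ frattini X → (u : X ⧸ frattini X) ≠ 1 := fun u hu e =>
    hu ((QuotientGroup.eq_one_iff u).1 e)
  have e2 : ∀ u v : X, u⁻¹ * v ∉ frattini X → (u : X ⧸ frattini X) ≠ v := fun u v hu e =>
    hu (QuotientGroup.eq.1 e)
  have n1 := e1 y hy; have n2 := e1 a ha; have n3 := e1 _ hayΦ; have n4 := e1 g h1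
  have n5 := e2 a y hay; have n6 := e2 _ y hayy; have n7 := e2 _ a hyinv
  have n8 := e2 y g h2; have n9 := e2 a g h3; have n10 := e2 _ g h4
  have hl : Function.Injective l := by
    intro i j e
    fin_cases i <;> fin_cases j <;> simp_all [l, eq_comm]
  have := Nat.card_le_card_of_injective l hl
  rw [Nat.card_fin] at this
  have hidx : Nat.card (X ⧸ frattini X) = 4 := St.frattini_index
  omega

/-- The squares of the derived subgroup. -/
def Q : Subgroup X where
  carrier := {t | ∃ s ∈ commutator X, s * s = t}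
  one_mem' := ⟨1, one_mem _, one_mul 1⟩
  mul_mem' := by
    rintro _ _ ⟨s, hs, rfl⟩ ⟨t, ht, rfl⟩
    exact ⟨s * t, mul_mem hs ht, by
      rw [show s * t * (s * t) = s * (t * s) * t by group, St.comm_X' ht hs]; group⟩
  inv_mem' := by
    rintro _ ⟨s, hs, rfl⟩
    exact ⟨s⁻¹, inv_mem hs, by rw [mul_inv_rev]⟩

theorem mem_Q {t : X} : t ∈ St.Q ↔ ∃ s ∈ commutator X, s * s = t := Iff.rfl

theorem Q_le : St.Q ≤ commutator X := by
  rintro _ ⟨s, hs, rfl⟩; exact mul_mem hs hs

theorem Q_normal : St.Q.Normal := ⟨by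
  rintro _ ⟨s, hs, rfl⟩ g
  exact ⟨g * s * g⁻¹, Normal.conj_mem inferInstance s hs g, by group⟩⟩

/-- The squares have index four in the derived subgroup. -/
theorem relIndex_Q : St.Q.relIndex (commutator X) = 4 := by
  let φ : ↥(commutator X) →* X :=
    { toFun := fun s => (s : X) * s
      map_one' := by simp
      map_mul' := fun s t => by
        show (s : X) * t * ((s : X) * t) = (s : X) * s * ((t : X) * t)
        rw [show (s : X) * t * ((s : X) * t) = (s : X) * ((t : X) * s) * t by group,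
          St.comm_X' t.2 s.2]
        group }
  have hr : φ.range = St.Q := by
    ext t
    constructor
    · rintro ⟨s, rfl⟩; exact ⟨s, s.2, rfl⟩
    · rintro ⟨s, hs, rfl⟩; exact ⟨⟨s, hs⟩, rfl⟩
  have hk : φ.ker = St.W.subgroupOf (commutator X) := by
    ext s
    rw [MonoidHom.mem_ker, mem_subgroupOf]
    exact ⟨fun h => ⟨St.commutator_le s.2, h⟩, fun h => h.2⟩
  have h1 := φ.ker.index_mul_card
  have h2 : φ.ker.index = Nat.card St.Q := by rw [index_ker, hr]
  rw [h2, hk, Nat.card_congr (subgroupOfEquivOfLe St.W_le).toEquiv, St.card_W] at h1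
  have h3 := (St.Q.subgroupOf (commutator X)).index_mul_card
  rw [Nat.card_congr (subgroupOfEquivOfLe St.Q_le).toEquiv] at h3
  have hQ : 0 < Nat.card St.Q := Nat.card_pos
  show (St.Q.subgroupOf (commutator X)).index = 4
  nlinarith

/-- In the quotient by the squares, images of the derived subgroup commute and have square one. -/
theorem Q_quot [St.Q.Normal] {s t : X} (hs : s ∈ commutator X) (ht : t ∈ commutator X) :
    (s : X ⧸ St.Q) * t = t * s ∧ (s : X ⧸ St.Q) * s = 1 := by
  constructor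
  · rw [← QuotientGroup.mk_mul, ← QuotientGroup.mk_mul, St.comm_X' hs ht]
  · rw [← QuotientGroup.mk_mul]; exact (QuotientGroup.eq_one_iff _).2 ⟨s, hs, rfl⟩

/-- Four classes modulo the squares: with `c = ⁅a, y⁆` and `c' = a c a⁻¹`. -/
theorem classes [St.Q.Normal] {a y : X} (hgen : closure ({a, y} : Set X) = ⊤)
    (hyc : ∀ t ∈ commutator X, (y : X ⧸ St.Q) * t = t * y) :
    ((⁅a, y⁆ : X) : X ⧸ St.Q) ≠ 1 ∧ (a : X ⧸ St.Q) * ((⁅a, y⁆ : X) : X ⧸ St.Q) * (a : X ⧸ St.Q)⁻¹ ≠ ((⁅a, y⁆ : X) : X ⧸ St.Q) ∧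
      (a : X ⧸ St.Q) * ((a : X ⧸ St.Q) * ((⁅a, y⁆ : X) : X ⧸ St.Q) * (a : X ⧸ St.Q)⁻¹) * (a : X ⧸ St.Q)⁻¹ = ((⁅a, y⁆ : X) : X ⧸ St.Q) ∧
      ∀ t ∈ commutator X, (t : X ⧸ St.Q) = 1 ∨ (t : X ⧸ St.Q) = ((⁅a, y⁆ : X) : X ⧸ St.Q) ∨
        (t : X ⧸ St.Q) = (a : X ⧸ St.Q) * ((⁅a, y⁆ : X) : X ⧸ St.Q) * (a : X ⧸ St.Q)⁻¹ ∨
        (t : X ⧸ St.Q) = ((⁅a, y⁆ : X) : X ⧸ St.Q) * ((a : X ⧸ St.Q) * ((⁅a, y⁆ : X) : X ⧸ St.Q) * (a : X ⧸ St.Q)⁻¹) := by
  haveI : Fact (Nat.Prime 2) := ⟨Nat.prime_two⟩
  set c := ⁅a, y⁆ with hc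
  have hcX : c ∈ commutator X := commutator_mem_commutator_top a y
  set V : Subgroup (X ⧸ St.Q) := (commutator X).map (QuotientGroup.mk' St.Q)
  have hV : Nat.card V = 4 := by
    have h := relIndex_ker (QuotientGroup.mk' St.Q) (K := commutator X)
    rwa [QuotientGroup.ker_mk', St.relIndex_Q, eq_comm] at h
  set A : X ⧸ St.Q := (a : X ⧸ St.Q) with hA
  set C : X ⧸ St.Q := (c : X ⧸ St.Q) with hC
  have hVc : ∀ {P R : X ⧸ St.Q}, P ∈ V → R ∈ V → P * R = R * P ∧ P * P = 1 := by
    rintro _ _ ⟨s, hs, rfl⟩ ⟨t, ht, rfl⟩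
    exact St.Q_quot hs ht
  have hmk : ∀ t ∈ commutator X, ((t : X) : X ⧸ St.Q) ∈ V := fun t ht => ⟨t, ht, rfl⟩
  have hVn : V.Normal := Normal.map inferInstance _ (QuotientGroup.mk'_surjective _)
  have hgen' : closure ({A, (y : X ⧸ St.Q)} : Set (X ⧸ St.Q)) = ⊤ := by
    have := MonoidHom.map_closure (QuotientGroup.mk' St.Q) ({a, y} : Set X)
    rw [hgen, Subgroup.map_top_of_surjective _ (QuotientGroup.mk'_surjective _), Set.image_pair] at this
    exact this.symm
  -- a subgroup of `V` containing `C` and stable under `A` is everything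
  have hbig : ∀ N : Subgroup (X ⧸ St.Q), N ≤ V → C ∈ N → (∀ P ∈ N, A * P * A⁻¹ ∈ N) → N = V := by
    intro N hNV hCN haN
    haveI : N.Normal := by
      refine normalizer_eq_top_iff.1 (eq_top_iff.2 (hgen' ▸ (closure_le _).2 ?_))
      rintro g hg
      refine SetLike.mem_coe.2 (mem_normalizer_of_conj fun P hP => ?_)
      rcases hg with rfl | rfl
      · exact haN P hP
      · obtain ⟨t, ht, e⟩ := hNV hP
        rw [← e, QuotientGroup.mk'_apply, hyc t ht, mul_inv_cancel_right, ← QuotientGroup.mk'_apply, e]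
        exact hP
    haveI : (N.comap (QuotientGroup.mk' St.Q)).Normal := Normal.comap inferInstance _
    have hle : commutator X ≤ N.comap (QuotientGroup.mk' St.Q) := commutator_le_of_gens hgen (by
      rintro u (rfl | rfl) v (rfl | rfl)
      · rw [commutatorElement_self]; exact one_mem _
      · exact hCN
      · rw [← commutatorElement_inv]; exact inv_mem hCN
      · rw [commutatorElement_self]; exact one_mem _)
    exact le_antisymm hNV (by rintro _ ⟨t, ht, rfl⟩; exact hle ht)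
  have hC1 : C ≠ 1 := fun h => by
    have := hbig ⊥ bot_le (mem_bot.2 h) fun P hP => by rw [mem_bot.1 hP]; simp
    rw [← this, card_bot] at hV
    omega
  have hCC : C * C = 1 := (hVc (hmk c hcX) (hmk c hcX)).2
  set C' : X ⧸ St.Q := A * C * A⁻¹ with hC'
  have hC'V : C' ∈ V := hVn.conj_mem _ (hmk c hcX) A
  have hne : C' ≠ C := fun h => by
    have := hbig (zpowers C) (zpowers_le.2 (hmk c hcX)) (mem_zpowers C) fun P hP => by
      obtain ⟨i, rfl⟩ := mem_zpowers_iff.1 hP
      rw [← conj_zpow, ← hC', h]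
      exact zpow_mem (mem_zpowers C) i
    rw [← this, Nat.card_zpowers] at hV
    have hd := orderOf_dvd_of_pow_eq_one ((pow_two C).trans hCC)
    rw [hV] at hd; omega
  have hC'1 : C' ≠ 1 := fun h => hC1 (conj_eq_one_iff.1 h)
  have hC'C' : C' * C' = 1 := (hVc hC'V hC'V).2
  have hprod : C * C' ≠ 1 := fun h => hne (by
    rw [eq_inv_of_mul_eq_one_right h, inv_eq_of_mul_eq_one_right hCC])
  have hcls : ∀ t ∈ commutator X, (t : X ⧸ St.Q) = 1 ∨ (t : X ⧸ St.Q) = C ∨
      (t : X ⧸ St.Q) = C' ∨ (t : X ⧸ St.Q) = C * C' := by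
    intro t ht
    by_contra h
    push Not at h
    obtain ⟨h1, h2, h3, h4⟩ := h
    have := five_le_card (V := V) 1 ⟨C, hmk c hcX⟩ ⟨C', hC'V⟩
      ⟨C * C', mul_mem (hmk c hcX) hC'V⟩ ⟨_, hmk t ht⟩
      (fun e => hC1 (congrArg Subtype.val e).symm) (fun e => hC'1 (congrArg Subtype.val e).symm)
      (fun e => hprod (congrArg Subtype.val e).symm) (fun e => h1 (congrArg Subtype.val e).symm)
      (fun e => hne (congrArg Subtype.val e).symm)
      (fun e => hC'1 (mul_eq_left.1 (congrArg Subtype.val e).symm))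
      (fun e => h2 (congrArg Subtype.val e).symm)
      (fun e => hC1 (mul_eq_right.1 (congrArg Subtype.val e).symm))
      (fun e => h3 (congrArg Subtype.val e).symm) (fun e => h4 (congrArg Subtype.val e).symm)
    omega
  refine ⟨hC1, hne, ?_, hcls⟩
  obtain ⟨u, hu, hue⟩ := hVn.conj_mem _ hC'V A
  rw [QuotientGroup.mk'_apply] at hue
  rcases hcls u hu with h | h | h | h <;> rw [hue] at h
  · exact absurd (conj_eq_one_iff.1 h) hC'1
  · exact h
  · refine absurd ?_ hne
    exact mul_left_cancel (mul_right_cancel (show A * C' * A⁻¹ = A * C * A⁻¹ from h.trans hC'))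
  · -- a cycle of length three is impossible
    exfalso
    have h3 : A ^ 3 * C * (A ^ 3)⁻¹ = C := by
      calc A ^ 3 * C * (A ^ 3)⁻¹ = A * (A * C' * A⁻¹) * A⁻¹ := by
            rw [hC', pow_succ A 2, pow_succ A 1, pow_one]; group
        _ = A * C * A⁻¹ * (A * C' * A⁻¹) := by conv_lhs => rw [h]
                                               group
        _ = C' * (C * C') := by rw [h, ← hC']
        _ = C := by rw [(hVc (hmk c hcX) hC'V).1, ← mul_assoc, hC'C', one_mul]
    obtain ⟨k, hk⟩ := St.isP a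
    obtain ⟨N, hN⟩ : ∃ N : ℕ, (A ^ 3) ^ N = A := by
      refine exists_pow_eq_self_of_coprime ?_
      refine Nat.Coprime.coprime_dvd_right (orderOf_dvd_of_pow_eq_one ?_)
        (Nat.Coprime.pow_right k (by norm_num) : Nat.Coprime 3 (2 ^ k))
      rw [hA, ← QuotientGroup.mk_pow, hk, QuotientGroup.mk_one]
    have hcm : Commute (A ^ 3) C := mul_inv_eq_iff_eq_mul.1 h3
    have := hcm.pow_left N
    rw [hN] at this
    exact hne (mul_inv_eq_iff_eq_mul.2 this.eq)

/-- `y` acts on the derived subgroup compatibly with all of `X`. -/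
theorem conj_comm {y g t : X} (ht : t ∈ commutator X) :
    y * (g * t * g⁻¹) * y⁻¹ = g * (y * t * y⁻¹) * g⁻¹ := by
  have h1 := St.comm_X' (commutator_mem_commutator_top g⁻¹ y)
    (Normal.conj_mem (inferInstance : (commutator X).Normal) t ht y)
  calc y * (g * t * g⁻¹) * y⁻¹ = g * (⁅g⁻¹, y⁆ * (y * t * y⁻¹)) * ⁅g⁻¹, y⁆⁻¹ * g⁻¹ := by
          simp only [commutatorElement_def]; group
    _ = _ := by rw [h1, ← mul_assoc g, mul_inv_cancel_right]

/-- Generators of the derived subgroup modulo the squares as commutators with `y`. -/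
theorem hits [St.Q.Normal] {a y : X} (hgen : closure ({a, y} : Set X) = ⊤)
    (hyc : ∀ t ∈ commutator X, (y : X ⧸ St.Q) * t = t * y) {t : X} (ht : t ∈ commutator X) :
    ∃ g : X, ((⁅g, y⁆ : X) : X ⧸ St.Q) = t := by
  obtain ⟨-, -, hswap, hcls⟩ := St.classes hgen hyc
  have hcX := commutator_mem_commutator_top a y
  have hc'X : a * ⁅a, y⁆ * a⁻¹ ∈ commutator X := Normal.conj_mem inferInstance _ hcX a
  rcases hcls t ht with h | h | h | h
  · exact ⟨1, by rw [commutatorElement_one_left, h, QuotientGroup.mk_one]⟩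
  · exact ⟨a, h.symm⟩
  · refine ⟨a * a * a, ?_⟩
    rw [h, show ⁅a * a * a, y⁆ = a * (a * ⁅a, y⁆ * a⁻¹) * a⁻¹ * (a * ⁅a, y⁆ * a⁻¹) * ⁅a, y⁆ by
      simp only [commutatorElement_def]; group]
    simp only [QuotientGroup.mk_mul, QuotientGroup.mk_inv]
    rw [hswap]
    have h2 := St.Q_quot hcX hc'X
    simp only [QuotientGroup.mk_mul, QuotientGroup.mk_inv] at h2
    rw [h2.1, mul_assoc, h2.2, mul_one]
  · refine ⟨a * a, ?_⟩
    rw [h, show ⁅a * a, y⁆ = a * ⁅a, y⁆ * a⁻¹ * ⁅a, y⁆ by simp only [commutatorElement_def]; group]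
    have h2 := St.Q_quot hcX hc'X
    simp only [QuotientGroup.mk_mul, QuotientGroup.mk_inv] at h2 ⊢
    exact h2.1.symm

/-- `y` inverts the derived subgroup if its square is central. -/
theorem inverts {y : X} (hy : y ∉ frattini X) (hz : ∀ g : X, g * (y * y) = y * y * g) :
    ∀ t ∈ commutator X, y * t * y⁻¹ = t⁻¹ := by
  obtain ⟨a, hgen, -, -⟩ := St.exists_gen hy
  set c := ⁅a, y⁆ with hc
  have hcX : c ∈ commutator X := commutator_mem_commutator_top a y
  let T : Subgroup X :=
    { carrier := {t | t ∈ commutator X ∧ y * t * y⁻¹ = t⁻¹}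
      one_mem' := ⟨one_mem _, by simp⟩
      mul_mem' := fun {s t} hs ht => ⟨mul_mem hs.1 ht.1, by
        rw [St.comm_X' hs.1 ht.1, show y * (t * s) * y⁻¹ = y * t * y⁻¹ * (y * s * y⁻¹) by group,
          ht.2, hs.2, ← St.comm_X' hs.1 ht.1, mul_inv_rev]⟩
      inv_mem' := fun {s} hs => ⟨inv_mem hs.1, by rw [← conj_inv, hs.2]⟩ }
  haveI : T.Normal := ⟨fun t ht g => ⟨Normal.conj_mem inferInstance t ht.1 g, by
    rw [St.conj_comm ht.1, ht.2, conj_inv]⟩⟩
  have hcT : c ∈ T := ⟨hcX, by
    rw [hc, commutatorElement_def]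
    calc y * (a * y * a⁻¹ * y⁻¹) * y⁻¹ = y * a * y⁻¹ * a⁻¹ * (a * (y * y)) * a⁻¹ * (y * y)⁻¹ := by
          group
      _ = y * a * y⁻¹ * a⁻¹ := by rw [hz a]; group
      _ = _ := by group⟩
  have hle : commutator X ≤ T := commutator_le_of_gens hgen (by
    rintro u (rfl | rfl) v (rfl | rfl)
    · rw [commutatorElement_self]; exact one_mem _
    · exact hcT
    · rw [← commutatorElement_inv]; exact inv_mem hcT
    · rw [commutatorElement_self]; exact one_mem _)
  exact fun t ht => (hle ht).2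

theorem commute_mod_Q [St.Q.Normal] {y : X} (hinv : ∀ t ∈ commutator X, y * t * y⁻¹ = t⁻¹) :
    ∀ t ∈ commutator X, (y : X ⧸ St.Q) * t = t * y := fun t ht => by
  rw [← mul_inv_eq_iff_eq_mul, ← QuotientGroup.mk_inv, ← QuotientGroup.mk_mul,
    ← QuotientGroup.mk_mul, hinv t ht, QuotientGroup.mk_inv]
  exact inv_eq_of_mul_eq_one_right (St.Q_quot ht ht).2

/-- If the square of `y` is central, every element of the derived subgroup is a commutator with
`y`. -/
theorem central_case {y : X} (hy : y ∉ frattini X) (hz : ∀ g : X, g * (y * y) = y * y * g) :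
    (∀ t ∈ commutator X, y * t * y⁻¹ = t⁻¹) ∧ ∀ t ∈ commutator X, ∃ g : X, ⁅g, y⁆ = t := by
  have hinv := St.inverts hy hz
  refine ⟨hinv, fun t ht => ?_⟩
  obtain ⟨a, hgen, -, -⟩ := St.exists_gen hy
  haveI := St.Q_normal
  obtain ⟨g, hg⟩ := St.hits hgen (St.commute_mod_Q hinv) ht
  obtain ⟨s, hs, e⟩ := QuotientGroup.eq.1 hg
  refine ⟨s * g, ?_⟩
  rw [show ⁅s * g, y⁆ = s * ⁅g, y⁆ * (y * s⁻¹ * y⁻¹) by
    simp only [commutatorElement_def]; group, hinv _ (inv_mem hs), inv_inv,
    St.comm_X' hs (commutator_mem_commutator_top g y), mul_assoc, e, mul_inv_cancel_left]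

/-- The centraliser of `y` when `y` inverts the derived subgroup. -/
theorem centralizer_central {y : X} (hy : y ∉ frattini X) (hz : ∀ g : X, g * (y * y) = y * y * g)
    {g : X} (hg : g * y = y * g) : g ∈ frattini X ∨ y⁻¹ * g ∈ frattini X := by
  haveI : Fact (Nat.Prime 2) := ⟨Nat.prime_two⟩
  obtain ⟨a, hgen, ha, hay⟩ := St.exists_gen hy
  haveI := St.Q_normal
  have hyc := St.commute_mod_Q (St.inverts hy hz)
  obtain ⟨hC1, hne, hswap, hcls⟩ := St.classes hgen hyc
  have hcX := commutator_mem_commutator_top a y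
  have hc'X : a * ⁅a, y⁆ * a⁻¹ ∈ commutator X := Normal.conj_mem inferInstance _ hcX a
  set A : X ⧸ St.Q := (a : X ⧸ St.Q) with hA
  set Y : X ⧸ St.Q := (y : X ⧸ St.Q) with hY
  set C : X ⧸ St.Q := ((⁅a, y⁆ : X) : X ⧸ St.Q) with hC
  set C' : X ⧸ St.Q := A * C * A⁻¹ with hC'
  set D : X ⧸ St.Q := C * C' with hD
  have hc2 := St.Q_quot hcX hc'X
  simp only [QuotientGroup.mk_mul, QuotientGroup.mk_inv, ← hA, ← hC, ← hC'] at hc2
  have hdX : ⁅a, y⁆ * (a * ⁅a, y⁆ * a⁻¹) ∈ commutator X := mul_mem hcX hc'X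
  have hDmk : ((⁅a, y⁆ * (a * ⁅a, y⁆ * a⁻¹) : X) : X ⧸ St.Q) = D := by
    simp only [QuotientGroup.mk_mul, QuotientGroup.mk_inv, ← hA, ← hC, ← hC', ← hD]
  have hgen' : closure ({A, Y} : Set (X ⧸ St.Q)) = ⊤ := by
    have := MonoidHom.map_closure (QuotientGroup.mk' St.Q) ({a, y} : Set X)
    rw [hgen, Subgroup.map_top_of_surjective _ (QuotientGroup.mk'_surjective _), Set.image_pair] at this
    exact this.symm
  have hDc : ∀ P : X ⧸ St.Q, P * D = D * P := by
    have : closure ({A, Y} : Set (X ⧸ St.Q)) ≤ centralizer {D} := (closure_le _).2 (by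
      rintro P (rfl | rfl)
      · refine mem_centralizer_singleton_iff.2 ?_
        rw [← mul_inv_eq_iff_eq_mul, hD, show A * (C * C') * A⁻¹ = A * C * A⁻¹ * (A * C' * A⁻¹) by
          group, ← hC', hswap, hc2.1]
      · refine mem_centralizer_singleton_iff.2 ?_
        have := hyc _ hdX
        rwa [hDmk] at this)
    exact fun P => mem_centralizer_singleton_iff.1 (this (hgen'.ge (mem_top P)))
  haveI : (zpowers D).Normal := ⟨fun x hx P => by
    obtain ⟨i, rfl⟩ := mem_zpowers_iff.1 hx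
    rw [← conj_zpow, hDc, mul_inv_cancel_right]
    exact zpow_mem (mem_zpowers _) i⟩
  set N : Subgroup X := (zpowers D).comap (QuotientGroup.mk' St.Q) with hN
  haveI : N.Normal := Normal.comap inferInstance _
  have hcN : ⁅a, y⁆ ∉ N := by
    intro h
    obtain ⟨i, hi⟩ := mem_zpowers_iff.1 (show C ∈ zpowers D from h)
    have hDD : D * D = 1 := by rw [← hDmk]; exact (St.Q_quot hdX hdX).2
    rcases Int.even_or_odd i with ⟨l, rfl⟩ | ⟨l, rfl⟩
    · rw [← two_mul, zpow_mul, zpow_two, hDD, one_zpow] at hi; exact hC1 hi.symm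
    · rw [zpow_add_one, zpow_mul, zpow_two, hDD, one_zpow, one_mul, hD, mul_eq_left] at hi
      exact hC1 (conj_eq_one_iff.1 hi)
  have hQN : St.Q ≤ N := fun q hq => by
    show (q : X ⧸ St.Q) ∈ zpowers D
    rw [(QuotientGroup.eq_one_iff q).2 hq]; exact one_mem _
  set G := X ⧸ N
  have hgenG : closure ({(a : G), (y : G)} : Set G) = ⊤ := by
    have := MonoidHom.map_closure (QuotientGroup.mk' N) ({a, y} : Set X)
    rw [hgen, Subgroup.map_top_of_surjective _ (QuotientGroup.mk'_surjective _), Set.image_pair] at this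
    exact this.symm
  have hXc : ∀ t ∈ commutator X, ∀ P : G, P * (t : G) = (t : G) * P := by
    intro t ht
    have hCC' : ((a * ⁅a, y⁆ * a⁻¹ : X) : G) = ((⁅a, y⁆ : X) : G) := by
      refine (QuotientGroup.eq.2 ?_).symm
      show ((⁅a, y⁆⁻¹ * (a * ⁅a, y⁆ * a⁻¹) : X) : X ⧸ St.Q) ∈ zpowers D
      simp only [QuotientGroup.mk_mul, QuotientGroup.mk_inv, ← hA, ← hC, ← hC']
      rw [inv_eq_of_mul_eq_one_right hc2.2]
      exact mem_zpowers _
    have hcc : ∀ P : G, P * ((⁅a, y⁆ : X) : G) = ((⁅a, y⁆ : X) : G) * P := by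
      have : closure ({(a : G), (y : G)} : Set G) ≤ centralizer {((⁅a, y⁆ : X) : G)} :=
        (closure_le _).2 (by
          rintro P (rfl | rfl)
          · refine mem_centralizer_singleton_iff.2 ?_
            rw [← mul_inv_eq_iff_eq_mul]
            exact hCC'
          · refine mem_centralizer_singleton_iff.2 ?_
            rw [← QuotientGroup.mk_mul, ← QuotientGroup.mk_mul, QuotientGroup.eq]
            exact hQN (QuotientGroup.eq.1 (by
              rw [QuotientGroup.mk_mul, QuotientGroup.mk_mul]; exact hyc _ hcX)))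
      exact fun P => mem_centralizer_singleton_iff.1 (this (hgenG.ge (mem_top P)))
    intro P
    haveI : ((center G).comap (QuotientGroup.mk' N)).Normal := Normal.comap inferInstance _
    have hle : commutator X ≤ (center G).comap (QuotientGroup.mk' N) := commutator_le_of_gens hgen (by
      rintro u (rfl | rfl) v (rfl | rfl)
      · rw [commutatorElement_self]; exact one_mem _
      · exact mem_center_iff.2 hcc
      · rw [← commutatorElement_inv]; exact inv_mem (mem_center_iff.2 hcc)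
      · rw [commutatorElement_self]; exact one_mem _)
    exact mem_center_iff.1 (hle ht) P
  let K : Subgroup X := (centralizer ({(y : G)} : Set G)).comap (QuotientGroup.mk' N)
  have hmemK : ∀ h : X, h ∈ K ↔ ⁅h, y⁆ ∈ N := fun h => by
    rw [← QuotientGroup.eq_one_iff (N := N), ← QuotientGroup.mk'_apply, map_commutatorElement,
      commutatorElement_eq_one_iff_mul_comm]
    exact mem_centralizer_singleton_iff
  haveI : K.Normal := Subgroup.Normal.of_commutator_le X fun t ht =>
    mem_centralizer_singleton_iff.2 ((hXc t ht (y : G)).symm)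
  have hΦK : frattini X ≤ K := frattini_le_of_sq K fun h => by
    rw [hmemK, pow_two, show ⁅h * h, y⁆ = h * ⁅h, y⁆ * h⁻¹ * ⁅h, y⁆ by
      simp only [commutatorElement_def]; group, ← QuotientGroup.eq_one_iff]
    have ht := commutator_mem_commutator_top h y
    rw [QuotientGroup.mk_mul, QuotientGroup.mk_mul, QuotientGroup.mk_mul, QuotientGroup.mk_inv,
      hXc _ ht (h : G), mul_inv_cancel_right, ← QuotientGroup.mk_mul, QuotientGroup.eq_one_iff]
    exact hQN ⟨_, ht, rfl⟩
  have haK : a ∉ K := fun h => hcN ((hmemK a).1 h)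
  have hyK : y ∈ K := (hmemK y).2 (by rw [commutatorElement_self]; exact one_mem _)
  have hgK : g ∈ K := (hmemK g).2 (by
    rw [commutatorElement_eq_one_iff_mul_comm.2 hg]; exact one_mem _)
  rcases St.four_cosets ha hy hay g with h | h | h | h
  · exact Or.inl h
  · exact Or.inr h
  · refine absurd ?_ haK
    have := K.mul_mem hgK (K.inv_mem (hΦK h))
    rwa [show g * (a⁻¹ * g)⁻¹ = a by group] at this
  · refine absurd ?_ haK
    have := K.mul_mem (K.mul_mem hgK (K.inv_mem (hΦK h))) (K.inv_mem hyK)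
    rwa [show g * ((a * y)⁻¹ * g)⁻¹ * y⁻¹ = a by group] at this

end Setup

end Cfsg.Agent.Fus.Bicyclic
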