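import Cfsg.Agent.Lib.Fus.Bicyclic.FrameFalse

/-!
Automorphisms of order seven of groups of order at most eight, and the resulting facts about
`2`-groups with an automorphism of order seven.
-/

set_option autoImplicit false
set_option linter.style.haveILetI false
set_option linter.unusedSectionVars false
set_option maxHeartbeats 1000000

open scoped commutatorElement

namespace Cfsg.Agent.Fus.Bicyclic

open Subgroup

universe u v

section Orbit

variable {V : Type v} [Group V] [Finite V] {g : MulAut V} (h7 : g ^ 7 = 1)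

include h7

theorem seven_pow_fixed {x : V} {m : ℕ} (hm : ¬ 7 ∣ m) (h : (g ^ m) x = x) : g x = x := by
  have hco : m.Coprime (orderOf g) :=
    (((Nat.Prime.coprime_iff_not_dvd (by norm_num : (7 : ℕ).Prime)).2 hm).symm).coprime_dvd_right
      (orderOf_dvd_of_pow_eq_one h7)
  obtain ⟨k, hk⟩ := exists_pow_eq_self_of_coprime hco
  have : ∀ k : ℕ, ((g ^ m) ^ k) x = x := fun k => by
    induction k with
    | zero => rfl
    | succ k ih => rw [pow_succ, MulAut.mul_apply, h, ih]
  have h2 := this k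
  rwa [hk] at h2

theorem seven_pow_inj {x : V} (hx : g x ≠ x) {i j : ℕ} (h : (g ^ i) x = (g ^ j) x) : i % 7 = j % 7 := by
  have key : ∀ i j : ℕ, i ≤ j → (g ^ i) x = (g ^ j) x → i % 7 = j % 7 := fun i j hij h => by
    by_contra hne
    refine hx (seven_pow_fixed h7 (m := j - i) (fun hd => hne (by omega)) ((g ^ i).injective ?_))
    rw [← MulAut.mul_apply, ← pow_add, Nat.add_sub_cancel' hij, ← h]
  rcases le_total i j with hl | hl
  · exact key i j hl h
  · exact (key j i hl h.symm).symm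

theorem seven_orbit_card {x : V} (hx : g x ≠ x) (S : Finset V) (hS : ∀ s ∈ S, g s = s) :
    7 + S.card ≤ Nat.card V := by
  classical
  haveI := Fintype.ofFinite V
  let f : Fin 7 → V := fun i => (g ^ (i : ℕ)) x
  have hf : Function.Injective f := fun i j e => Fin.ext (by
    have := seven_pow_inj h7 hx e
    omega)
  have hd : Disjoint (Finset.univ.image f) S := Finset.disjoint_left.2 fun s hs hsS => by
    obtain ⟨i, -, hi⟩ := Finset.mem_image.1 hs
    refine hx ((g ^ (i : ℕ)).injective ?_)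
    rw [← MulAut.mul_apply, ← pow_succ, pow_succ', MulAut.mul_apply,
      show (g ^ (i : ℕ)) x = s from hi, hS s hsS]
  have h := Finset.card_le_univ (Finset.univ.image f ∪ S)
  rw [Finset.card_union_of_disjoint hd, Finset.card_image_of_injective _ hf, Finset.card_univ,
    Fintype.card_fin, ← Nat.card_eq_fintype_card] at h
  exact h

theorem seven_free (hV : Nat.card V ≤ 8) (hg : g ≠ 1) {v : V} (hv : g v = v) : v = 1 := by
  classical
  by_contra h1
  obtain ⟨x, hx⟩ : ∃ x, g x ≠ x := by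
    by_contra h
    push Not at h
    exact hg (MulEquiv.ext h)
  have := seven_orbit_card h7 hx ({1, v} : Finset V) (by
    intro s hs
    simp only [Finset.mem_insert, Finset.mem_singleton] at hs
    rcases hs with rfl | rfl
    · exact map_one g
    · exact hv)
  rw [Finset.card_pair (Ne.symm h1)] at this
  omega

theorem seven_cover (hV : Nat.card V ≤ 8) (hg : g ≠ 1) {v w : V} (hv : v ≠ 1) (hw : w ≠ 1) :
    ∃ i : ℕ, (g ^ i) v = w := by
  classical
  haveI := Fintype.ofFinite V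
  rw [Nat.card_eq_fintype_card] at hV
  have hmove : g v ≠ v := fun h => hv (seven_free h7 (by rw [Nat.card_eq_fintype_card]; exact hV) hg h)
  by_contra hno
  push Not at hno
  let f : Fin 7 → V := fun i => (g ^ (i : ℕ)) v
  have hf : Function.Injective f := fun i j e => Fin.ext (by
    have := seven_pow_inj h7 hmove e
    omega)
  have hd : Disjoint (Finset.univ.image f) ({1, w} : Finset V) := Finset.disjoint_left.2 fun s hs hsS => by
    obtain ⟨i, -, hi⟩ := Finset.mem_image.1 hs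
    simp only [Finset.mem_insert, Finset.mem_singleton] at hsS
    rcases hsS with rfl | rfl
    · exact hv ((g ^ (i : ℕ)).map_eq_one_iff.1 hi)
    · exact hno i hi
  have h := Finset.card_le_univ (Finset.univ.image f ∪ {1, w})
  rw [Finset.card_union_of_disjoint hd, Finset.card_image_of_injective _ hf, Finset.card_univ,
    Fintype.card_fin, Finset.card_pair (Ne.symm hw)] at h
  omega

end Orbit

/-- A subgroup of `GL(3,2)` of order divisible by `14` has order divisible by `8`. -/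
theorem seven_eight {V : Type v} [Group V] [Finite V] (hV : Nat.card V ≤ 8)
    (hsq : ∀ v : V, v * v = 1) (G : Subgroup (MulAut V)) (hd : Nat.card G ∣ 168)
    (h7 : 7 ∣ Nat.card G) (h2 : 2 ∣ Nat.card G) (h8 : ¬ 8 ∣ Nat.card G) : False := by
  haveI : Fact (Nat.Prime 7) := ⟨by norm_num⟩
  haveI : Fact (Nat.Prime 2) := ⟨Nat.prime_two⟩
  have hc : ∀ a b : V, a * b = b * a := fun a b => by
    have hinv : ∀ q : V, q⁻¹ = q := fun q => inv_eq_of_mul_eq_one_right (hsq q)
    calc a * b = (a * b)⁻¹ := (hinv _).symm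
      _ = b⁻¹ * a⁻¹ := mul_inv_rev a b
      _ = b * a := by rw [hinv, hinv]
  obtain ⟨γ, hγ⟩ := exists_prime_orderOf_dvd_card' (G := G) 7 h7
  obtain ⟨s, hs⟩ := exists_prime_orderOf_dvd_card' (G := G) 2 h2
  -- the group generated by `γ` is normal
  obtain ⟨P, hP⟩ := (IsPGroup.of_card (p := 7) (n := 1)
    (by rw [Nat.card_zpowers, hγ, pow_one]) : IsPGroup 7 ↥(zpowers γ)).exists_le_sylow
  have hPγ : (P : Subgroup G) = zpowers γ := by
    refine (eq_of_le_of_card_ge hP ?_).symm
    obtain ⟨k, hk⟩ := IsPGroup.iff_card.1 P.isPGroup'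
    rw [hk, Nat.card_zpowers, hγ]
    have hk1 : k ≤ 1 := by
      by_contra h
      push Not at h
      have : 7 ^ 2 ∣ 168 := ((pow_dvd_pow 7 h).trans (hk ▸ Subgroup.card_subgroup_dvd_card _)).trans hd
      norm_num at this
    calc 7 ^ k ≤ 7 ^ 1 := Nat.pow_le_pow_right (by norm_num) hk1
      _ = 7 := pow_one 7
  have hidx : (P : Subgroup G).index * 7 = Nat.card G := by
    rw [← (P : Subgroup G).index_mul_card, hPγ, Nat.card_zpowers, hγ]
  have hone : Nat.card (Sylow 7 G) = 1 := by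
    have h1 : Nat.card (Sylow 7 G) ∣ (P : Subgroup G).index := P.card_dvd_index
    have h24 : (P : Subgroup G).index ∣ 24 :=
      Nat.dvd_of_mul_dvd_mul_right (by norm_num : 0 < 7) (by rw [hidx]; exact hd)
    have hmod := card_sylow_modEq_one 7 G
    have hle : Nat.card (Sylow 7 G) ≤ 24 := Nat.le_of_dvd (by norm_num) (h1.trans h24)
    have h8' : Nat.card (Sylow 7 G) ≠ 8 := fun h => h8 (hidx ▸ (h ▸ h1).mul_right 7)
    have hdiv := h1.trans h24
    unfold Nat.ModEq at hmod
    generalize Nat.card (Sylow 7 G) = n at hmod hle h8' hdiv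
    interval_cases n <;> omega
  haveI : Subsingleton (Sylow 7 G) := (Nat.card_eq_one_iff_unique.1 hone).1
  haveI hn : (zpowers γ).Normal := hPγ ▸ P.normal_of_subsingleton
  -- how `s` acts
  have hconj : s * γ * s⁻¹ ∈ zpowers γ := hn.conj_mem γ (mem_zpowers γ) s
  obtain ⟨k, hk⟩ := mem_powers_iff_mem_zpowers.2 hconj
  have hk' : γ ^ k = s * γ * s⁻¹ := hk
  have hss : s * s = 1 := by rw [← pow_two, ← hs, pow_orderOf_eq_one]
  have hkk : k * k % 7 = 1 := by
    have h1 : γ ^ (k * k) = γ := by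
      rw [pow_mul, hk', conj_pow, hk', mul_assoc, mul_assoc, ← mul_inv_rev, hss, inv_one,
        mul_one, ← mul_assoc, hss, one_mul]
    rw [← pow_one γ, ← pow_mul, one_mul] at h1
    have h2 := pow_eq_pow_iff_modEq.1 h1
    rw [hγ] at h2
    exact h2
  set g : MulAut V := (γ : MulAut V) with hgdef
  set t : MulAut V := (s : MulAut V) with htdef
  have hg7 : g ^ 7 = 1 := by
    rw [hgdef, ← SubgroupClass.coe_pow, ← hγ, pow_orderOf_eq_one]; rfl
  have hg : g ≠ 1 := fun h => by
    have : γ = 1 := Subtype.ext h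
    rw [this, orderOf_one] at hγ
    omega
  have ht : t ≠ 1 := fun h => by
    have : s = 1 := Subtype.ext h
    rw [this, orderOf_one] at hs
    omega
  have htt : ∀ x, t (t x) = x := fun x => by
    rw [← MulAut.mul_apply, show t * t = 1 from congrArg Subtype.val hss]; rfl
  have htg : ∀ (i : ℕ) (x : V), t ((g ^ i) x) = (g ^ (k * i)) (t x) := fun i x => by
    have h1 : t * g ^ i = g ^ (k * i) * t := by
      have h2 : s * γ ^ i = γ ^ (k * i) * s := by
        rw [pow_mul, hk', conj_pow, inv_mul_cancel_right]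
      exact congrArg Subtype.val h2
    rw [← MulAut.mul_apply, h1, MulAut.mul_apply]
  obtain ⟨x₀, hx₀⟩ : ∃ x : V, x ≠ 1 := by
    by_contra h
    push Not at h
    exact hg (MulEquiv.ext fun x => by rw [h x, map_one]; rfl)
  obtain ⟨v, hv, htv⟩ : ∃ v : V, v ≠ 1 ∧ t v = v := by
    by_cases h : x₀ * t x₀ = 1
    · refine ⟨x₀, hx₀, ?_⟩
      rw [← inv_eq_of_mul_eq_one_right h]
      exact inv_eq_of_mul_eq_one_right (hsq x₀)
    · exact ⟨_, h, by rw [map_mul, htt, hc]⟩
  have hmv : g v ≠ v := fun h => hv (seven_free hg7 hV hg h)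
  have hgi : ∀ i, (g ^ i) v = (g ^ (i % 7)) v := fun i => by
    conv_lhs => rw [← Nat.mod_add_div i 7, pow_add, pow_mul, hg7, one_pow, mul_one]
  have hk7 : k % 7 = 1 ∨ k % 7 = 6 := by
    rw [Nat.mul_mod] at hkk
    have : k % 7 < 7 := Nat.mod_lt _ (by norm_num)
    generalize k % 7 = r at hkk this
    interval_cases r <;> simp_all
  rcases hk7 with h1 | h6
  · refine ht (MulEquiv.ext fun w => ?_)
    by_cases hw : w = 1
    · rw [hw, map_one]; rfl
    obtain ⟨i, hi⟩ := seven_cover hg7 hV hg hv hw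
    rw [← hi, htg, htv, hgi (k * i), hgi i]
    rw [Nat.mul_mod, h1, one_mul, Nat.mod_mod]
    rfl
  · have hrel : ∀ a : ℕ, a % 7 ≠ 0 → ∀ j : ℕ, (g ^ j) v = v * (g ^ a) v →
        (6 * j + a) % 7 = j % 7 := by
      intro a ha j hj
      have h1 := congrArg t hj
      rw [map_mul, htg, htg, htv] at h1
      have h2 := congrArg (g ^ a) h1
      rw [map_mul, ← MulAut.mul_apply, ← MulAut.mul_apply, ← pow_add, ← pow_add,
        hgi (a + k * a), show (a + k * a) % 7 = 0 by rw [Nat.add_mod, Nat.mul_mod, h6]; omega,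
        pow_zero, MulAut.one_apply, hc, ← hj] at h2
      have := seven_pow_inj hg7 hmv h2
      rw [Nat.add_mod, Nat.mul_mod, h6] at this
      omega
    have hne : ∀ a : ℕ, a % 7 ≠ 0 → v * (g ^ a) v ≠ 1 := fun a ha e => ha (by
      have h1 : (g ^ a) v = (g ^ 0) v := by
        rw [pow_zero, MulAut.one_apply, ← inv_eq_of_mul_eq_one_right e]
        exact inv_eq_of_mul_eq_one_right (hsq v)
      exact (seven_pow_inj hg7 hmv h1).trans (Nat.zero_mod 7))
    obtain ⟨j, hj⟩ := seven_cover hg7 hV hg hv (hne 1 (by norm_num))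
    obtain ⟨m, hm⟩ := seven_cover hg7 hV hg hv (hne 2 (by norm_num))
    have hj4 : j % 7 = 4 := by have := hrel 1 (by norm_num) j hj; omega
    have hm1 : m % 7 = 1 := by have := hrel 2 (by norm_num) m hm; omega
    rw [hgi, hj4] at hj
    rw [hgi, hm1] at hm
    have h4 : (g ^ 2) v = (g ^ 4) v := by
      rw [hj, hm, ← mul_assoc, hsq, one_mul]
    have := seven_pow_inj hg7 hmv h4
    omega

namespace Setup

variable {X : Type u} [Group X] [Finite X] (St : Setup X)

include St

/-- An automorphism of order seven of a subgroup with nontrivial Frattini subgroup fixes some class. -/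
theorem seven_false {E : Subgroup X} (γ : MulAut ↥E) (h7 : γ ^ 7 = 1)
    (hne : autQ (frattini ↥E) γ ≠ 1) (h8 : (frattini ↥E).index ≤ 8) (hΦ : frattini ↥E ≠ ⊥) : False := by
  classical
  haveI : Fact (Nat.Prime 2) := ⟨Nat.prime_two⟩
  set F := frattini ↥E with hF
  have hEp : IsPGroup 2 ↥E := St.isP.to_subgroup E
  have hFp : IsPGroup 2 ↥F := hEp.to_subgroup F
  set g := autQ F γ with hgdef
  have hg7 : g ^ 7 = 1 := by rw [hgdef, ← map_pow, h7, map_one]
  have hV : Nat.card (↥E ⧸ F) ≤ 8 := h8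
  -- `γ` is trivial on `Φ`
  have hF4 : (frattini ↥F).index ≤ 4 :=
    St.index_le_four (E.subtype.comp F.subtype) (E.subtype_injective.comp F.subtype_injective)
      (fun m => St.frattini_sub E m.2) _ fun m => Grp.pGroup_pow_mem_frattini hFp m
  have htriv : ∀ f ∈ F, γ f = f := by
    have hr7 : restrAut γ F ^ 7 = 1 := restrAut_pow γ F 7 h7
    have h1 : restrAut γ F = 1 := by
      refine fixed_of_frattini (p := 2) hFp _ (by norm_num : (7 : ℕ).Prime) (by norm_num) hr7
        fun x => ?_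
      by_contra hx
      have := seven_orbit_card (V := ↥F ⧸ frattini ↥F) (g := autQ (frattini ↥F) (restrAut γ F))
        (by rw [← map_pow, hr7, map_one]) (x := (x : ↥F ⧸ frattini ↥F))
        (fun h => hx (QuotientGroup.eq.1 (by rw [autQ_mk] at h; exact h.symm))) ∅ (by simp)
      have h4 : Nat.card (↥F ⧸ frattini ↥F) ≤ 4 := hF4
      omega
    intro f hf
    have h2 := congrArg (fun a : MulAut ↥F => ((a ⟨f, hf⟩ : F) : ↥E)) h1
    simpa [restrAut_coe] using h2
  -- `Φ` is central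
  have hk : ∀ u : ↥E, u ∉ F → ∃ e : ↥E, (e⁻¹ * γ e)⁻¹ * u ∈ F := fun u hu => by
    let d : ↥E ⧸ F → ↥E ⧸ F := fun q => q⁻¹ * g q
    have hc : ∀ a b : ↥E ⧸ F, a * b = b * a := fun a b =>
      QuotientGroup.induction_on a fun x => QuotientGroup.induction_on b fun y => by
        rw [← QuotientGroup.mk_mul, ← QuotientGroup.mk_mul]
        refine QuotientGroup.eq.2 ?_
        have h1 := Grp.pGroup_commutator_le_frattini hEp (commutator_mem_commutator_top y⁻¹ x⁻¹)
        rw [commutatorElement_def, inv_inv, inv_inv] at h1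
        rw [show (x * y)⁻¹ * (y * x) = y⁻¹ * x⁻¹ * y * x by group]
        exact h1
    have hd : Function.Injective d := fun a b (h : a⁻¹ * g a = b⁻¹ * g b) => by
      have h1 : g (b⁻¹ * a) = b⁻¹ * a := by
        rw [map_mul, map_inv, hc b⁻¹ a]
        have h2 : g a = a * (b⁻¹ * g b) := by rw [← h, mul_inv_cancel_left]
        rw [h2, hc _ (a * (b⁻¹ * g b))]
        group
      exact (inv_mul_eq_one.1 (seven_free hg7 hV hne h1)).symm
    obtain ⟨q, hq⟩ := (Finite.injective_iff_surjective.1 hd) (u : ↥E ⧸ F)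
    obtain ⟨e, rfl⟩ := QuotientGroup.mk_surjective q
    exact ⟨e, QuotientGroup.eq.1 hq⟩
  have hcent : ∀ f ∈ F, ∀ u : ↥E, u * f = f * u := fun f hf u => by
    have hkc : ∀ e : ↥E, Commute (e⁻¹ * γ e) f := fun e => by
      have h1 : e * f * e⁻¹ ∈ F := Normal.conj_mem inferInstance f hf e
      have h2 := htriv _ h1
      rw [map_mul, map_mul, map_inv, htriv f hf] at h2
      calc e⁻¹ * γ e * f = e⁻¹ * (γ e * f * (γ e)⁻¹) * γ e := by group
        _ = f * (e⁻¹ * γ e) := by rw [h2]; group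
    have htop : centralizer ({f} : Set ↥E) = ⊤ := by
      refine frattini_nongenerating (eq_top_iff.2 fun u _ => ?_)
      by_cases hu : u ∈ F
      · exact mem_sup_right hu
      · obtain ⟨e, he⟩ := hk u hu
        rw [← mul_inv_cancel_left (e⁻¹ * γ e) u]
        exact mul_mem (mem_sup_left (mem_centralizer_singleton_iff.2 (hkc e))) (mem_sup_right he)
    exact mem_centralizer_singleton_iff.1 (htop.ge (mem_top u))
  -- squares modulo `Φ(Φ)`
  set M : Subgroup ↥E := (frattini ↥F).map F.subtype with hMdef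
  have hMF : M ≤ F := map_subtype_le _
  haveI hMn : M.Normal := ⟨fun m hm e => by rw [hcent m (hMF hm) e, mul_inv_cancel_right]; exact hm⟩
  have hF2 : ∀ f ∈ F, f * f ∈ M := fun f hf =>
    ⟨⟨f, hf⟩ * ⟨f, hf⟩, by rw [← pow_two]; exact Grp.pGroup_pow_mem_frattini hFp _, rfl⟩
  let sq : ↥E → ↥E ⧸ M := fun e => ((e * e : ↥E) : ↥E ⧸ M)
  have hE2 : ∀ e : ↥E, e * e ∈ F := fun e => by
    rw [← pow_two]; exact Grp.pGroup_pow_mem_frattini hEp e
  have hsqF : ∀ e f, f ∈ F → sq (e * f) = sq e := fun e f hf => by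
    refine QuotientGroup.eq.2 ?_
    rw [show (e * f * (e * f))⁻¹ * (e * e) = (e * (f * e) * f)⁻¹ * (e * e) by group, ← hcent f hf,
      show (e * (e * f) * f)⁻¹ * (e * e) = (f * f)⁻¹ by group]
    exact inv_mem (hF2 f hf)
  have hsqγ : ∀ (i : ℕ) (e : ↥E), sq ((γ ^ i) e) = sq e := fun i => by
    induction i with
    | zero => intro e; rfl
    | succ i ih =>
      intro e
      rw [pow_succ', MulAut.mul_apply]
      refine Eq.trans ?_ (ih e)
      show ((γ _ * γ _ : ↥E) : ↥E ⧸ M) = _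
      rw [← map_mul, htriv _ (hE2 _)]
  have hconst : ∀ e e' : ↥E, e ∉ F → e' ∉ F → sq e = sq e' := fun e e' he he' => by
    obtain ⟨i, hi⟩ := seven_cover hg7 hV hne
      (fun h => he ((QuotientGroup.eq_one_iff e).1 h))
      (fun h => he' ((QuotientGroup.eq_one_iff e').1 h))
    rw [hgdef, ← map_pow, autQ_mk] at hi
    have h1 := QuotientGroup.eq.1 hi
    rw [← mul_inv_cancel_left ((γ ^ i) e) e', hsqF _ _ h1, hsqγ]
  obtain ⟨u, hu⟩ : ∃ u : ↥E, u ∉ F := by
    by_contra h
    push Not at h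
    exact hne (MulEquiv.ext fun q => QuotientGroup.induction_on q fun x => by
      rw [(QuotientGroup.eq_one_iff x).2 (h x), map_one]; rfl)
  -- independent elements
  have hind : ∀ a b : ↥E, ∃ c : ↥E, c ∉ F ∧ a⁻¹ * c ∉ F ∧ b⁻¹ * c ∉ F ∧ (a * b)⁻¹ * c ∉ F := by
    intro a b
    haveI := Fintype.ofFinite (↥E ⧸ F)
    by_contra hno
    push Not at hno
    have hall : ∀ q : ↥E ⧸ F,
        q ∈ ({1, (a : ↥E ⧸ F), (b : ↥E ⧸ F), ((a * b : ↥E) : ↥E ⧸ F)} : Finset (↥E ⧸ F)) := fun q =>
      QuotientGroup.induction_on q fun c => by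
        simp only [Finset.mem_insert, Finset.mem_singleton]
        by_cases h0 : c ∈ F
        · exact Or.inl ((QuotientGroup.eq_one_iff c).2 h0)
        by_cases h1 : a⁻¹ * c ∈ F
        · exact Or.inr (Or.inl (QuotientGroup.eq.2 h1).symm)
        by_cases h2 : b⁻¹ * c ∈ F
        · exact Or.inr (Or.inr (Or.inl (QuotientGroup.eq.2 h2).symm))
        exact Or.inr (Or.inr (Or.inr (QuotientGroup.eq.2 (hno c h0 h1 h2)).symm))
    have h1 := seven_orbit_card hg7 (x := (u : ↥E ⧸ F))
      (fun h => hu ((QuotientGroup.eq_one_iff u).1 (seven_free hg7 hV hne h))) {1}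
      (by simp)
    have h2 : Fintype.card (↥E ⧸ F) ≤ 4 :=
      (Finset.card_le_card (s := Finset.univ) fun q _ => hall q).trans Finset.card_le_four
    rw [Nat.card_eq_fintype_card] at h1
    omega
  obtain ⟨v, hv, huv', -, -⟩ := hind u u
  obtain ⟨w, hw, huw', hvw', huvw'⟩ := hind u v
  have hnm : ∀ a b : ↥E, a⁻¹ * b ∉ F → a * b ∉ F := fun a b h h' => h (by
    rw [show a⁻¹ * b = (a * a)⁻¹ * (a * b) by group]
    exact mul_mem (inv_mem (hE2 a)) h')
  let cm : ↥E → ↥E → ↥E ⧸ M := fun a b => ((a⁻¹ * b * a * b⁻¹ : ↥E) : ↥E ⧸ M)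
  set s := sq u with hs
  have hcF : ∀ a b : ↥E, a⁻¹ * b * a * b⁻¹ ∈ F := fun a b => by
    have := Grp.pGroup_commutator_le_frattini hEp (commutator_mem_commutator_top a⁻¹ b)
    rwa [commutatorElement_def, inv_inv] at this
  have hMc : ∀ f ∈ F, ∀ q : ↥E ⧸ M, (f : ↥E ⧸ M) * q = q * (f : ↥E ⧸ M) := fun f hf q =>
    QuotientGroup.induction_on q fun x => by
      rw [← QuotientGroup.mk_mul, ← QuotientGroup.mk_mul, hcent f hf]
  have hss : s * s = 1 := by
    show ((u * u : ↥E) : ↥E ⧸ M) * ((u * u : ↥E) : ↥E ⧸ M) = 1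
    rw [← QuotientGroup.mk_mul]
    exact (QuotientGroup.eq_one_iff _).2 (hF2 _ (hE2 u))
  have hcs : ∀ a b : ↥E, a ∉ F → b ∉ F → a * b ∉ F → cm a b = s := fun a b ha hb hab => by
    have h1 : sq (a * b) = sq a * cm a b * sq b := by
      show _ = ((a * a : ↥E) : ↥E ⧸ M) * _ * ((b * b : ↥E) : ↥E ⧸ M)
      rw [← QuotientGroup.mk_mul, ← QuotientGroup.mk_mul]
      show ((a * b * (a * b) : ↥E) : ↥E ⧸ M) = _
      congr 1
      group
    rw [hconst (a * b) u hab hu, hconst a u ha hu, hconst b u hb hu, ← hs, mul_assoc,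
      show cm a b * s = s * cm a b from hMc _ (hcF a b) _, ← mul_assoc, hss, one_mul] at h1
    exact h1.symm
  have h1 : cm u (v * w) = cm u v * cm u w := by
    show _ = ((u⁻¹ * v * u * v⁻¹ : ↥E) : ↥E ⧸ M) * ((u⁻¹ * w * u * w⁻¹ : ↥E) : ↥E ⧸ M)
    rw [← QuotientGroup.mk_mul]
    show ((u⁻¹ * (v * w) * u * (v * w)⁻¹ : ↥E) : ↥E ⧸ M) = _
    congr 1
    calc u⁻¹ * (v * w) * u * (v * w)⁻¹ = u⁻¹ * v * u * ((u⁻¹ * w * u * w⁻¹) * v⁻¹) := by group
      _ = u⁻¹ * v * u * (v⁻¹ * (u⁻¹ * w * u * w⁻¹)) := by rw [hcent _ (hcF u w) v⁻¹]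
      _ = _ := by group
  have hvw : v * w ∉ F := hnm v w hvw'
  have huvw : u * (v * w) ∉ F := fun h => hnm _ _ huvw' (by rwa [mul_assoc])
  rw [hcs u v hu hv (hnm u v huv'), hcs u w hu hw (hnm u w huw'), hcs u (v * w) hu hvw huvw, hss] at h1
  -- all squares lie in `Φ(Φ)`
  have hle : F ≤ M := frattini_le_of_sq M fun e => by
    rw [pow_two]
    by_cases he : e ∈ F
    · exact hF2 e he
    · exact (QuotientGroup.eq_one_iff _).1 (show sq e = 1 by rw [hconst e u he hu, ← hs, h1])
  obtain ⟨⟨f, hf⟩, hf1⟩ := ne_bot_iff_exists_ne_one.1 hΦ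
  have : Nontrivial ↥F := ⟨⟨⟨f, hf⟩, 1, hf1⟩⟩
  refine frattini_ne_top this (eq_top_iff.2 fun x _ => ?_)
  obtain ⟨y, hy, hyx⟩ := hle x.2
  rwa [← Subtype.ext hyx]

end Setup

end Cfsg.Agent.Fus.Bicyclic
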