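import Cfsg.Agent.Lib.Fus.Bicyclic.NonMeta

/-!
A bicyclic non-metacyclic `2`-group with cyclic derived subgroup is a cyclic extension of a
dihedral or quaternion group.
-/

set_option autoImplicit false
set_option linter.style.haveILetI false
set_option linter.unusedSectionVars false
set_option maxHeartbeats 1000000

open scoped commutatorElement

namespace Cfsg.Agent.Fus.Bicyclic

open Subgroup

universe u

variable {X : Type u} [Group X]

/-- The sum `1 + v + ... + v ^ (k - 1)`. -/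
def gsum (v : ℤ) : ℕ → ℤ
  | 0 => 0
  | k + 1 => 1 + v * gsum v k

theorem gsum_add (v : ℤ) (k l : ℕ) : gsum v (k + l) = gsum v k + v ^ k * gsum v l := by
  induction k with
  | zero => simp [gsum]
  | succ k ih =>
    rw [show k + 1 + l = (k + l) + 1 by ring, gsum, ih, gsum]
    ring

theorem gsum_mul_sub (v : ℤ) (k : ℕ) : gsum v k * (v - 1) = v ^ k - 1 := by
  induction k with
  | zero => simp [gsum]
  | succ k ih =>
    rw [gsum, add_mul, one_mul, mul_assoc, ih]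
    ring

theorem two_dvd_gsum {v : ℤ} (hv : Odd v) : ∀ m : ℕ, (2 : ℤ) ∣ gsum v (2 * m) := fun m => by
  induction m with
  | zero => simp [gsum]
  | succ m ih =>
    rw [show 2 * (m + 1) = 2 + 2 * m by ring, gsum_add]
    refine dvd_add ?_ (ih.mul_left _)
    obtain ⟨t, rfl⟩ := hv
    exact ⟨t + 1, by simp [gsum]; ring⟩

/-- The parameters of the extension. -/
structure Ext (X : Type u) [Group X] where
  a : X
  b : X
  c : X
  n : ℕ
  r : ℕ
  v : ℤ
  i : ℤ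
  one_le_n : 1 ≤ n
  one_le_r : 1 ≤ r
  four_dvd : (4 : ℤ) ∣ v - 1
  order_c : orderOf c = 2 ^ n
  not_mem : b ∉ zpowers c
  conj_bc : b * c * b⁻¹ = c⁻¹
  conj_ac : a * c * a⁻¹ = c ^ v
  conj_ab : a * b * a⁻¹ = c * b
  pow_a : a ^ (2 ^ r) = c ^ i
  sq_b : b ^ 2 = 1 ∨ (2 ≤ n ∧ b ^ 2 = c ^ (2 ^ (n - 1)))
  gen : Subgroup.closure ({a, b} : Set X) = ⊤
  min_a : ∀ t : ℤ, a ^ t ∈ zpowers c ⊔ zpowers b → ((2 ^ r : ℕ) : ℤ) ∣ t

theorem metacyclic_of_gen_normal [Finite X] {a b c : X} (hgen : closure ({a, b} : Set X) = ⊤)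
    (hn : (zpowers c).Normal) {t : X} (ha : a ∈ zpowers c ⊔ zpowers t)
    (hb : b ∈ zpowers c ⊔ zpowers t) : IsMetacyclic X := by
  refine MetaTwo.isMetacyclic_of_gens hn (x := t) fun q => ?_
  have hq : q ∈ zpowers c ⊔ zpowers t := by
    have : closure ({a, b} : Set X) ≤ zpowers c ⊔ zpowers t := by
      rw [closure_le]
      rintro w (hw | hw) <;> rw [hw]
      exacts [ha, hb]
    exact this (hgen ▸ mem_top q)
  obtain ⟨u, hu, w, hw, rfl⟩ := mem_sup_of_normal_left.1 hq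
  obtain ⟨i, rfl⟩ := hw
  refine ⟨i, ?_⟩
  show (t ^ i)⁻¹ * (u * t ^ i) ∈ _
  have := hn.conj_mem u hu (t ^ i)⁻¹
  rwa [inv_inv, mul_assoc] at this

variable [Finite X]

/-- The parameters attached to generators `a`, `b` with `b ^ 2 ∈ rSub X`. -/
theorem exists_ext_of_gens (hX : IsPGroup 2 X) (hm : ¬ IsMetacyclic X)
    (hcyc : IsCyclic ↥(commutator X)) {a b : X} (hgen : closure ({a, b} : Set X) = ⊤)
    (hb2 : b ^ 2 ∈ rSub X) : ∃ e : Ext X, e.b = b := by
  classical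
  haveI : Fact (Nat.Prime 2) := ⟨Nat.prime_two⟩
  obtain ⟨g0, hg0⟩ := (Subgroup.isCyclic_iff_exists_zpowers_eq_top _).1 hcyc
  set c := ⁅a, b⁆ with hc
  have hcmem : c ∈ commutator X := commutator_mem_commutator_top a b
  haveI hCn : (zpowers c).Normal := ⟨fun u hu g => by
    obtain ⟨k, hk⟩ : c ∈ zpowers g0 := hg0 ▸ hcmem
    obtain ⟨l, hl⟩ : g * g0 * g⁻¹ ∈ zpowers g0 := hg0 ▸
      (inferInstance : (commutator X).Normal).conj_mem g0 (hg0 ▸ mem_zpowers g0) g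
    obtain ⟨i, rfl⟩ := hu
    refine mem_zpowers_iff.2 ⟨l * i, ?_⟩
    show c ^ (l * i) = g * c ^ i * g⁻¹
    rw [← conj_zpow, zpow_mul]
    congr 1
    rw [← show g0 ^ k = c from hk, ← conj_zpow, ← show g0 ^ l = g * g0 * g⁻¹ from hl, ← zpow_mul,
      ← zpow_mul, mul_comm]⟩
  have hcom : commutator X ≤ zpowers c := by
    refine commutator_le_of_gens hgen ?_
    rintro u (hu | hu) w (hw | hw) <;> rw [hu, hw]
    · rw [commutatorElement_self]; exact one_mem _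
    · exact mem_zpowers _
    · rw [← zpowers_inv, hc, commutatorElement_inv]; exact mem_zpowers _
    · rw [commutatorElement_self]; exact one_mem _
  obtain ⟨n, hn⟩ := (IsPGroup.iff_orderOf.1 hX) c
  have hn1 : 1 ≤ n := by
    by_contra h0
    have hc1 : c = 1 := by
      rw [← orderOf_eq_one_iff, hn, show n = 0 by omega, pow_zero]
    have hall : ∀ p q : X, p * q = q * p := fun p q => commutatorElement_eq_one_iff_mul_comm.1 (by
      have := hcom (commutator_mem_commutator_top p q)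
      rwa [hc1, zpowers_one_eq_bot, mem_bot] at this)
    refine hm (metacyclic_of_gen_normal hgen (c := b) (t := a) ⟨fun u hu g => ?_⟩ ?_ ?_)
    · rw [hall g u, mul_inv_cancel_right]; exact hu
    · exact mem_sup_right (mem_zpowers a)
    · exact mem_sup_left (mem_zpowers b)
  have hdvd : ∀ x : ℤ, c ^ x = 1 ↔ (2 : ℤ) ^ n ∣ x := fun x => by
    rw [← orderOf_dvd_iff_zpow_eq_one, hn]; norm_num
  have heq : ∀ x y : ℤ, c ^ x = c ^ y ↔ (2 : ℤ) ^ n ∣ x - y := fun x y => by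
    rw [← hdvd, zpow_sub, mul_inv_eq_one]
  have hodd : ∀ g : X, ∀ l : ℤ, g * c * g⁻¹ = c ^ l → Odd l := by
    intro g l hl
    by_contra he
    obtain ⟨l', rfl⟩ := Int.not_odd_iff_even.1 he
    have h1 : g * c ^ ((2 : ℤ) ^ (n - 1)) * g⁻¹ = 1 := by
      rw [← conj_zpow, hl, ← zpow_mul, hdvd]
      refine ⟨l', ?_⟩
      calc (l' + l') * (2 : ℤ) ^ (n - 1) = ((2 : ℤ) ^ (n - 1) * 2) * l' := by ring
        _ = _ := by rw [← pow_succ, Nat.sub_add_cancel hn1]
    rw [mul_inv_eq_one, mul_eq_left, hdvd] at h1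
    have h2 := Int.le_of_dvd (by positivity) h1
    have h3 : (2 : ℤ) ^ (n - 1) < 2 ^ n := pow_lt_pow_right₀ (by norm_num) (by omega)
    omega
  -- `b ^ 2` is an even power of `c`
  have hRle : rSub X ≤ zpowers (c ^ 2) := by
    have hsq : ∀ u ∈ zpowers c, u ^ 2 ∈ zpowers (c ^ 2) := by
      rintro _ ⟨l, rfl⟩
      refine mem_zpowers_iff.2 ⟨l, ?_⟩
      show (c ^ 2) ^ l = (c ^ l) ^ 2
      rw [← zpow_natCast, ← zpow_natCast, ← zpow_mul, ← zpow_mul, mul_comm]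
    refine sup_le ?_ ((closure_le _).2 ?_)
    · refine commutator_le.2 fun u hu g _ => ?_
      obtain ⟨l, rfl⟩ := hcom hu
      obtain ⟨w, hw⟩ := hCn.conj_mem c (mem_zpowers c) g
      obtain ⟨t, ht⟩ := hodd g w (by rw [← hw])
      refine mem_zpowers_iff.2 ⟨-(l * t), ?_⟩
      show (c ^ 2) ^ (-(l * t)) = ⁅c ^ l, g⁆
      rw [commutatorElement_def, show c ^ l * g * (c ^ l)⁻¹ * g⁻¹ = c ^ l * (g * c ^ (-l) * g⁻¹) by
        rw [zpow_neg]; group, ← conj_zpow, ← show c ^ w = g * c * g⁻¹ from hw, ← zpow_mul,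
        ← zpow_add, show (c ^ 2) = c ^ (2 : ℤ) from (zpow_natCast c 2).symm, ← zpow_mul, ht]
      congr 1
      ring
    · rintro _ ⟨u, hu, rfl⟩
      exact hsq u (hcom hu)
  obtain ⟨j, hj⟩ := mem_zpowers_iff.1 (hRle hb2)
  rw [show c ^ 2 = c ^ (2 : ℤ) from (zpow_natCast c 2).symm, ← zpow_mul] at hj
  obtain ⟨u, hu⟩ := hCn.conj_mem c (mem_zpowers c) b
  have hu' : b * c * b⁻¹ = c ^ u := hu.symm
  obtain ⟨v0, hv0⟩ := hCn.conj_mem c (mem_zpowers c) a
  have hv0' : a * c * a⁻¹ = c ^ v0 := hv0.symm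
  have huo := hodd b u hu'
  have hvo := hodd a v0 hv0'
  have hab : a * b * a⁻¹ = c * b := by rw [hc, commutatorElement_def]; group
  have E1 : (2 : ℤ) ^ n ∣ 2 * j * v0 - (1 + u + 2 * j) := by
    rw [← heq]
    have h1 : a * (b * b) * a⁻¹ = c ^ (1 + u + 2 * j) := by
      calc a * (b * b) * a⁻¹ = c * b * (c * b) := by rw [← hab]; group
        _ = c * (b * c * b⁻¹) * (b ^ 2) := by rw [pow_two]; group
        _ = _ := by rw [hu', ← hj, zpow_add, zpow_add, zpow_one]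
    rw [← h1, ← pow_two, ← hj, ← conj_zpow, hv0', ← zpow_mul, mul_comm]
  have E2 : (2 : ℤ) ^ n ∣ 2 * j * (u - 1) := by
    rw [mul_sub, mul_one, ← heq, mul_comm, zpow_mul, ← hu', conj_zpow, hj]
    group
  obtain ⟨s, hs⟩ := huo
  obtain ⟨t, ht⟩ := hvo
  have hu1 : (2 : ℤ) ^ n ∣ u + 1 ∧ (2 : ℤ) ^ n ∣ 4 * j := by
    rcases Nat.lt_or_ge n 2 with h | h
    · have hn' : n = 1 := by omega
      rw [hn', pow_one]
      exact ⟨⟨s + 1, by omega⟩, ⟨2 * j, by ring⟩⟩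
    have h4 : (4 : ℤ) ∣ 2 ^ n := by
      rw [show (4 : ℤ) = 2 ^ 2 from rfl]; exact pow_dvd_pow _ h
    have h5 : (4 : ℤ) ∣ u + 1 := by
      obtain ⟨w, hw⟩ := h4.trans E1
      exact ⟨j * t - w, by rw [ht] at hw; linarith⟩
    obtain ⟨w, hw⟩ := h5
    have hcop : IsCoprime ((2 : ℤ) ^ n) (2 * w - 1) :=
      (IsCoprime.pow_left (by exact ⟨w, -1, by ring⟩))
    have h6 : (2 : ℤ) ^ n ∣ 4 * j := hcop.dvd_of_dvd_mul_right (by
      have e : 2 * j * (u - 1) = 4 * j * (2 * w - 1) := by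
        rw [show u - 1 = 4 * w - 2 by omega]; ring
      rwa [e] at E2)
    refine ⟨?_, h6⟩
    have e : u + 1 = 4 * j * t - (2 * j * v0 - (1 + u + 2 * j)) := by rw [ht]; ring
    rw [e]
    exact dvd_sub (h6.mul_right _) E1
  have hinv : b * c * b⁻¹ = c⁻¹ := by
    rw [hu', ← zpow_neg_one, heq]; simpa using hu1.1
  have hsqb : b ^ 2 = 1 ∨ (2 ≤ n ∧ b ^ 2 = c ^ (2 ^ (n - 1))) := by
    rw [← hj]
    rcases Nat.lt_or_ge n 2 with h | h
    · left; rw [hdvd, show n = 1 by omega, pow_one]; exact dvd_mul_right 2 j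
    obtain ⟨m, rfl⟩ : ∃ m, n = m + 2 := ⟨n - 2, by omega⟩
    obtain ⟨w, hw⟩ := hu1.2
    rcases Int.even_or_odd w with ⟨w', rfl⟩ | ⟨w', rfl⟩
    · left
      rw [hdvd]
      exact ⟨w', by rw [pow_add] at hw ⊢; linarith⟩
    · right
      refine ⟨by omega, ?_⟩
      rw [← zpow_natCast, heq]
      refine ⟨w', ?_⟩
      push_cast
      rw [show (2 : ℤ) ^ (m + 2) = 2 ^ (m + 1) * 2 by ring] at hw ⊢
      linarith
  have hbnot : b ∉ zpowers c := fun hb => hm (metacyclic_of_gen_normal hgen hCn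
    (t := a) (mem_sup_right (mem_zpowers a)) (mem_sup_left hb))
  set D := zpowers c ⊔ zpowers b with hD
  haveI hDn : D.Normal := Subgroup.Normal.of_commutator_le X (hcom.trans le_sup_left)
  have hCb : ∀ g ∈ D, ∃ k : ℤ, g = c ^ k ∨ g = c ^ k * b := by
    intro g hg
    obtain ⟨p, hp, q, hq, rfl⟩ := mem_sup_of_normal_left.1 hg
    obtain ⟨k, rfl⟩ := hp
    obtain ⟨l, rfl⟩ := hq
    rcases Int.even_or_odd l with ⟨l', rfl⟩ | ⟨l', rfl⟩
    · refine ⟨k + 2 * j * l', Or.inl ?_⟩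
      show c ^ k * b ^ (l' + l') = _
      rw [← two_mul, zpow_mul, show b ^ (2 : ℤ) = b ^ (2 : ℕ) from zpow_natCast b 2, ← hj, ← zpow_mul,
        zpow_add]
    · refine ⟨k + 2 * j * l', Or.inr ?_⟩
      show c ^ k * b ^ (2 * l' + 1) = _
      rw [zpow_add, zpow_one, zpow_mul, show b ^ (2 : ℤ) = b ^ (2 : ℕ) from zpow_natCast b 2, ← hj,
        ← zpow_mul, zpow_add, ← mul_assoc]
  obtain ⟨r, hr⟩ : ∃ r, orderOf (QuotientGroup.mk a : X ⧸ D) = 2 ^ r :=
    (IsPGroup.iff_orderOf.1 (hX.to_quotient D)) _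
  have hmin : ∀ t : ℤ, a ^ t ∈ D → ((2 ^ r : ℕ) : ℤ) ∣ t := fun t ht => by
    rw [← hr, orderOf_dvd_iff_zpow_eq_one, ← QuotientGroup.mk_zpow]
    exact (QuotientGroup.eq_one_iff _).2 ht
  have haM : a ^ (2 ^ r) ∈ D := (QuotientGroup.eq_one_iff _).1 (by
    rw [QuotientGroup.mk_pow, ← hr, pow_orderOf_eq_one])
  have haMC : a ^ (2 ^ r) ∈ zpowers c := by
    obtain ⟨k, hk | hk⟩ := hCb _ haM
    · rw [hk]; exact zpow_mem (mem_zpowers c) k
    · refine absurd (metacyclic_of_gen_normal hgen hCn (t := a) (mem_sup_right (mem_zpowers a)) ?_) hm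
      have : b = (c ^ k)⁻¹ * a ^ (2 ^ r) := by rw [hk, inv_mul_cancel_left]
      rw [this]
      exact mul_mem (inv_mem (zpow_mem (mem_sup_left (mem_zpowers c)) k))
        (pow_mem (mem_sup_right (mem_zpowers a)) _)
  have hr1 : 1 ≤ r := by
    by_contra h0
    rw [show r = 0 by omega, pow_zero, pow_one] at haMC
    exact hm (metacyclic_of_gen_normal hgen hCn (t := b) (mem_sup_left haMC)
      (mem_sup_right (mem_zpowers b)))
  obtain ⟨i0, hi0⟩ := mem_zpowers_iff.1 haMC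
  -- choose the sign of `v`
  by_cases hv4 : n = 1 ∨ (4 : ℤ) ∣ v0 - 1
  · rcases hv4 with h1 | h1
    · refine ⟨⟨a, b, c, n, r, 1, i0, hn1, hr1, by simp, hn, hbnot, hinv, ?_, hab, hi0.symm, hsqb,
        hgen, hmin⟩, rfl⟩
      rw [hv0', heq, h1, pow_one, ht]
      exact ⟨t, by ring⟩
    · exact ⟨⟨a, b, c, n, r, v0, i0, hn1, hr1, h1, hn, hbnot, hinv, hv0', hab, hi0.symm, hsqb,
        hgen, hmin⟩, rfl⟩
  rw [not_or] at hv4
  have hab' : a * b * b * (a * b)⁻¹ = c * b := by rw [← hab]; group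
  have hgen' : closure ({a * b, b} : Set X) = ⊤ := by
    rw [eq_top_iff, ← hgen, closure_le]
    rintro w (hw | hw) <;> rw [hw]
    · rw [SetLike.mem_coe, ← mul_inv_cancel_right a b]
      exact mul_mem (subset_closure (by simp)) (inv_mem (subset_closure (by simp)))
    · exact subset_closure (by simp)
  have hbD : ∀ k : ℕ, (a ^ k)⁻¹ * (a * b) ^ k ∈ D := fun k => by
    refine (QuotientGroup.eq).1 ?_
    rw [QuotientGroup.mk_pow, QuotientGroup.mk_pow, QuotientGroup.mk_mul,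
      (QuotientGroup.eq_one_iff b).2 (mem_sup_right (mem_zpowers b)), mul_one]
  have hord : orderOf (QuotientGroup.mk (a * b) : X ⧸ D) = 2 ^ r := by
    rw [QuotientGroup.mk_mul, (QuotientGroup.eq_one_iff b).2 (mem_sup_right (mem_zpowers b)),
      mul_one, hr]
  have haM' : (a * b) ^ (2 ^ r) ∈ zpowers c := by
    have hmem : (a * b) ^ (2 ^ r) ∈ D := (QuotientGroup.eq_one_iff _).1 (by
      rw [QuotientGroup.mk_pow, ← hord, pow_orderOf_eq_one])
    obtain ⟨k, hk | hk⟩ := hCb _ hmem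
    · rw [hk]; exact zpow_mem (mem_zpowers c) k
    · refine absurd (metacyclic_of_gen_normal hgen' hCn (t := a * b)
        (mem_sup_right (mem_zpowers _)) ?_) hm
      have : b = (c ^ k)⁻¹ * (a * b) ^ (2 ^ r) := by rw [hk, inv_mul_cancel_left]
      have e1 : (c ^ k)⁻¹ * (a * b) ^ (2 ^ r) ∈ zpowers c ⊔ zpowers (a * b) :=
        mul_mem (inv_mem (zpow_mem (mem_sup_left (mem_zpowers c)) k))
          (pow_mem (mem_sup_right (mem_zpowers (a * b))) _)
      rwa [← this] at e1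
  obtain ⟨i1, hi1⟩ := mem_zpowers_iff.1 haM'
  refine ⟨⟨a * b, b, c, n, r, -v0, i1, hn1, hr1, ?_, hn, hbnot, hinv, ?_, hab', hi1.symm, hsqb,
    hgen', fun t ht => ?_⟩, rfl⟩
  · have h4 := hv4.2
    rw [ht] at h4 ⊢
    omega
  · calc a * b * c * (a * b)⁻¹ = a * (b * c * b⁻¹) * a⁻¹ := by group
      _ = _ := by rw [hinv, ← zpow_neg_one, ← conj_zpow, hv0', ← zpow_mul, mul_neg_one]
  · rw [← hord, orderOf_dvd_iff_zpow_eq_one, ← QuotientGroup.mk_zpow]
    exact (QuotientGroup.eq_one_iff _).2 ht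

namespace Ext

variable (e : Ext X)

theorem pow_c (x : ℤ) : e.c ^ x = 1 ↔ (2 : ℤ) ^ e.n ∣ x := by
  rw [← orderOf_dvd_iff_zpow_eq_one, e.order_c]; norm_num

theorem conj_b_pow (x : ℤ) : e.b * e.c ^ x * e.b⁻¹ = e.c ^ (-x) := by
  rw [← conj_zpow, e.conj_bc, inv_zpow, zpow_neg]

theorem conj_a_pow_c : ∀ (k : ℕ) (x : ℤ),
    e.a ^ k * e.c ^ x * (e.a ^ k)⁻¹ = e.c ^ (x * e.v ^ k) := fun k => by
  induction k with
  | zero => intro x; simp
  | succ k ih =>
    intro x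
    rw [pow_succ', show e.a * e.a ^ k * e.c ^ x * (e.a * e.a ^ k)⁻¹ =
      e.a * (e.a ^ k * e.c ^ x * (e.a ^ k)⁻¹) * e.a⁻¹ by group, ih, ← conj_zpow, e.conj_ac,
      ← zpow_mul]
    congr 1
    ring

theorem conj_a_pow_b : ∀ k : ℕ, e.a ^ k * e.b * (e.a ^ k)⁻¹ = e.c ^ gsum e.v k * e.b := fun k => by
  induction k with
  | zero => simp [gsum]
  | succ k ih =>
    rw [pow_succ', show e.a * e.a ^ k * e.b * (e.a * e.a ^ k)⁻¹ =
      e.a * (e.a ^ k * e.b * (e.a ^ k)⁻¹) * e.a⁻¹ by group, ih,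
      show e.a * (e.c ^ gsum e.v k * e.b) * e.a⁻¹ =
        (e.a * e.c ^ gsum e.v k * e.a⁻¹) * (e.a * e.b * e.a⁻¹) by group,
      ← conj_zpow, e.conj_ac, ← zpow_mul, e.conj_ab, ← mul_assoc, gsum]
    congr 1
    rw [← zpow_add_one]
    congr 1
    ring

theorem dvd_gsum : (2 : ℤ) ^ e.n ∣ gsum e.v (2 ^ e.r) - 2 * e.i := by
  rw [← e.pow_c, zpow_sub, mul_inv_eq_one]
  refine mul_right_cancel (b := e.b) ?_
  rw [← e.conj_a_pow_b, e.pow_a]
  calc e.c ^ e.i * e.b * (e.c ^ e.i)⁻¹ = e.c ^ e.i * (e.b * e.c ^ (-e.i) * e.b⁻¹) * e.b := by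
        rw [zpow_neg]; group
    _ = _ := by rw [e.conj_b_pow, neg_neg, ← zpow_add, two_mul]

theorem dvd_i : (2 : ℤ) ^ e.n ∣ e.i * (e.v - 1) := by
  rw [mul_sub, mul_one, ← e.pow_c, zpow_sub, mul_inv_eq_one]
  have h : e.a * e.a ^ (2 ^ e.r) * e.a⁻¹ = e.a ^ (2 ^ e.r) := by group
  rw [e.pow_a, ← conj_zpow, e.conj_ac, ← zpow_mul, mul_comm] at h
  exact h

end Ext

theorem mem_normalizer_zpowers_of_conj [Finite X] {g z : X} (hg : g * z * g⁻¹ ∈ zpowers z) :
    g ∈ normalizer (zpowers z : Set X) := by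
  have h1 : (zpowers z).map (MulAut.conj g).toMonoidHom = zpowers z := by
    refine eq_of_le_of_card_ge ?_ ?_
    · rw [MonoidHom.map_zpowers, zpowers_le]
      exact hg
    · rw [card_map_of_injective (MulAut.conj g).injective]
  rw [mem_normalizer_iff]
  intro u
  constructor
  · intro hu'; rw [← h1]; exact ⟨u, hu', rfl⟩
  · intro hu'
    rw [← h1] at hu'
    obtain ⟨w, hw, hwe⟩ := hu'
    rwa [← (MulAut.conj g).injective (show (MulAut.conj g) w = (MulAut.conj g) u from hwe)]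

/-- Parameters suitable for the construction. -/
theorem exists_good_ext (hX : IsPGroup 2 X) {x y : X} (h : IsBic x y) (hm : ¬ IsMetacyclic X)
    (hcyc : IsCyclic ↥(commutator X)) :
    ∃ e : Ext X, (2 ≤ e.n ∧ e.b ^ 2 = e.c ^ (2 ^ (e.n - 1))) ∨
      (e.b ^ 2 = 1 ∧ (2 : ℤ) ^ (e.n + 1) ∣ gsum e.v (2 ^ e.r) - 2 * e.i) := by
  obtain ⟨a, b, hgen, hb2⟩ := h.exists_gens_sq hX hm
  obtain ⟨e, -⟩ := exists_ext_of_gens hX hm hcyc hgen hb2
  rcases e.sq_b with hb | hb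
  swap
  · exact ⟨e, Or.inl hb⟩
  by_cases hgood : (2 : ℤ) ^ (e.n + 1) ∣ gsum e.v (2 ^ e.r) - 2 * e.i
  · exact ⟨e, Or.inr ⟨hb, hgood⟩⟩
  obtain ⟨w, hw⟩ := e.dvd_gsum
  have hwodd : Odd w := by
    rcases Int.even_or_odd w with ⟨w', rfl⟩ | ho
    · exact absurd ⟨w', by rw [hw, pow_succ]; ring⟩ hgood
    · exact ho
  haveI hCn : (zpowers e.c).Normal := by
    refine ⟨fun u hu g => ?_⟩
    have hg : g ∈ closure ({e.a, e.b} : Set X) := e.gen ▸ mem_top g
    have hle : closure ({e.a, e.b} : Set X) ≤ normalizer (zpowers e.c : Set X) := by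
      rw [closure_le]
      rintro p (hp | hp) <;> rw [hp]
      all_goals
        refine mem_normalizer_zpowers_of_conj ?_
      · rw [e.conj_ac]; exact zpow_mem (mem_zpowers _) _
      · rw [e.conj_bc]; exact inv_mem (mem_zpowers _)
    exact (mem_normalizer_iff.1 (hle hg) u).1 hu
  rcases Nat.lt_or_ge e.n 2 with hn | hn
  · -- order eight or a cyclic normal subgroup through `a`
    exfalso
    have hn1 : e.n = 1 := by have := e.one_le_n; omega
    have hi : (2 : ℤ) ∣ e.i := by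
      by_contra ho
      obtain ⟨s, hs⟩ := Int.not_even_iff_odd.1 (fun he => ho (even_iff_two_dvd.1 he))
      have hc : e.c ∈ zpowers e.a := by
        have : e.c = e.a ^ (2 ^ e.r) := by
          rw [e.pow_a, hs, zpow_add, zpow_one,
            (e.pow_c (2 * s)).2 (by rw [hn1, pow_one]; exact ⟨s, rfl⟩), one_mul]
        rw [this]; exact pow_mem (mem_zpowers _) _
      refine hm (metacyclic_of_gen_normal e.gen (c := e.a) (t := e.b) ?_
        (mem_sup_left (mem_zpowers _)) (mem_sup_right (mem_zpowers _)))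
      refine Subgroup.Normal.of_commutator_le X (le_trans (commutator_le_of_gens (N := zpowers e.c)
        e.gen ?_) (zpowers_le.2 hc))
      have hab : ⁅e.a, e.b⁆ = e.c := by
        rw [commutatorElement_def, e.conj_ab, mul_inv_cancel_right]
      rintro p (hp | hp) q (hq | hq) <;> rw [hp, hq]
      · rw [commutatorElement_self]; exact one_mem _
      · rw [hab]; exact mem_zpowers _
      · rw [← commutatorElement_inv, hab]; exact Subgroup.inv_mem _ (mem_zpowers _)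
      · rw [commutatorElement_self]; exact one_mem _
    have hr : e.r = 1 := by
      by_contra hr
      refine hgood ?_
      obtain ⟨k, hk⟩ : ∃ k, 2 ^ e.r = 2 * (2 * k) :=
        ⟨2 ^ (e.r - 2), by
          have := e.one_le_r
          rw [← mul_assoc, show (2 * 2 : ℕ) = 2 ^ 2 from rfl, ← pow_add]
          congr 1
          omega⟩
      rw [hn1, hk, show 2 * (2 * k) = 2 * k + 2 * k by ring, gsum_add]
      have hvo : Odd e.v := by obtain ⟨t, ht⟩ := e.four_dvd; exact ⟨2 * t, by omega⟩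
      obtain ⟨g, hg⟩ := two_dvd_gsum hvo k
      obtain ⟨t, ht⟩ := (hvo.pow (n := 2 * k)).add_odd (odd_one : Odd (1 : ℤ))
      obtain ⟨s, hs⟩ := hi
      refine ⟨g * t - s, ?_⟩
      rw [hg, hs, show 2 * g + e.v ^ (2 * k) * (2 * g) = 2 * g * (e.v ^ (2 * k) + 1) by ring, ht]
      ring
    have ha2 : e.a ^ 2 = 1 := by
      have := e.pow_a
      rw [hr, pow_one] at this
      rw [this, e.pow_c, hn1, pow_one]; exact hi
    have hc : e.c = (e.a * e.b) ^ 2 := by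
      have ha : e.a⁻¹ = e.a := inv_eq_of_mul_eq_one_right (by rw [← pow_two]; exact ha2)
      have := e.conj_ab
      rw [ha] at this
      rw [pow_two, ← mul_assoc, this, mul_assoc, ← pow_two, hb, mul_one]
    refine hm (metacyclic_of_gen_normal e.gen (c := e.a * e.b) (t := e.b) ?_ ?_
      (mem_sup_right (mem_zpowers _)))
    · refine Subgroup.Normal.of_commutator_le X (le_trans (commutator_le_of_gens (N := zpowers e.c)
        e.gen ?_) (zpowers_le.2 (hc ▸ pow_mem (mem_zpowers _) _)))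
      have hab : ⁅e.a, e.b⁆ = e.c := by
        rw [commutatorElement_def, e.conj_ab, mul_inv_cancel_right]
      rintro p (hp | hp) q (hq | hq) <;> rw [hp, hq]
      · rw [commutatorElement_self]; exact one_mem _
      · rw [hab]; exact mem_zpowers _
      · rw [← commutatorElement_inv, hab]; exact Subgroup.inv_mem _ (mem_zpowers _)
      · rw [commutatorElement_self]; exact one_mem _
    · have := mul_mem (mem_sup_left (mem_zpowers (e.a * e.b)) :
          e.a * e.b ∈ zpowers (e.a * e.b) ⊔ zpowers e.b)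
        (inv_mem (mem_sup_right (mem_zpowers e.b) : e.b ∈ zpowers (e.a * e.b) ⊔ zpowers e.b))
      rwa [mul_inv_cancel_right] at this
  rcases Nat.lt_or_ge e.r 2 with hr | hr
  · -- change the representative of `v`
    have hr1 : e.r = 1 := by have := e.one_le_r; omega
    refine ⟨⟨e.a, e.b, e.c, e.n, e.r, e.v + 2 ^ e.n, e.i, e.one_le_n, e.one_le_r, ?_, e.order_c,
      e.not_mem, e.conj_bc, ?_, e.conj_ab, e.pow_a, e.sq_b, e.gen, e.min_a⟩, Or.inr ⟨hb, ?_⟩⟩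
    · rw [show e.v + 2 ^ e.n - 1 = (e.v - 1) + 2 ^ e.n by ring]
      exact dvd_add e.four_dvd (by rw [show (4 : ℤ) = 2 ^ 2 from rfl]; exact pow_dvd_pow _ hn)
    · rw [zpow_add, (e.pow_c _).2 dvd_rfl, mul_one]; exact e.conj_ac
    · obtain ⟨s, hs⟩ := hwodd
      refine ⟨s + 1, ?_⟩
      show gsum (e.v + 2 ^ e.n) (2 ^ e.r) - 2 * e.i = 2 ^ (e.n + 1) * (s + 1)
      rw [hr1, pow_one] at hw ⊢
      simp only [gsum] at hw ⊢
      rw [pow_succ]; rw [hs] at hw
      linarith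
  -- a quaternion pair
  obtain ⟨k, hk⟩ : ∃ k, 2 ^ e.r = 2 * k := ⟨2 ^ (e.r - 1), by
    rw [← pow_succ']; congr 1; omega⟩
  obtain ⟨k', hk'⟩ : ∃ k', k = 2 * k' := ⟨2 ^ (e.r - 2), by
    have : 2 ^ e.r = 2 * (2 * 2 ^ (e.r - 2)) := by
      rw [← mul_assoc, show (2 * 2 : ℕ) = 2 ^ 2 from rfl, ← pow_add]; congr 1; omega
    omega⟩
  have hvo : Odd e.v := by obtain ⟨t, ht⟩ := e.four_dvd; exact ⟨2 * t, by omega⟩
  obtain ⟨j, hj⟩ := two_dvd_gsum hvo k'
  rw [← hk'] at hj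
  have hW : gsum e.v (2 ^ e.r) = 2 * j + e.v ^ k * (2 * j) := by
    rw [hk, two_mul k, gsum_add, hj]
  set h' := e.a ^ k * e.c ^ j with hh'
  set b' := e.b * h' with hb'
  have hak : e.b * e.a ^ k * e.b⁻¹ = e.c ^ (-(2 * j)) * e.a ^ k := by
    rw [← hj]
    have h1 := e.conj_a_pow_b k
    calc e.b * e.a ^ k * e.b⁻¹
        = (e.c ^ gsum e.v k)⁻¹ * (e.c ^ gsum e.v k * e.b) * e.a ^ k * e.b⁻¹ := by group
      _ = (e.c ^ gsum e.v k)⁻¹ * e.a ^ k := by rw [← h1]; group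
      _ = _ := by rw [zpow_neg]
  have hcj : (e.a ^ k)⁻¹ * e.c ^ (-j) * e.a ^ k = e.c ^ (-j * e.v ^ k) := by
    rw [← e.conj_a_pow_c]
    have h1 : e.a ^ k * e.a ^ k = e.c ^ e.i := by rw [← pow_add, ← two_mul, ← hk, e.pow_a]
    have h2 : e.c ^ e.i * e.c ^ (-j) * (e.c ^ e.i)⁻¹ = e.c ^ (-j) := by group
    calc (e.a ^ k)⁻¹ * e.c ^ (-j) * e.a ^ k
        = (e.a ^ k)⁻¹ * (e.a ^ k * e.a ^ k * e.c ^ (-j) * (e.a ^ k * e.a ^ k)⁻¹) * e.a ^ k := by
          rw [h1, h2]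
      _ = _ := by group
  have hb'2 : b' ^ 2 = e.c ^ (2 ^ (e.n - 1)) := by
    have e1 : b' ^ 2 = e.c ^ (-(2 * j) + e.i + -j * e.v ^ k + j) := by
      calc b' ^ 2 = (e.b * e.a ^ k * e.b⁻¹) * (e.b * e.c ^ j * e.b⁻¹) * e.b ^ 2 *
            (e.a ^ k * e.c ^ j) := by rw [hb', hh', pow_two, pow_two]; group
        _ = e.c ^ (-(2 * j)) * (e.a ^ k * e.a ^ k) * ((e.a ^ k)⁻¹ * e.c ^ (-j) * e.a ^ k) *
            e.c ^ j := by rw [hak, e.conj_b_pow, hb, mul_one]; group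
        _ = _ := by rw [← pow_add, ← two_mul, ← hk, e.pow_a, hcj, ← zpow_add, ← zpow_add, ← zpow_add]
    obtain ⟨s, hs⟩ := hwodd
    rw [e1, ← zpow_natCast, ← mul_inv_eq_one, ← zpow_neg, ← zpow_add, e.pow_c]
    have hn2 : (2 : ℤ) ^ e.n = 2 ^ (e.n - 1) * 2 := by rw [← pow_succ]; congr 1; omega
    refine ⟨-s - 1, ?_⟩
    push_cast
    rw [hs, hn2, hW] at hw
    rw [hn2]
    linarith
  have hcomm : ⁅e.a, b'⁆ = e.c ^ (1 - j * (e.v - 1) * e.v ^ k) := by
    calc ⁅e.a, b'⁆ = (e.a * e.b * e.a⁻¹) * e.a ^ k * (e.a * e.c ^ j * e.a⁻¹) * (e.c ^ j)⁻¹ *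
          (e.a ^ k)⁻¹ * e.b⁻¹ := by rw [commutatorElement_def, hb', hh']; group
      _ = e.c * (e.b * (e.a ^ k * e.c ^ (j * (e.v - 1)) * (e.a ^ k)⁻¹) * e.b⁻¹) := by
        rw [e.conj_ab, ← conj_zpow, e.conj_ac, ← zpow_mul, mul_comm e.v, mul_sub, mul_one,
          zpow_sub]
        group
      _ = _ := by rw [e.conj_a_pow_c, e.conj_b_pow, sub_eq_add_neg 1, zpow_add, zpow_one]
  have hgen' : closure ({e.a, b'} : Set X) = ⊤ := by
    have ha : e.a ∈ closure ({e.a, b'} : Set X) := subset_closure (by simp)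
    have hb'm : b' ∈ closure ({e.a, b'} : Set X) := subset_closure (by simp)
    have hcm : ⁅e.a, b'⁆ ∈ closure ({e.a, b'} : Set X) := by
      rw [commutatorElement_def]
      exact mul_mem (mul_mem (mul_mem ha hb'm) (inv_mem ha)) (inv_mem hb'm)
    have hcmem : e.c ∈ closure ({e.a, b'} : Set X) := by
      refine zpowers_le.2 (hcomm ▸ hcm) (mem_zpowers_zpow_odd hX e.c ?_)
      obtain ⟨t, ht⟩ := e.four_dvd
      exact ⟨-(j * (2 * t) * e.v ^ k), by rw [ht]; ring⟩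
    rw [eq_top_iff, ← e.gen, closure_le]
    rintro p (hp | hp) <;> rw [hp]
    · exact ha
    · have : e.b = b' * (e.a ^ k * e.c ^ j)⁻¹ := by rw [hb', hh', mul_inv_cancel_right]
      rw [this]
      exact mul_mem hb'm (inv_mem (mul_mem (pow_mem ha k) (zpow_mem hcmem j)))
  have hR : b' ^ 2 ∈ rSub X := by
    rw [hb'2, show 2 ^ (e.n - 1) = 2 ^ (e.n - 2) * 2 by rw [← pow_succ]; congr 1; omega, pow_mul]
    refine sq_commutator_mem (pow_mem ?_ _)
    have := commutator_mem_commutator_top e.a e.b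
    rwa [show ⁅e.a, e.b⁆ = e.c by rw [commutatorElement_def, e.conj_ab, mul_inv_cancel_right]] at this
  obtain ⟨e', he'⟩ := exists_ext_of_gens hX hm hcyc hgen' hR
  rcases e'.sq_b with h1 | h1
  · exfalso
    rw [he', hb'2, ← orderOf_dvd_iff_pow_eq_one, e.order_c] at h1
    have := (Nat.pow_dvd_pow_iff_le_right (le_refl 2)).1 h1
    omega
  · exact ⟨e', Or.inl h1⟩

end Cfsg.Agent.Fus.Bicyclic
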