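import Cfsg.Agent.Lib.Fus.Bicyclic.OrderThree
import Cfsg.Agent.Lib.Fus.Bicyclic.Noncentral

/-!
Subgroups of a bicyclic non-metacyclic `2`-group with noncyclic derived subgroup and their
automorphisms of order three and seven.
-/

set_option autoImplicit false
set_option linter.style.haveILetI false
set_option linter.unusedSectionVars false
set_option maxHeartbeats 1000000

open scoped commutatorElement

namespace Cfsg.Agent.Fus.Bicyclic

open Subgroup

universe u v

theorem autQ_ne_one_of_moves {M : Type v} [Group M] [Finite M] {β : MulAut M} {x : M}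
    (hx : x⁻¹ * β x ∉ frattini M) : (β x : M ⧸ frattini M) ≠ x := fun e =>
  hx (QuotientGroup.eq.1 e.symm)

variable {X : Type u} [Group X] [Finite X]

namespace Setup

variable (St : Setup X)

include St

/-- A nontrivial automorphism of order three of a subgroup of `Φ` is fixed point free. -/
theorem fpf_sub : ∀ (n : ℕ) {M : Type u} [Group M] [Finite M], Nat.card M ≤ n →
    ∀ (ι : M →* X), Function.Injective ι → (∀ m, ι m ∈ frattini X) →
    ∀ β : MulAut M, β ^ 3 = 1 → β ≠ 1 → ∀ x, β x = x → x = 1 := by
  intro n
  induction n with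
  | zero =>
    intro M _ _ h
    exact absurd h (by have := Nat.card_pos (α := M); omega)
  | succ n ih =>
    intro M _ _ hcard ι hι hΦ β h3 hne
    haveI : Fact (Nat.Prime 2) := ⟨Nat.prime_two⟩
    have hM : IsPGroup 2 M := St.isP.of_injective ι hι
    set F := frattini M
    have hidx : F.index ≤ 4 :=
      St.index_le_four ι hι hΦ F fun m => Grp.pGroup_pow_mem_frattini hM m
    -- some class is moved
    obtain ⟨e, he⟩ : ∃ e, e⁻¹ * β e ∉ F := by
      by_contra h; push Not at h
      exact hne (fixed_of_frattini (p := 2) hM β Nat.prime_three (by norm_num) h3 h)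
    -- and then none is fixed
    have hmove : ∀ x, x⁻¹ * β x ∈ F → x ∈ F := by
      intro x hx
      by_contra hxF
      obtain ⟨y, hy, hfy⟩ := exists_fixed_rep hM β Nat.prime_three (by norm_num) h3 F
        (fun z hz => frattini_map_mem β hz) hx
      have hyF : y ∉ F := fun h => hxF (by
        have := mul_mem h (inv_mem hy)
        rwa [show y * (x⁻¹ * y)⁻¹ = x by group] at this)
      have he1 : e ∉ F := fun h => he (mul_mem (inv_mem h) (frattini_map_mem β h))
      have hye : y⁻¹ * e ∉ F := fun h => he (by
        rw [show e⁻¹ * β e = (y⁻¹ * e)⁻¹ * β (y⁻¹ * e) by rw [map_mul, map_inv, hfy]; group]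
        exact mul_mem (inv_mem h) (frattini_map_mem β h))
      have hbe : β e ∉ F := fun h => he1 (by
        have := frattini_map_mem β⁻¹ h
        rwa [MulAut.inv_apply_self] at this)
      have hybe : y⁻¹ * β e ∉ F := fun h => hye (by
        have := frattini_map_mem β⁻¹ h
        rwa [show y⁻¹ * β e = β (y⁻¹ * e) by rw [map_mul, map_inv, hfy], MulAut.inv_apply_self]
          at this)
      have hbbe : e⁻¹ * β (β e) ∉ F := fun h => he (by
        have := frattini_map_mem β h
        rw [map_mul, map_inv, cube β h3] at this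
        rw [show e⁻¹ * β e = ((β e)⁻¹ * e)⁻¹ by group]
        exact inv_mem this)
      have hbe2 : (β e)⁻¹ * β (β e) ∉ F := fun h => he (by
        have := frattini_map_mem β⁻¹ h
        rwa [show (β e)⁻¹ * β (β e) = β (e⁻¹ * β e) by rw [map_mul, map_inv],
          MulAut.inv_apply_self] at this)
      have hbbe0 : β (β e) ∉ F := fun h => hbe (by
        have := frattini_map_mem β⁻¹ h
        rwa [MulAut.inv_apply_self] at this)
      have hybbe : y⁻¹ * β (β e) ∉ F := fun h => hybe (by
        have := frattini_map_mem β⁻¹ h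
        rwa [show y⁻¹ * β (β e) = β (y⁻¹ * β e) by rw [map_mul, map_inv, hfy],
          MulAut.inv_apply_self] at this)
      have e1 : ∀ u : M, u ∉ F → (1 : M ⧸ F) ≠ u := fun u hu h =>
        hu ((QuotientGroup.eq_one_iff u).1 h.symm)
      have e2 : ∀ u v : M, u⁻¹ * v ∉ F → (u : M ⧸ F) ≠ v := fun u v hu h => hu (QuotientGroup.eq.1 h)
      have := five_le_card (1 : M ⧸ F) (y : M ⧸ F) (e : M ⧸ F) ((β e : M) : M ⧸ F)
        ((β (β e) : M) : M ⧸ F) (e1 y hyF) (e1 e he1) (e1 _ hbe) (e1 _ hbbe0)
        (e2 y e hye) (e2 y _ hybe) (e2 y _ hybbe) (e2 e _ he) (e2 e _ hbbe) (e2 _ _ hbe2)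
      rw [Subgroup.index] at hidx
      omega
    by_cases htriv : ∀ f ∈ F, β f = f
    · -- a four-group
      obtain ⟨t1, t2, t3, t4, t5⟩ := triple_of_triv β h3 hM htriv e
      set k := e⁻¹ * β e with hk
      have hkk : k * k = 1 := by
        by_contra hkk
        exact St.no_inv (s := ι k) (q := ι (β k)) (hΦ _) (hΦ _)
          (by rw [← map_pow, ← four_eq, t1, map_one])
          (by rw [← map_mul]; exact fun h => hkk (hι (h.trans (map_one ι).symm)))
          (by rw [← map_inv, ← map_mul, ← map_mul, t4, map_inv])
          (Or.inr (by rw [← map_mul ι, ← map_mul ι, t2]))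
      have hl : Commute k (β k) := by
        have : β k * k = k * β k := by
          rw [← mul_inv_eq_iff_eq_mul.1 t4 |>.symm]
          rw [inv_eq_of_mul_eq_one_right hkk]
        exact this.symm
      intro x hx
      have hxF : x ∈ F := hmove x (by rw [hx, inv_mul_cancel]; exact one_mem _)
      -- the Frattini subgroup is trivial
      set D := closure ({k, β k} : Set M) with hD
      haveI : (D ⊔ F).Normal := Normal.of_commutator_le M
        ((Grp.pGroup_commutator_le_frattini hM).trans le_sup_right)
      have hkbk : k⁻¹ * β k ∉ F := fun h => he (hmove k h)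
      have hkF : k ∉ F := he
      have hbkF : β k ∉ F := fun h => hkF (by
        have := frattini_map_mem β⁻¹ h
        rwa [MulAut.inv_apply_self] at this)
      have hpr : k * β k ∉ F := fun h => hkbk (by rwa [inv_eq_of_mul_eq_one_right hkk])
      have hDtop : D = ⊤ := by
        refine frattini_nongenerating (eq_top_iff.2 fun g _ => ?_)
        by_contra hg
        have e1 : ∀ u : M, u ∉ F → (1 : M ⧸ F) ≠ u := fun u hu h =>
          hu ((QuotientGroup.eq_one_iff u).1 h.symm)
        have e2 : ∀ u v : M, u⁻¹ * v ∉ F → (u : M ⧸ F) ≠ v := fun u v hu h =>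
          hu (QuotientGroup.eq.1 h)
        have hkD : k ∈ D ⊔ F := mem_sup_left (subset_closure (by simp))
        have hbD : β k ∈ D ⊔ F := mem_sup_left (subset_closure (by simp))
        have hgD : ∀ u ∈ D ⊔ F, (u : M ⧸ F) ≠ g := fun u hu h => hg (by
          rw [← mul_inv_cancel_left u g]
          exact mul_mem hu (mem_sup_right (QuotientGroup.eq.1 h)))
        have := five_le_card (1 : M ⧸ F) (k : M ⧸ F) ((β k : M) : M ⧸ F) ((k * β k : M) : M ⧸ F)
          (g : M ⧸ F) (e1 k hkF) (e1 _ hbkF) (e1 _ hpr)
          (fun h => hgD 1 (one_mem _) (by rw [QuotientGroup.mk_one]; exact h))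
          (e2 _ _ hkbk) (e2 _ _ (by rwa [inv_mul_cancel_left])) (hgD k hkD)
          (e2 _ _ (fun h => hkF (by
            rw [show k = β k * ((β k)⁻¹ * (k * β k)) * (β k)⁻¹ by group]
            exact Normal.conj_mem inferInstance _ h _)))
          (hgD _ hbD) (hgD _ (mul_mem hkD hbD))
        rw [Subgroup.index] at hidx
        omega
      have hbot : F = ⊥ := by
        refine Grp.frattini_eq_bot_of_exponent Nat.prime_two ?_ ?_
        · intro a b
          have hk' : D ≤ centralizer ({k, β k} : Set M) := (closure_le _).2 (by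
            intro w hw w' hw'
            rcases hw with rfl | rfl <;> rcases hw' with rfl | rfl <;>
              first | rfl | exact hl.eq | exact hl.eq.symm)
          have hc : D ≤ center M := (closure_le _).2 (fun w hw => mem_center_iff.2 fun g =>
            (mem_centralizer_iff.1 (hk' (hDtop.ge (mem_top g))) w hw).symm)
          exact mem_center_iff.1 (hc (hDtop.ge (mem_top b))) a
        · intro x
          have hx : x ∈ D := hDtop.ge (mem_top x)
          induction hx using closure_induction with
          | mem w hw =>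
            rcases hw with rfl | rfl
            · rw [pow_two, hkk]
            · rw [pow_two, t2, hkk]
          | one => simp
          | mul a b _ _ ha hb =>
            have hc : D ≤ centralizer ({k, β k} : Set M) := (closure_le _).2 (by
              intro w hw w' hw'
              rcases hw with rfl | rfl <;> rcases hw' with rfl | rfl <;>
                first | rfl | exact hl.eq | exact hl.eq.symm)
            have hab : Commute a b := by
              have hcz : D ≤ center M := (closure_le _).2 (fun w hw => mem_center_iff.2 fun g =>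
                (mem_centralizer_iff.1 (hc (hDtop.ge (mem_top g))) w hw).symm)
              exact mem_center_iff.1 (hcz (hDtop.ge (mem_top b))) a
            rw [hab.mul_pow, ha, hb, one_mul]
          | inv a _ ha => rw [inv_pow, ha, inv_one]
      rw [hbot, mem_bot] at hxF
      exact hxF
    · -- induction
      have hcardF : Nat.card F ≤ n := by
        have h1 := F.index_mul_card
        have h2 : 0 < Nat.card F := Nat.card_pos
        have h3 : 2 ≤ F.index := by
          rcases Nat.lt_or_ge F.index 2 with h | h
          · exfalso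
            have : F.index = 1 := by have := F.index_ne_zero_of_finite; omega
            exact he (by rw [index_eq_one.1 this]; exact mem_top _)
          · exact h
        nlinarith
      have hne' : restrAut β F ≠ 1 := fun h => htriv fun f hf => by
        have := congrArg (fun a : MulAut F => ((a ⟨f, hf⟩ : F) : M)) h
        simpa [restrAut_coe] using this
      intro x hx
      have hxF : x ∈ F := hmove x (by rw [hx, inv_mul_cancel]; exact one_mem _)
      exact congrArg Subtype.val (ih hcardF (ι.comp F.subtype) (hι.comp F.subtype_injective)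
        (fun m => hΦ _) (restrAut β F) (restrAut_pow β F 3 h3) hne' ⟨x, hxF⟩ (Subtype.ext hx))

/-- A subgroup meets the other cosets of `Φ` in at most one. -/
theorem inv_mul_mem {E : Subgroup X} (hE : E ≠ ⊤) {y e : X} (hy : y ∈ E) (hyΦ : y ∉ frattini X)
    (he : e ∈ E) (heΦ : e ∉ frattini X) : y⁻¹ * e ∈ frattini X := by
  by_contra h
  haveI : Fact (Nat.Prime 2) := ⟨Nat.prime_two⟩
  refine hE (frattini_nongenerating (eq_top_iff.2 fun g _ => ?_))
  rcases St.four_cosets hyΦ heΦ h g with h1 | h1 | h1 | h1
  · exact mem_sup_right h1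
  · rw [← mul_inv_cancel_left e g]; exact mul_mem (mem_sup_left he) (mem_sup_right h1)
  · rw [← mul_inv_cancel_left y g]; exact mul_mem (mem_sup_left hy) (mem_sup_right h1)
  · rw [← mul_inv_cancel_left (y * e) g]
    exact mul_mem (mem_sup_left (mul_mem hy he)) (mem_sup_right h1)

/-- Proper subgroups have rank at most three. -/
theorem frattini_index_le {E : Subgroup X} (hE : E ≠ ⊤) : (frattini ↥E).index ≤ 8 := by
  haveI : Fact (Nat.Prime 2) := ⟨Nat.prime_two⟩
  set A : Subgroup ↥E := (frattini X).subgroupOf E
  have hA2 : A.index ≤ 2 := by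
    by_cases h : ∀ e : ↥E, e ∈ A
    · rw [(eq_top_iff.2 (fun e _ => h e) : A = ⊤), index_top]; norm_num
    · push Not at h
      obtain ⟨y, hy⟩ := h
      have hq : ∀ q : ↥E ⧸ A, q = 1 ∨ q = (y : ↥E ⧸ A) := fun q =>
        QuotientGroup.induction_on q fun e => by
          by_cases he : e ∈ A
          · exact Or.inl ((QuotientGroup.eq_one_iff e).2 he)
          · exact Or.inr (QuotientGroup.eq.2 (mem_subgroupOf.2
              (St.inv_mul_mem hE y.2 (fun h => hy h) e.2 fun h => he h))).symm
      classical
      haveI := Fintype.ofFinite (↥E ⧸ A)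
      rw [Subgroup.index, Nat.card_eq_fintype_card]
      refine le_trans (Finset.card_le_card (t := ({1, (y : ↥E ⧸ A)} : Finset _)) fun q _ => ?_)
        Finset.card_le_two
      rcases hq q with rfl | rfl <;> simp
  set N := frattini ↥E
  have hE2 : IsPGroup 2 ↥E := St.isP.to_subgroup E
  have h4 : (N.subgroupOf A).index ≤ 4 :=
    St.index_le_four (E.subtype.comp A.subtype) (E.subtype_injective.comp A.subtype_injective)
      (fun m => mem_subgroupOf.1 m.2) (N.subgroupOf A) fun m =>
        mem_subgroupOf.2 (Grp.pGroup_pow_mem_frattini hE2 (m : ↥E))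
  have h1 : (N ⊓ A).index = (N.subgroupOf A).index * A.index := by
    rw [← relIndex_mul_index (inf_le_right : N ⊓ A ≤ A)]
    congr 1
    exact inf_relIndex_right N A
  have h2 : N.index ≤ (N ⊓ A).index :=
    Nat.le_of_dvd (Nat.pos_of_ne_zero Subgroup.index_ne_zero_of_finite) (index_dvd_of_le inf_le_left)
  nlinarith

/-- A self-centralizing subgroup contains `W` once it has an element outside `Φ` squaring into `W`. -/
theorem W_le_of_outer {E : Subgroup X} (hE : E ≠ ⊤)
    (hcen : ∀ g : X, (∀ e ∈ E, g * e = e * g) → g ∈ E) {y : X} (hy : y ∈ E)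
    (hyΦ : y ∉ frattini X) (hyy : y * y ∈ St.W) : St.W ≤ E := by
  intro w hw
  refine hcen w fun e he => ?_
  by_cases heΦ : e ∈ frattini X
  · exact (St.commute_W hw heΦ).symm
  · have h1 := St.commute_W hw (St.inv_mul_mem hE hy hyΦ he heΦ)
    have h2 := St.outer_commute_W hyΦ hyy hw
    calc w * e = w * y * (y⁻¹ * e) := by group
      _ = y * (w * (y⁻¹ * e)) := by rw [← h2, mul_assoc]
      _ = e * w := by rw [← h1]; group

/-- If the elements of `N(E)` centralising `W` are those of `E`, then `E` is normal. -/
theorem normal_of_centralizer {E : Subgroup X} (hEW : ∀ e ∈ E, ∀ w ∈ St.W, e * w = w * e)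
    (hNW : ∀ g ∈ normalizer (E : Set X), (∀ w ∈ St.W, g * w = w * g) → g ∈ E) :
    normalizer (E : Set X) = ⊤ := by
  haveI : Fact (Nat.Prime 2) := ⟨Nat.prime_two⟩
  haveI : Group.IsNilpotent X := St.isP.isNilpotent
  by_contra hN
  obtain ⟨g, hg, hgN⟩ := SetLike.exists_of_lt
    (Group.normalizerCondition_of_isNilpotent (normalizer (E : Set X)) (lt_top_iff_ne_top.2 hN))
  refine hgN (mem_normalizer_of_conj fun e he => ?_)
  refine hNW _ ((mem_normalizer_iff.1 hg e).1 (le_normalizer he)) fun w hw => ?_
  have hw' := St.W_normal.conj_mem w hw g⁻¹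
  have := hEW e he _ hw'
  calc g * e * g⁻¹ * w = g * (e * (g⁻¹ * w * g⁻¹⁻¹)) * g⁻¹ := by group
    _ = w * (g * e * g⁻¹) := by rw [this]; group

end Setup

end Cfsg.Agent.Fus.Bicyclic
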