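import Cfsg.Agent.Lib.Fus.Bicyclic.Datum
import Cfsg.Agent.Lib.Fus.Bicyclic.Models
import Cfsg.Agent.Lib.Fus.Alperin
import Cfsg.Agent.Lib.Fus.AbelianSystem
import Cfsg.Agent.Lib.Fus.EssentialRankTwo

/-!
A saturated non-inner system on a bicyclic non-metacyclic `2`-group forces a cyclic derived subgroup.
-/

set_option autoImplicit false
set_option linter.style.haveILetI false
set_option linter.unusedSectionVars false
set_option maxHeartbeats 1000000

namespace Cfsg.Agent.Fus.Bicyclic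

open Subgroup Cfsg.FusionSystem

universe u

variable {Ω : Type u} [Group Ω] {S : Subgroup Ω} [Finite S] {F : FusionSystem S}

/-- The data of an essential subgroup, read inside `↥S`. -/
theorem nonempty_datum (hS : IsPGroup 2 S) (hF : F.IsSaturated 2) {P : Subgroup Ω}
    (hP : F.IsEssential 2 P) (hlt : P < S) : Nonempty (EssDatum ↥S) := by
  haveI : Fact (Nat.Prime 2) := ⟨Nat.prime_two⟩
  have hPS : P ≤ S := hP.1.1
  haveI := finite_of_le hPS
  set E : Subgroup ↥S := P.subgroupOf S with hE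
  let ψ : ↥E ≃* ↥P := subgroupOfEquivOfLe hPS
  let c : MulAut ↥E ≃* MulAut ↥P := MulAut.congr ψ
  set A := F.autGroup P with hA
  have hψ : ∀ e : ↥E, ((ψ e : ↥P) : Ω) = ((e : ↥S) : Ω) := fun e => rfl
  have hc : ∀ (a : MulAut ↥E) (e : ↥E), c a (ψ e) = ψ (a e) := fun a e => by
    show ψ (a (ψ.symm (ψ e))) = ψ (a e)
    rw [MulEquiv.symm_apply_apply]
  have hconj : ∀ (g : ↥S) (hg : g ∈ normalizer (E : Set ↥S)),
      c (conjAut E g hg) ∈ autInducedBy S P := fun g hg => by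
    refine mem_autInducedBy.2 ⟨g, g.2, fun x => ?_⟩
    obtain ⟨e, rfl⟩ := ψ.surjective x
    rw [hc, hψ, hψ, conjAut_coe]
    rfl
  have hinn : ∀ a : MulAut ↥E, c a ∈ Inn ↥P → a ∈ MulAut.conj.range := by
    rintro a ⟨i, hi⟩
    refine ⟨ψ.symm i, MulEquiv.ext fun e => ψ.injective ?_⟩
    rw [← hc a e, ← hi]
    show ψ (ψ.symm i * e * (ψ.symm i)⁻¹) = i * ψ e * i⁻¹
    rw [map_mul, map_mul, map_inv, MulEquiv.apply_symm_apply]
  refine ⟨{
    E := E
    ne_top := fun h => hlt.not_ge (subgroupOf_eq_top.1 h)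
    centric := fun g hg => ?_
    H := A.comap c.toMonoidHom
    conj_mem := fun g hg => autInducedBy_le_autGroup F hPS (hconj g hg)
    ker := fun a ha h => hinn a (mem_inn_of_frattini_stab hS hP ha fun y => ?_)
    rad := fun K hK hKn hKp k hk => hinn k ?_
    syl := ?_ }⟩
  · refine mem_subgroupOf.2 (centralizerIn_le_of_centric hP.1
      ⟨g.2, mem_centralizer_iff.2 fun x hx => ?_⟩)
    exact (congrArg Subtype.val (hg ⟨x, hPS hx⟩ (mem_subgroupOf.2 hx))).symm
  · obtain ⟨e, rfl⟩ := ψ.surjective y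
    show (ψ e)⁻¹ * c a (ψ e) ∈ _
    rw [hc, ← map_inv, ← map_mul]
    exact frattini_le_comap_frattini_of_surjective (φ := ψ.toMonoidHom) ψ.surjective (h e)
  · rw [← (radical_of_essential hS hP).2]
    set K' : Subgroup ↥A := (K.map c.toMonoidHom).subgroupOf A with hK'
    have hn : K'.Normal := ⟨fun x hx g => by
      obtain ⟨k', hk', hkx⟩ := mem_subgroupOf.1 hx
      obtain ⟨h', hh'⟩ := c.surjective (g : MulAut ↥P)
      refine mem_subgroupOf.2 ⟨_, hKn h' (mem_comap.2 (show c h' ∈ A from hh' ▸ g.2)) k' hk', ?_⟩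
      rw [map_mul, map_mul, map_inv, hkx]
      show c h' * _ * (c h')⁻¹ = _
      rw [hh']
      rfl⟩
    have hp' : IsPGroup 2 ↥K' := (hKp.map c.toMonoidHom).comap_subtype
    exact ⟨⟨c k, hK hk⟩, Grp.le_pCore hn hp' (mem_subgroupOf.2 ⟨k, hk, rfl⟩), rfl⟩
  · obtain ⟨-, R, hR⟩ := fullyAutomized_of_fullyNormalized hS hF hP.2.1
    have hodd : ¬ 2 ∣ (R : Subgroup ↥A).index := R.not_dvd_index
    rw [hR] at hodd
    have hmap : (E.normalizerMonoidHom).range.map c.toMonoidHom = autInducedBy S P := by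
      refine le_antisymm ?_ fun α hα => ?_
      · rintro _ ⟨_, ⟨g, rfl⟩, rfl⟩
        exact hconj g g.2
      · obtain ⟨g, hg, hgα⟩ := mem_autInducedBy.1 hα
        have hn : (⟨g, hg⟩ : ↥S) ∈ normalizer (E : Set ↥S) := by
          refine mem_normalizer_of_conj fun e he => ?_
          refine mem_subgroupOf.2 ?_
          have h1 := hgα ⟨_, mem_subgroupOf.1 he⟩
          show g * (e : Ω) * g⁻¹ ∈ P
          rw [← h1]; exact SetLike.coe_mem _
        refine ⟨conjAut E ⟨g, hg⟩ hn, ⟨⟨⟨g, hg⟩, hn⟩, rfl⟩, MulEquiv.ext fun x => ?_⟩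
        obtain ⟨e, rfl⟩ := ψ.surjective x
        refine Subtype.ext ?_
        rw [hgα]
        show ((c (conjAut E ⟨g, hg⟩ hn) (ψ e) : ↥P) : Ω) = _
        rw [hc, hψ, hψ, conjAut_coe]
        rfl
    have hAmap : (A.comap c.toMonoidHom).map c.toMonoidHom = A :=
      map_comap_eq_self_of_surjective c.surjective A
    intro h2
    refine hodd ?_
    rw [show ((autInducedBy S P).subgroupOf A).index = (autInducedBy S P).relIndex A from rfl,
      ← hmap, ← hAmap, relIndex_map_map_of_injective _ _ c.injective]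
    exact h2

/-- A saturated non-inner system needs a cyclic derived subgroup. -/
theorem cyclic_of_noninner (hS : IsPGroup 2 S) {x y : ↥S} (h : IsBic x y) (hm : ¬ IsMetacyclic ↥S)
    (hF : F.IsSaturated 2)
    (hne : ¬ ∀ P : Subgroup Ω, F.Hom P = (innerFusionSystem S).Hom P) :
    IsCyclic ↥(commutator ↥S) := by
  haveI : Fact (Nat.Prime 2) := ⟨Nat.prime_two⟩
  by_contra hcyc
  have St : Setup ↥S := ⟨hS, ⟨x, y, h⟩, hm, hcyc⟩
  have hautS : F.autGroup S ≤ autInducedBy S S := by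
    have hp : IsPGroup 2 (F.autGroup S) :=
      (h.isPGroup_aut hS hm).to_subgroup (F.autGroup S)
    obtain ⟨-, R, hR⟩ := fullyAutomized_of_fullyNormalized hS hF (fullyNormalized_self F)
    intro α hα
    have htop : (⊤ : Subgroup (F.autGroup S)) = R :=
      R.3 (hp.of_equiv topEquiv.symm) le_top
    have h1 : (⟨α, hα⟩ : F.autGroup S) ∈ (R : Subgroup (F.autGroup S)) := htop ▸ mem_top _
    rw [hR] at h1
    exact mem_subgroupOf.1 h1
  have key : ∀ {P : Subgroup Ω} {f : Ω → Ω}, IsMap F P f →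
      ∃ g ∈ S, ∀ z ∈ P, f z = g * z * g⁻¹ := by
    intro P f hf
    refine alperin hS hF (fun P f => ∃ g ∈ S, ∀ z ∈ P, f z = g * z * g⁻¹) ?_ ?_ ?_ ?_ ?_ hf
    · rintro P f g ⟨a, ha, h1⟩ e
      exact ⟨a, ha, fun z hz => (e z hz).symm.trans (h1 z hz)⟩
    · rintro P Q f g - - hPQ ⟨a, ha, h1⟩ ⟨b, hb, h2⟩
      refine ⟨b * a, S.mul_mem hb ha, fun z hz => ?_⟩
      show g (f z) = _
      rw [h2 _ (hPQ z hz), h1 z hz]
      group
    · rintro P Q f - hle ⟨a, ha, h1⟩
      exact ⟨a, ha, fun z hz => h1 z (hle hz)⟩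
    · intro α hα
      obtain ⟨g, hg, h1⟩ := mem_autInducedBy.1 (hautS hα)
      exact ⟨g, hg, fun z hz => by
        rw [show z = ((⟨z, hz⟩ : ↥S) : Ω) from rfl, autFun_coe]; exact h1 ⟨z, hz⟩⟩
    · intro P hP α hα
      rcases hP.1.1.lt_or_eq with hlt | heq
      · obtain ⟨D⟩ := nonempty_datum hS hF hP hlt
        exact (D.no_datum St).elim
      · subst heq
        obtain ⟨g, hg, h1⟩ := mem_autInducedBy.1 (hautS hα)
        exact ⟨g, hg, fun z hz => by
          rw [show z = ((⟨z, hz⟩ : ↥P) : Ω) from rfl, autFun_coe]; exact h1 ⟨z, hz⟩⟩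
  refine hne fun P => Set.ext fun φ => ⟨fun hφ => ?_, ?_⟩
  · obtain ⟨g, hg, h1⟩ := key (isMap_toFun hφ)
    exact ⟨(F.le_of_mem hφ).1, g, hg, fun z => by rw [← h1 z z.2, toFun_coe]⟩
  · rintro ⟨hP, g, hg, h1⟩
    rw [show φ = conjHom P g from MonoidHom.ext fun z => h1 z]
    exact F.conj_mem hP hg

end Cfsg.Agent.Fus.Bicyclic
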